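import Cfsg.Agent.Lib.Known2.LE3
import Cfsg.Agent.Lib.Amalg.Extremal
import Cfsg.Agent.Lib.Invol.Focal

/-! Large extraspecial subgroups lie in the subgroups of index two of `C(z)`. -/

set_option autoImplicit false

namespace Cfsg.Lib.Known2

open Subgroup Cfsg.Lib.Amalg

variable {G : Type*} [Group G] [Finite G] {Q K : Subgroup G} {z b r : G}

theorem LS.cent_P (h : LS Q z) (hb : b ∈ Q) (hbb : b * b = 1) (hP : ∀ p ∈ Q, b * p = p * b → r * p = p * r) :
    (r = 1 ∨ r = z) ∨ (r = b ∨ r = b * z) := by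
  have hr := hP z h.mem (h.cen b hb)
  refine h.toES.double_perp hb (h.mem_of_inner hr fun y hy => ?_) hP
  by_cases e : b * y = y * b
  · left; exact conj_eq_of_comm (hP y hy e)
  have hy' := h.norm r hr y hy
  have hc : y⁻¹ * (r * y * r⁻¹) ∈ Q := mul_mem (inv_mem hy) hy'
  have hsq : (r * y * r⁻¹) * (r * y * r⁻¹) = y * y := by
    rw [conj_mul]
    rcases h.sq_mem y hy with e' | e' <;> rw [e']
    · group
    · exact conj_eq_of_comm hr
  have hyb : y * b * (y * b) = y * y * z := by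
    calc y * b * (y * b) = y * (b * y) * b := by group
      _ = y * y * (b * z * b) := by rw [h.toES.anti hb hy e]; group
      _ = _ := by rw [h.cen b hb, mul_assoc z, hbb, mul_one]
  have hne : y * y * z ≠ y * y := fun e => h.ne (by simpa using e)
  rcases h.toES.double_perp hb hc (fun p hp e' => by
    symm
    rw [h.toES.mul_comm_iff hp (inv_mem hy) hy']
    have k3 : p * y⁻¹ = y⁻¹ * p ↔ p * y = y * p :=
      ⟨fun e => by simpa using ((show Commute p y⁻¹ from e).inv_right).eq,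
        fun e => ((show Commute p y from e).inv_right).eq⟩
    have k4 : p * y = y * p ↔ (r * p * r⁻¹) * (r * y * r⁻¹) = (r * y * r⁻¹) * (r * p * r⁻¹) := by
      simp only [conj_mul, mul_left_inj, mul_right_inj]
    rw [k3, k4, conj_eq_of_comm (hP p hp e')]) with (e' | e') | (e' | e')
  · left; exact (inv_mul_eq_one.1 e').symm
  · right; rw [← e']; group
  · exfalso
    have : r * y * r⁻¹ = y * b := by rw [← e']; group
    rw [this, hyb] at hsq
    exact hne hsq
  · exfalso
    have : r * y * r⁻¹ = y * b * z := by rw [mul_assoc y, ← e']; group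
    have hm : y * b ∈ Q := mul_mem hy hb
    rw [this, mul_assoc, ← mul_assoc z, ← h.cen _ hm, mul_assoc (y * b), h.sq, mul_one,
      hyb] at hsq
    exact hne hsq

theorem LS.odd_index (h : LS Q z) : Odd (centralizer {z}).index := by
  obtain ⟨T, hT, -, hz⟩ := h.exists_syl
  exact Nat.not_even_iff_odd.1 fun e => hT.not_dvd_index ((even_iff_two_dvd.1 e).trans (index_dvd_of_le hz))

omit [Finite G] in
theorem mul_mem_two {H : Subgroup G} (hK : K.relIndex H = 2) {x y : G} (hx : x ∈ H) (hy : y ∈ H) :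
    x * y ∈ K ↔ (x ∈ K ↔ y ∈ K) := mul_mem_iff_of_index_two hK (a := ⟨x, hx⟩) (b := ⟨y, hy⟩)

omit [Finite G] in
theorem mem_of_anti {H : Subgroup G} (hK : K.relIndex H = 2) {x y w : G} (hx : x ∈ H) (hy : y ∈ H) (hw : w ∈ H)
    (e : x * y = y * x * w) : w ∈ K := by
  have h1 := mul_mem_two hK hx hy
  rw [e, mul_mem_two hK (mul_mem hy hx) hw, mul_mem_two hK hy hx] at h1
  tauto

theorem LS.le_of_index_two (h : LS Q z) (h8 : 8 < Nat.card Q) (hG : ∀ K : Subgroup G, K.index ≠ 2)
    (hK : K.relIndex (centralizer {z}) = 2) : Q ≤ K := by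
  have hQ := h.toES.le_cent
  by_contra hn
  obtain ⟨e, he, heK, hee⟩ : ∃ e ∈ Q, e ∉ K ∧ e * e = 1 := by
    by_contra! h1
    obtain ⟨s, hs, hs'⟩ := h.toES.exists_rep (· ∈ K) fun x hx y hy => mul_mem_two hK (hQ hx) (hQ hy)
    obtain ⟨a, ha, a', ha', e1, e2, e3⟩ := h.toES.exists_anti_cent h8 hs
    obtain ⟨y, hy, hyK⟩ := SetLike.not_le_iff_exists.1 hn
    have key : ∀ c ∈ Q, c ∈ K → c * y * c = y := fun c hc hcK => by
      have h2 := (h.sq_mem _ (mul_mem hy hc)).resolve_left (h1 _ (mul_mem hy hc) (by rwa [K.mul_mem_cancel_right hcK]))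
      rw [← (h.sq_mem y hy).resolve_left (h1 y hy hyK), mul_assoc, mul_right_inj, ← mul_assoc] at h2
      exact h2
    have h2 := (hs' a ha).2 e1
    have h3 := (hs' a' ha').2 e2
    have h4 := key _ (mul_mem ha ha') (mul_mem h2 h3)
    refine e3 (mul_left_cancel (a := a * a' * y) ?_)
    rw [h4, show a * a' * y * (a' * a) = a * (a' * y * a') * a by group, key a' ha' h3, key a ha h2]
  obtain ⟨x, hx, y, hy, hxy⟩ := h.nonab
  have hzK := mem_of_anti hK (hQ hx) (hQ hy) (hQ h.mem) (h.toES.anti hx hy hxy)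
  obtain ⟨g, hg, hg'⟩ := thompson_transfer_extremal hG h.odd_index hK (t := e) (T := Q ⊓ centralizer {e})
    (orderOf_eq_prime (by rwa [sq]) fun e1 => heK (e1 ▸ one_mem K)) h.toES.isPGroup.to_inf_left inf_le_right
  have h1 := h.conj g
  have h2 : g * z * g⁻¹ ∈ Q ∧ g * z * g⁻¹ ∉ K := by
    rcases h.cent_P he hee (r := g * z * g⁻¹) (fun p hp e1 => by
      have := mem_cent_single.1 (hg' p ⟨hp, mem_cent_single.2 e1.symm⟩)
      calc g * z * g⁻¹ * p = g * (z * (g⁻¹ * p * g)) * g⁻¹ := by group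
        _ = _ := by rw [← this]; group) with (e1 | e1) | (e1 | e1)
    · exact absurd e1 h1.ne
    · have hgH := mem_cent_single.2 (comm_of_conj_eq e1)
      rw [mul_mem_two hK (mul_mem (inv_mem hgH) (hQ he)) hgH, mul_mem_two hK (inv_mem hgH) (hQ he), inv_mem_iff] at hg
      tauto
    · exact e1 ▸ ⟨he, heK⟩
    · exact e1 ▸ ⟨mul_mem he h.mem, by rwa [K.mul_mem_cancel_right hzK]⟩
  obtain ⟨a, ha, a', ha', e1, e2, e3⟩ := h1.toES.exists_anti_cent (by rwa [card_cj]) (h.sym h2.1 h8)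
  exact h2.2 (mem_of_anti hK (mem_cent_single.2 e1.symm) (mem_cent_single.2 e2.symm) (hQ h2.1) (h1.toES.anti ha ha' e3))

end Cfsg.Lib.Known2
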