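import Cfsg.Agent.Lib.Push.LXe

/-! Large extraspecial subgroups: a subgroup of index two in `C(z)` prevents weak closure of `z` in `E`. -/

set_option autoImplicit false

namespace Cfsg.Lib.Known2

open Subgroup Cfsg.Lib.Amalg
open scoped commutatorElement

variable {G : Type*} [Group G] [Finite G] {X : Set G} {E K : G → Subgroup G} {z t s f x y y' u w e δ : G}

namespace WC
variable (F : WC X E K) (p : Pa X z t)
include F p

theorem beta1 (hy : y ∈ E z) (hy' : ⁅t, y⁆ = z) : E z ⊓ E t = ⊥ := by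
  have h := F.ls z p.hz
  have h' := F.ls t p.ht
  refine eq_bot_iff.2 fun δ ⟨h1, h2⟩ => mem_bot.2 (by_contra fun h3 => ?_)
  have h4 : ∀ x ∈ E z, ⁅t, x⁆ = z → ¬ Commute δ x := fun x hx e h4 => by
    obtain ⟨x', -, rfl⟩ := h.perp0 h'.sq p.c h1 hx e (fun w hw => F.cen p h1 h2 hw) h4
    exact h3 (F.cm_triv p.ht h2)
  rcases h.cent_P h1 (F.sq1 p h1 h2) (r := t) fun x hx e => by
    have hm := h.cm_mem p.c hx
    have h5 := h.cm_cm h'.sq hx p.c
    rcases F.M2 p h1 h2 h3 hx e (cm_one.1 (h5.trans ((h.sq_mem _ hm).resolve_right fun e' => h4 _ hm (h5.trans e')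
      (h.perp' h'.sq p.c hx h1 (Or.inl (cm_one.2 (h'.cen δ h2).symm))).symm))) (fun e' => h4 x hx e' e) with e' | e'
    · exact cm_one.1 e'
    · have := h.cm_mul_z hx hy'
      rw [e', mul_assoc, h.sq, mul_one] at this
      exact absurd (this.symm.trans (F.cm_triv p.ht (this ▸ h2))) h3
    with (e | e) | (e | e) <;> refine F.nm p ?_ <;> rw [e]
  exacts [one_mem _, h.mem, h1, mul_mem h1 h.mem]

variable (h0 : E z ⊓ E t = ⊥)
include h0

omit [Finite G] in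
theorem cw (hu : u ∈ E t) (hc : Commute u z) (hw : w ∈ E z) (hc' : Commute t w) : Commute u w :=
  cm_one.1 (mem_bot.1 (h0.le (F.cm_inf p hw hc' hu hc)))

omit [Finite G] in
theorem cw' (hu : u ∈ E t) (hc : Commute u z) (hx : x ∈ E z) (hw : w ∈ E z) (hc' : Commute t w) : Commute ⁅u, x⁆ w := by
  rw [(F.ls z p.hz).dual hc hx hw, cm_one.2 (F.cw p h0 hu hc hw hc').inv_left]; exact Commute.one_right x

theorem ab (α : ∀ y ∈ E z, ⁅t, y⁆ ≠ z) (hu : u ∈ E t) (hc : Commute u z) (hw : w ∈ E t) (hc' : Commute w z) : Commute u w := by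
  have h := F.ls z p.hz
  have k : ∀ u ∈ E t, Commute u z → ∀ x ∈ E z, Commute t ⁅u, x⁆ := fun u hu hc x hx => by
    obtain ⟨y, hy, e | e⟩ := h.perp (F.ls t p.ht).sq p.c (h.cm_mem hc hx) fun y hy e =>
      F.cw' p h0 hu hc hx hy (cm_one.1 (e.resolve_right (α y hy))) <;> rw [e]
    exacts [(F.sqa p α hy).2, (F.sqa p α hy).2.mul_right p.c]
  have k' : ∀ u ∈ E t, Commute u z → ∀ w ∈ E t, Commute w z → ∀ x ∈ E z, u * w * x * (u * w)⁻¹ = ⁅w, x⁆ * ⁅u, x⁆ * x :=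
    fun u hu hc w hw hc' x hx => by
      rw [← conj_eq_of_comm (F.cw p h0 hu hc (h.cm_mem hc' hx) (k w hw hc' x hx)).eq]
      simp only [commutatorElement_def]; group
  rcases h.selfc ((w * u)⁻¹ * (u * w)) fun x hx => comm_of_conj_eq (by
    calc _ = (w * u)⁻¹ * (u * w * x * (u * w)⁻¹) * (w * u) := by group
      _ = _ := by
        rw [k' u hu hc w hw hc' x hx, (F.cw' p h0 hw hc' hx (h.cm_mem hc hx) (k u hu hc x hx)).eq, ← k' w hw hc' u hu hc x hx]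
        group) with e | e
  · exact (inv_mul_eq_one.1 e).symm
  · exact absurd (e ▸ mul_mem (inv_mem (mul_mem hw hu)) (mul_mem hu hw)) (F.nm p.symm)

theorem alpha2 (α : ∀ y ∈ E z, ⁅t, y⁆ ≠ z) (α' : ∀ y ∈ E t, ⁅z, y⁆ ≠ t) (f1 : f * z * f⁻¹ = t) (f2 : f * t * f⁻¹ = z)
    (hs : s ∈ X) (hf : f ∈ E s) (hW : ∀ w ∈ E z, Commute t w → Commute w s) (hc : Nat.card (E s) = Nat.card (E z)) : False := by
  haveI := Invol.fact_two
  have h := F.ls z p.hz
  have h' := F.ls t p.ht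
  have h'' := F.ls s hs
  have hab : ∀ a ∈ E z, Commute t a → ∀ b ∈ E z, Commute t b → Commute a b := fun a ha h1 b hb h2 =>
    F.ab p.symm (inf_comm (E z) _ ▸ h0) α' ha h1.symm hb h2.symm
  have k1 : ∀ w ∈ E z, Commute t w → f * w⁻¹ * f⁻¹ ∈ E t ∧ Commute (f * w⁻¹ * f⁻¹) z := fun w hw h1 =>
    ⟨by rw [← f1, F.cE z p.hz]; exact conj_mem_cj f (inv_mem hw), f2 ▸ h1.symm.inv_left.conj f⟩
  have k2 : ∀ w, ⁅w, f⁆ = w * (f * w⁻¹ * f⁻¹) := fun w => by simp only [commutatorElement_def, mul_assoc]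
  have k3 : ∀ w ∈ E z, Commute t w → w * w = 1 := fun w hw h1 => by
    obtain ⟨y, hy, rfl | rfl⟩ := h.perp h'.sq p.c hw fun y hy e => hab w hw h1 y hy (cm_one.1 (e.resolve_right (α y hy)))
    exacts [(F.sqa p α hy).1, by
      rw [(show Commute z _ from (h.cen _ (h.cm_mem p.c hy)).symm).mul_mul_mul_comm, (F.sqa p α hy).1, h.sq, mul_one]]
  let T : Set G := {a | (∃ w ∈ E z, Commute t w ∧ ⁅w, f⁆ = a) ∨ a = f ∨ a = s}
  have hT : closure T ≤ E s := (closure_le _).2 (by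
    rintro _ (⟨w, hw, h1, rfl⟩ | rfl | rfl)
    exacts [h''.cm_mem (hW w hw h1) hf, hf, h''.mem])
  have k4 : ∀ w ∈ E z, Commute t w → Commute ⁅w, f⁆ f := fun w hw h1 => (h''.cm_sq (hW w hw h1) hf).2 (by
    rw [k2, (F.cw p h0 (k1 w hw h1).1 (k1 w hw h1).2 hw h1).mul_mul_mul_comm, conj_mul, ← mul_inv_rev, k3 w hw h1]; group)
  have h1 : closure T ≤ E s ⊓ 𝐂 (closure T) := le_inf hT ((closure_le _).2 fun a ha => by
    rw [centralizer_closure]
    rintro b hb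
    rcases ha with ⟨w, hw, h1, rfl⟩ | rfl | rfl <;> rcases hb with ⟨w', hw', h2, rfl⟩ | rfl | rfl
    · obtain ⟨h3, h4⟩ := k1 w hw h1
      obtain ⟨h5, h6⟩ := k1 w' hw' h2
      rw [k2, k2]
      exact ((hab w' hw' h2 w hw h1).mul_right (F.cw p h0 h3 h4 hw' h2).symm).mul_left
        ((F.cw p h0 h5 h6 hw h1).mul_right (F.ab p h0 α h5 h6 h3 h4))
    exacts [(k4 w hw h1).symm, (h''.cen _ (h''.cm_mem (hW w hw h1) hf)).symm, k4 w' hw' h2, rfl, (h''.cen _ hf).symm,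
      h''.cen _ (h''.cm_mem (hW w' hw' h2) hf), h''.cen _ hf, rfl])
  have h2 := h''.card_mul_cent hT (subset_closure (Or.inr (Or.inr rfl)))
  have h3 := card_le_of_le h1
  have h4 := KS9.mul_card_le_of_lt (h''.toES.isPGroup.to_le hT) (lt_of_le_of_ne (inf_le_left (b := centralizer {z})) fun e =>
    p.ne (f1.symm.trans (conj_eq_of_comm (mem_cent_single.1 (e.ge (subset_closure (Or.inr (Or.inl rfl)))).2))))
  have h5 : Nat.card ↥(E z ⊓ centralizer {t}) ≤ Nat.card ↥(closure T ⊓ centralizer {z}) := Nat.card_le_card_of_injective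
    (fun w => ⟨⁅w.1, f⁆, subset_closure (Or.inl ⟨_, w.2.1, (mem_cent_single.1 w.2.2).symm, rfl⟩), mem_cent_single.2 (by
      rw [k2]; exact Commute.mul_left (h.cen _ w.2.1) (k1 _ w.2.1 (mem_cent_single.1 w.2.2).symm).2)⟩) fun a b e => by
      have h5 := mul_mem (inv_mem a.2) b.2
      have h6 := (k1 _ h5.1 (mem_cent_single.1 h5.2).symm).1
      have h7 : f * ((a : G)⁻¹ * b)⁻¹ * f⁻¹ = ((a : G)⁻¹ * b)⁻¹ := by
        calc _ = (b : G)⁻¹ * (⁅b.1, f⁆ * ⁅a.1, f⁆⁻¹) * a * (f * ((a : G)⁻¹ * f⁻¹ * a) * f * f⁻¹ * ((a : G)⁻¹ * f * a) * f⁻¹) := by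
              simp only [commutatorElement_def]; group
          _ = _ := by rw [show ⁅a.1, f⁆ = ⁅b.1, f⁆ from congrArg Subtype.val e]; group
      exact Subtype.ext (inv_mul_eq_one.1 (inv_eq_one.1 (mem_bot.1 (h0.le ⟨(inv_mem h5).1, h7 ▸ h6⟩))))
  have h6 : _ ≤ Nat.card ↥(E z ⊓ centralizer {t}) * _ := LS.card_le_of h'.sq (S := (E z ⊓ centralizer {t} : Subgroup G))
    fun x hx => ⟨h.cm_mem p.c hx, mem_cent_single.2 (F.sqa p α hx).2.symm⟩
  have := Nat.card_pos (α := ↥(E z ⊓ centralizer {t}))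
  nlinarith

theorem surj (hy : y ∈ E z) (e : ⁅t, y⁆ = z) (hy' : y' ∈ E t) (e' : ⁅z, y'⁆ = t)
    (hc : Nat.card ↥(E z ⊓ centralizer {t}) ≤ Nat.card ↥(E t ⊓ centralizer {z})) (hw : w ∈ E z) (hw' : Commute t w) :
    ∃ u ∈ E t, Commute u z ∧ ⁅u, y⁆ = w := by
  have h := F.ls z p.hz
  have h' := F.ls t p.ht
  have h1 : E (y * t * y⁻¹) ⊓ E t = ⊥ := by
    rw [cm_conj h'.sq, e, p.c.eq, ← cj_eq_bot_iff (g := y'⁻¹), cj_inf, ← F.cE _ p.ht, conj_eq_of_comm (h'.cen _ (inv_mem hy')),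
      ← h0]
    nth_rewrite 1 [← e', ← cm_conj h.sq, F.cE z p.hz, cj_inv_cj]
    rfl
  obtain ⟨u, hu⟩ := (Function.Injective.bijective_of_nat_card_le (f := fun u : ↥(E t ⊓ centralizer {z}) =>
    (⟨⁅u.1, y⁆, h.cm_mem (mem_cent_single.1 u.2.2) hy, mem_cent_single.2 (comm_of_conj_eq (by
      rw [conjugate_commutatorElement, conj_eq_of_comm (h'.cen _ u.2.1).symm, show t * y * t⁻¹ = ⁅t, y⁆ * y by
        simp [commutatorElement_def], e, ← h.cen y hy, h.cm_z (mem_cent_single.1 u.2.2)])).symm⟩ : ↥(E z ⊓ centralizer {t})))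
    (fun a b e => by
      have h5 := (mul_mem (inv_mem a.2) b.2).1
      have h7 : y * ((a : G)⁻¹ * b) * y⁻¹ = (a : G)⁻¹ * b := by
        calc _ = (a : G)⁻¹ * (⁅a.1, y⁆ * y * b * y⁻¹) := by simp only [commutatorElement_def]; group
          _ = _ := by rw [show ⁅a.1, y⁆ = ⁅b.1, y⁆ from congrArg Subtype.val e]; simp only [commutatorElement_def]; group
      exact Subtype.ext (inv_mul_eq_one.1 (mem_bot.1 (h1.le ⟨by rw [F.cE t p.ht, ← h7]; exact conj_mem_cj y h5, h5⟩)))) hc).2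
    ⟨w, hw, mem_cent_single.2 hw'.symm⟩
  exact ⟨u, u.2.1, mem_cent_single.1 u.2.2, congrArg Subtype.val hu⟩

theorem beta2 (hy : y ∈ E z) (e : ⁅t, y⁆ = z) (f1 : f * z * f⁻¹ = t) (f2 : f * t * f⁻¹ = z) : False := by
  have h := F.ls z p.hz
  have h' := F.ls t p.ht
  have hE : E t = cj f (E z) := f1 ▸ F.cE z p.hz f
  have S := fun {y w} hy e => F.surj (y := y) (w := w) p h0 hy e (hE ▸ conj_mem_cj f hy)
    (by rw [← f1, ← e, conjugate_commutatorElement, f2, e]) (by rw [hE, ← f2, ← cj_centralizer_singleton, f2, ← cj_inf, card_cj])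
  have hab : ∀ a ∈ E z, ∀ b ∈ E z, Commute t a → Commute t b → Commute a b := fun a ha b hb h1 h2 => by
    obtain ⟨u, hu, h3, rfl⟩ := S hy e ha h1
    exact F.cw' p h0 hu h3 hy hb h2
  by_cases h1 : ∀ x ∈ E z, ⁅t, x⁆ * ⁅t, x⁆ = 1
  · obtain ⟨w, hw, h2, h3⟩ : ∃ w ∈ E z, Commute t w ∧ w * w = z := by
      by_contra! hn
      obtain ⟨x, hx, rfl⟩ := h.perp0 h'.sq p.c hy hy e (fun w hw h2 => by
        obtain ⟨u, hu, h3, rfl⟩ := S hy e hw h2
        exact ((h.cm_sq h3 hy).2 ((h.sq_mem _ hw).resolve_right (hn _ hw h2))).symm) (Commute.refl y)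
      exact h.ne (by rw [← e, h.cm_cm h'.sq hx p.c, h1 x hx])
    have h4 : Commute (f * w * f⁻¹) z := f2 ▸ h2.symm.conj f
    exact F.nm p (h.ab4 h'.sq p.c hab hw h2 h3 h4 (by rw [conj_mul, h3, f1]) fun b hb hb' =>
      F.cw p h0 (hE ▸ conj_mem_cj f hw) h4 hb hb')
  push Not at h1
  obtain ⟨x, hx, h1⟩ := h1
  have ha := h.cm_mem p.c hx
  have h2 := (h.cm_cm h'.sq hx p.c).trans ((h.sq_mem _ ha).resolve_left h1)
  have h3 : ∀ g ∈ E z, (∀ w ∈ E z, Commute t w → Commute g w) → Commute g ⁅t, x⁆ → ⁅t, g⁆ = 1 ∨ ⁅t, g⁆ = z := fun g hg h3 h4 => by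
    obtain ⟨g', hg', rfl⟩ := h.perp0 h'.sq p.c hg ha h2 h3 h4
    rw [h.cm_cm h'.sq hg' p.c]; exact h.sq_mem _ hg
  obtain ⟨b, hb⟩ : ∃ b, ∀ g ∈ E z, (∀ w ∈ E z, Commute t w → Commute g w) → ⁅t, g⁆ ∈ ({1, z, b, b * z} : Set G) := by
    by_cases h4 : ∀ g ∈ E z, (∀ w ∈ E z, Commute t w → Commute g w) → Commute g ⁅t, x⁆
    · exact ⟨1, fun g hg h5 => by rcases h3 g hg h5 (h4 g hg h5) with e | e <;> simp [e]⟩
    push Not at h4
    obtain ⟨g₀, hg₀, h4, h5⟩ := h4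
    refine ⟨⁅t, g₀⁆, fun g hg h6 => ?_⟩
    by_cases h7 : Commute g ⁅t, x⁆
    · rcases h3 g hg h6 h7 with e | e <;> simp [e]
    rw [← mul_inv_cancel_left g₀ g, cm_mul]
    rcases h3 _ (mul_mem (inv_mem hg₀) hg) (fun w hw h8 => (h4 w hw h8).inv_left.mul_left (h6 w hw h8))
      ((h.cmul ha (inv_mem hg₀) hg).2 (iff_of_false (fun e => h5 (Commute.inv_right_iff.1 e).symm) fun e => h7 e.symm)).symm
      with e | e <;> simp [e, conj_eq_of_comm (h.cen g₀ hg₀)]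
  have h4 : Nat.card ↥(E z ⊓ centralizer {t}) ≤ 4 := le_trans (Set.ncard_le_ncard fun w hw => by
    obtain ⟨u, hu, h5, rfl⟩ := S ha h2 hw.1 (mem_cent_single.1 hw.2).symm
    have h6 := h.cm_mem h5 hx
    have h7 := hb _ h6 fun w hw h7 => F.cw' p h0 hu h5 hx hw h7
    rw [commutatorElement_def u, conjugate_commutatorElement, conj_eq_of_comm (h'.cen u hu), show u * x * u⁻¹ = ⁅u, x⁆ * x by
      simp [commutatorElement_def], cm_mul]
    rcases h.toES.conj_eq h6 ha with e | e <;> rw [e]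
    · rwa [mul_inv_cancel_right]
    · rw [h.cen _ ha, ← mul_assoc, mul_inv_cancel_right]
      rcases h7 with e | e | e | e <;> rw [e] <;> simp [mul_assoc, h.sq]) (ncard_four 1 z b (b * z))
  have h5 := ncard_two_mul (T := {a | ∃ x ∈ E z, ⁅t, x⁆ = a}) (S := (E z ⊓ centralizer {t} : Subgroup G)) ⁅t, x⁆ (by
    rintro _ ⟨g, hg, rfl⟩
    have h5 := h.cm_mem p.c hg
    have h6 := h.cm_cm h'.sq hg p.c
    refine (h.sq_mem _ h5).imp (fun e => ⟨h5, mem_cent_single.2 (cm_one.1 (h6.trans e)).symm⟩) fun e =>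
      ⟨mul_mem h5 ha, mem_cent_single.2 (cm_one.1 (by rw [h.cm_mul_z h5 h2, h6, e, h.sq])).symm⟩)
  have h6 := LS.card_le_of h'.sq (Q := E z) (S := {a | ∃ x ∈ E z, ⁅t, x⁆ = a}) fun x hx => ⟨x, hx, rfl⟩
  have h7 := F.big z p.hz
  change _ ≤ 2 * Nat.card ↥(E z ⊓ centralizer {t}) at h5
  nlinarith

end WC

theorem WC.false (F : WC X E K) (one : ∀ t ∈ X, ∀ t' ∈ X, ∃ g, g * t * g⁻¹ = t') (hG : ∀ K : Subgroup G, K.index ≠ 2)
    (hz : z ∈ X) : False := by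
  obtain ⟨s, D, m⟩ := F.exists_mx one hG hz
  obtain ⟨f, hf, hn, hfD, -⟩ := m.symm.exists_e F.toFam
  have m' := m.key' F.toFam hf hn hfD
  set t := f * z * f⁻¹ with f1
  have p : Pa X z t := ⟨hz, m'.ht, m'.ne'.symm, m'.comm F.toFam⟩
  have f2 : f * t * f⁻¹ = z := by
    rw [f1, show f * (f * z * f⁻¹) * f⁻¹ = f * f * z * (f * f)⁻¹ by group]
    rcases (F.ls s m.ht).sq_mem f hf with e | e <;> rw [e]
    exacts [by group, conj_eq_of_comm (m.comm F.toFam)]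
  by_cases α : ∀ y ∈ E z, ⁅t, y⁆ ≠ z
  swap
  · push Not at α
    obtain ⟨y, hy, e⟩ := α
    exact F.beta2 p (F.beta1 p hy e) hy e f1.symm f2
  have α' : ∀ y ∈ E t, ⁅z, y⁆ ≠ t := fun y hy e => α (f * y * f⁻¹) (by rw [← f2, F.cE t p.ht]; exact conj_mem_cj f hy)
    (by rw [f1, ← conjugate_commutatorElement, e, f2])
  by_cases h0 : E z ⊓ E t = ⊥
  · obtain ⟨g, hg⟩ := one z hz s m.ht
    exact F.alpha2 p h0 α α' f1.symm f2 m.ht hf (fun w hw h => mem_cent_single.1 (m.ct (m'.le F.toFam hw h.symm)))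
      (by rw [← hg, F.cE z hz, card_cj])
  obtain ⟨⟨δ, h1, h2⟩, h3⟩ := ne_bot_iff_exists_ne_one.1 h0
  obtain ⟨u, hu, h4, h5⟩ := m'.exists_u F.toFam
  exact h5 (F.alpha1 p α α' h1 h2 (fun e => h3 (Subtype.ext e)) hu h4)

end Cfsg.Lib.Known2
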