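import Cfsg.Agent.Lib.Push.ZC
import Cfsg.Agent.Lib.SigC.Thms

/-! The dichotomy theorem: `2`-constrained involution centralizers and `2`-rank at least three. -/

set_option autoImplicit false
set_option linter.unusedSectionVars false

namespace Cfsg.Lib.Push.Dich
open Subgroup Cfsg.Lib.Core Cfsg.Lib.Amalg Cfsg.Lib.BG1 Cfsg.Lib.Layer Cfsg.Lib.SigC Cfsg.Lib.Push.ZC
open scoped commutatorElement

variable {G : Type*} [Group G] [Finite G] {A B E F H R S T V X Z : Subgroup G} {a b t u x z : G}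

theorem le_op_of_comm {p : ℕ} [Fact p.Prime] (h : CharP p H) (hA : A ≤ H) (hZ : H ≤ 𝐂(Z))
    (hc : ⁅pCoreOf p H, A⁆ ≤ Z) : A ≤ pCoreOf p H := by
  have hn : H ≤ 𝐍(Z) := hZ.trans (cent_le_norm Z)
  refine (le_inf hA (le_centQuo ((op_le H).trans hn) (hA.trans hn) hc)).trans (le_op inf_le_left
    (le_normalizer_inf le_normalizer (le_norm_centQuo hn (le_norm_op H)))
    (isPGroup_of_forall_pPrime fun D hD h1 => h.eq_bot h1 (hD.trans inf_le_left) ?_))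
  exact le_cent_of_comm_le_cent h1 (op_isPGroup H) ((hD.trans inf_le_left).trans (le_norm_op H))
    ((commutator_le_of_le_centQuo ((op_le H).trans hn) (hD.trans inf_le_right)).trans
      (BG1.le_cent_symm ((hD.trans inf_le_left).trans hZ)))

theorem le_opp {p : ℕ} [Fact p.Prime] (h : pLayerOf p H = ⊥) (hT : Syl p T H) (hA : A ≤ T) (hZH : Z ≤ H)
    (hZ : H ≤ 𝐂(Z)) (hc : ⁅T, A⁆ ≤ Z) : A ≤ pPrimePCoreOf p H := by
  have h1 : CharP p (⊤ : Subgroup (H ⧸ pPrimeCore p H)) :=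
    charP_top.2 (charP_quotient_iff.2 (pLayerOf_eq_bot_iff.1 h))
  have h2 : Syl p (mim (coreQ p H) T) ⊤ := hT.subgroupOf_top.map_top (QuotientGroup.mk'_surjective _)
  rw [pPrimePCoreOf_def, ← mim_le_iff (hA.trans hT.le), ← Amalg.op_top]
  refine le_op_of_comm (Z := mim (coreQ p H) Z) h1 le_top (fun y _ w hw => ?_)
    ((commutator_mono h2.op_le le_rfl).trans ?_)
  · obtain ⟨w, hw', hw1, rfl⟩ := mem_mim.1 hw
    obtain ⟨y, rfl⟩ := QuotientGroup.mk'_surjective _ y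
    rw [← map_mul, ← map_mul]
    exact congrArg _ (Subtype.ext (hZ y.2 w hw1))
  · rw [← mim_commutator hT.le (hA.trans hT.le)]
    exact mim_mono _ hc

theorem zp_two (hb : b * b = 1) (h : x ∈ zpowers b) : x = 1 ∨ x = b := by
  obtain ⟨n, rfl⟩ := PGrp.exists_pow_eq_of_mem_zpowers h
  rcases Nat.even_or_odd' n with ⟨k, rfl | rfl⟩
  · exact Or.inl (by rw [pow_mul, pow_two, hb, one_pow])
  · exact Or.inr (by rw [pow_succ, pow_mul, pow_two, hb, one_pow, one_mul])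

/-- involution centralizers are `2`-constrained -/
def LC (G : Type*) [Group G] : Prop := ∀ t : G, orderOf t = 2 → pLayerOf 2 𝐂[t] = ⊥

namespace LC
variable (h : LC G)
include h

theorem gf : GF 2 (th (G := G)) := sft2.gf_cpc h

theorem W_eq (hE : EA 2 2 E) (hF : EA 2 2 F) (hc : E ≤ 𝐂(F)) : W E = W F := h.gf.clos_eq_of_comm hE hF hc

theorem mem_opp (hx : orderOf x = 2) (hT : Syl 2 T 𝐂[x]) (hb : b ∈ T) (h2 : b * b = 1)
    (hc : ∀ y ∈ T, y * b * y⁻¹ = b ∨ y * b * y⁻¹ = x * b) : b ∈ pPrimePCoreOf 2 𝐂[x] := by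
  refine zpowers_le.1 (le_opp (h x hx) hT (zpowers_le.2 hb) (zpowers_le.2 (self_mem x)) (zp_le_cent le_rfl)
    (commutator_le.2 fun y hy w hw => ?_))
  rcases zp_two h2 hw with rfl | rfl
  · rw [commutatorElement_one_right]; exact one_mem _
  · rw [commutatorElement_def]
    rcases hc y hy with e | e <;> rw [e]
    · rw [mul_inv_cancel]; exact one_mem _
    · rw [mul_inv_cancel_right]; exact mem_zpowers x

theorem cent_le (hu : orderOf u = 2) (hT : Syl 2 T 𝐂[u]) (h1 : th u ≤ X) (h2 : T ≤ 𝐍(X))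
    (h3 : 𝐂[u] ⊓ 𝐍(T ⊓ pPrimePCoreOf 2 𝐂[u]) ≤ 𝐍(X)) : 𝐂[u] ≤ 𝐍(X) := by
  have hR := hT.inf_normal (pPrimePCoreOf_le 2 _) (le_norm_pPrimePCoreOf_self 2 _)
  exact (hR.frattini (pPrimePCoreOf_le 2 _) (le_norm_pPrimePCoreOf_self 2 _)).ge.trans (sup_le
    ((pPrimePCoreOf_eq_sup hR).ge.trans (sup_le (cpc_eq (p := 2) u ▸ h1.trans le_normalizer)
      (inf_le_left.trans h2))) h3)

theorem cent_le_K4 (hu : orderOf u = 2) (hz : orderOf z = 2) (hne : z ≠ u) (hT : Syl 2 T 𝐂[u]) (hc : T ≤ 𝐂[z])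
    (hzu : z ∈ 𝐂[u]) : 𝐂[u] ≤ 𝐍(W (K4 z u)) := by
  have hV := ea_K4 hz hu hzu hne
  have hc' : T ≤ 𝐂(K4 z u) := le_cent_K4 hc hT.le
  have mem : ∀ y, orderOf y = 2 → y ∈ 𝐂[u] → T ≤ 𝐂[y] → y ∈ T ⊓ pPrimePCoreOf 2 𝐂[u] := fun y h1 h2 h3 => by
    have h4 := hT.mem_of_mem_normalizer (two_pow h1) h2
      (cent_le_norm _ (zpowers_le.1 (BG1.le_cent_symm (zp_le_cent h3))))
    exact ⟨h4, h.mem_opp hu hT h4 (Invol.mul_self_of_two h1)
      fun w hw => Or.inl (mul_inv_eq_iff_eq_mul.2 (cmem.1 (h3 hw)))⟩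
  refine h.cent_le hu hT (le_sigClosure (θ := th) (mem_sup_right (mem_zpowers u)) (Invol.ne_one_of_two hu))
    (hc'.trans ((cent_le_norm _).trans (norm_le_W _))) fun g hg => mem_norm_W (h.W_eq (hV.cj g) hV ?_)
  exact (cj_le_of_le_of_mem_normalizer (K4_le (mem z hz hzu hc) (mem u hu (self_mem u) hT.le)) hg.2).trans
    (inf_le_left.trans hc')

end LC

/-- `⟨z, a⟩` is a normal four-group of the Sylow subgroup `S` of rank at least three -/
structure Dc (S : Subgroup G) (z a : G) : Prop where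
  lc : LC G
  syl : Syl 2 S ⊤
  two : orderOf z = 2
  mem : z ∈ S
  cent : S ≤ 𝐂[z]
  atwo : orderOf a = 2
  amem : a ∈ S
  ne : z ≠ a
  comm : ∀ w ∈ S, w * a * w⁻¹ = a ∨ w * a * w⁻¹ = z * a
  rk : ∃ A, A ≤ S ∧ EA 2 3 A

namespace Dc
variable (h : Dc S z a)
include h

theorem zz : z * z = 1 := Invol.mul_self_of_two h.two

theorem zc : z ∈ 𝐂[a] := mem_cent1_symm (h.cent h.amem)

theorem ea : EA 2 2 (K4 z a) := ea_K4 h.two h.atwo h.zc h.ne

theorem cent_iff {w : G} (hw : w ∈ S) : w ∈ 𝐂[z * a] ↔ w ∈ 𝐂[a] :=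
  ⟨fun h1 => mem_cent1_symm ((mul_mem_cancel_left (mem_cent1_symm (h.cent hw))).1 (mem_cent1_symm h1)),
    fun h1 => mem_cent1_symm (mul_mem (mem_cent1_symm (h.cent hw)) (mem_cent1_symm h1))⟩

theorem flip : Dc S z (z * a) where
  lc := h.lc
  syl := h.syl
  two := h.two
  mem := h.mem
  cent := h.cent
  atwo := Invol.two_mul_of_commute h.two h.atwo h.ne (Invol.mem_cent.1 h.zc)
  amem := mul_mem h.mem h.amem
  ne := fun e => Invol.ne_one_of_two h.atwo (by simpa using e)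
  comm := fun w hw => by
    rw [← conj_mul, mul_inv_eq_iff_eq_mul.2 (cmem.1 (h.cent hw))]
    exact (h.comm w hw).imp (fun e => by rw [e]) fun e => by rw [e]
  rk := h.rk

theorem swap {w : G} (hw : w ∈ S) (hn : w ∉ 𝐂[a]) : w * a * w⁻¹ = z * a :=
  (h.comm w hw).resolve_left fun e => hn (cmem.2 (mul_inv_eq_iff_eq_mul.1 e))

theorem mul {x y : G} (hx : x ∈ S) (hy : y ∈ S) (h1 : x ∉ 𝐂[a]) (h2 : y ∉ 𝐂[a]) : x * y ∈ 𝐂[a] := by
  refine cmem.2 (mul_inv_eq_iff_eq_mul.1 ?_)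
  calc x * y * a * (x * y)⁻¹ = x * (y * a * y⁻¹) * x⁻¹ := by group
    _ = x * z * x⁻¹ * (x * a * x⁻¹) := by rw [h.swap hy h2]; group
    _ = a := by
      rw [h.swap hx h1, cmem.1 (h.cent hx), mul_inv_cancel_right, ← mul_assoc, h.zz, one_mul]

theorem sq {y : G} (hy : y ∈ S) : y * y ∈ 𝐂[a] := by
  by_cases h1 : y ∈ 𝐂[a]
  · exact mul_mem h1 h1
  · exact h.mul hy hy h1 h1

theorem card_le (hB : B ≤ S) : Nat.card B ≤ Nat.card ↥(B ⊓ 𝐂[a]) * 2 := by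
  have := PGrp.card_le_card_centralizer_mul (W := B) (Z := zpowers z) (a := a) fun w hw => by
    rw [commutatorElement_def]
    rcases h.comm w (hB hw) with e | e <;> rw [e]
    · rw [mul_inv_cancel]; exact one_mem _
    · rw [mul_inv_cancel_right]; exact mem_zpowers z
  rwa [Nat.card_zpowers, h.two] at this

theorem le_cent (hB : B ≤ S) : B ⊓ 𝐂[a] ≤ 𝐂(K4 z a) :=
  le_cent_K4 (inf_le_left.trans (hB.trans h.cent)) inf_le_right

theorem ea_inf (hB : B ≤ S) (h3 : EA 2 3 B) : EA 2 2 (B ⊓ 𝐂[a]) :=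
  ⟨elemAb_of_le h3.1 inf_le_left, by have := h.card_le hB; have := h3.2; omega⟩

theorem W3 (hB : B ≤ S) (h3 : EA 2 3 B) : W B = W (K4 z a) :=
  (h.lc.gf.clos_eq h3 inf_le_left (h.ea_inf hB h3).2).symm.trans (h.lc.W_eq (h.ea_inf hB h3) h.ea (h.le_cent hB))

theorem exA (hu : u ∈ S) (hc : u ∈ 𝐂[a]) (h2 : u ^ 2 = 1) : ∃ A, A ≤ S ∧ EA 2 3 A ∧ K4 z a ≤ A ∧ u ∈ A := by
  have hU : K4 z a ≤ S := K4_le h.mem h.amem
  have h1 := h.ea.sup (elemAb_zpowers h2) (BG1.le_cent_symm (le_cent_K4 (zpowers_le.2 (h.cent hu)) (zpowers_le.2 hc)))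
  rcases h1.card_or with h4 | h3
  swap
  · exact ⟨_, sup_le hU (zpowers_le.2 hu), h3, le_sup_left, mem_sup_right (mem_zpowers u)⟩
  have h5 : u ∈ K4 z a := by
    rw [eq_of_le_of_card_le' (le_sup_left : _ ≤ K4 z a ⊔ zpowers u) (h4 ▸ h.ea.2)]
    exact mem_sup_right (mem_zpowers u)
  obtain ⟨B, hB, h3⟩ := h.rk
  rcases (h.ea_inf hB h3).eq_or h.ea (h.le_cent hB) with e | h6
  · exact ⟨B, hB, h3, e.ge.trans inf_le_left, (e.ge h5).1⟩
  · exact ⟨_, sup_le (inf_le_left.trans hB) hU, h6, le_sup_right, mem_sup_right h5⟩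

theorem odd : ¬ 2 ∣ Nat.card (W (K4 z a)) := by
  obtain ⟨B, hB, h3⟩ := h.rk
  rw [← h.W3 hB h3]
  exact (h.lc.gf.theta B h3).not_dvd

theorem inf_cent : W (K4 z a) ⊓ 𝐂[z] = th z := by
  obtain ⟨A, hA, h3, hU, hz⟩ := h.exA h.mem h.zc (Invol.sq_of_two h.two)
  rw [← h.W3 hA h3]
  exact h.lc.gf.inf_cent h3 hz (Invol.ne_one_of_two h.two)

theorem norm_le : 𝐍(S) ≤ 𝐍(W (K4 z a)) := fun g hg => by
  obtain ⟨B, hB, h3⟩ := h.rk
  rw [← h.W3 hB h3]
  exact mem_norm_W ((h.W3 (cj_le_of_le_of_mem_normalizer hB hg) (h3.cj g)).trans (h.W3 hB h3).symm)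

theorem W2 (hu : u ∈ S) (h2 : orderOf u = 2) (hne : z ≠ u) (hc : u ∈ 𝐂[a]) : W (K4 z u) = W (K4 z a) :=
  h.lc.W_eq (ea_K4 h.two h2 (mem_cent1_symm (h.cent hu)) hne) h.ea
    (le_cent_K4 (K4_le (self_mem z) (h.cent hu)) (K4_le h.zc hc))

theorem z_mem_opp (hb : b ∈ S) (h2 : b * b = 1) (hn : b ∉ 𝐂[a])
    (hu : ∀ y ∈ S, y ∈ 𝐂[a] → y ∈ 𝐂[b] → y * y = 1 → y = 1 ∨ y = z) : z ∈ pPrimePCoreOf 2 𝐂[a] := by
  obtain ⟨T, hT, hST⟩ := exists_syl_ge (P := S ⊓ 𝐂[a]) (h.syl.isPGroup.to_le inf_le_left) inf_le_right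
  have hN : T ≤ 𝐍(S ⊓ 𝐂[a]) := by
    rcases hST.eq_or_lt with e | hlt
    · exact e.ge.trans le_normalizer
    · have h1 := PGrp.mul_card_le_of_lt (hT.isPGroup.to_le inf_le_left) (lt_inf_normalizer_of_lt hT.isPGroup hlt)
      have h3 := h.card_le le_rfl
      have h4 := h.syl.card_le hT.isPGroup le_top
      exact inf_eq_left.1 (eq_of_le_of_card_le' inf_le_left (by omega))
  refine h.lc.mem_opp h.atwo hT (hST ⟨h.mem, h.zc⟩) h.zz fun y hy => ?_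
  have h1 : y * z * y⁻¹ ∈ S ⊓ 𝐂[a] := (mem_normalizer_iff.1 (hN hy) z).1 ⟨h.mem, h.zc⟩
  have h3 : S ⊓ 𝐂[a] ≤ 𝐂[y * z * y⁻¹] := by
    rw [← cj_centralizer_singleton, ← cj_of_mem_normalizer (hN hy)]
    exact cj_mono y (inf_le_left.trans h.cent)
  have h4 : y * z * y⁻¹ * (y * z * y⁻¹) = 1 := by rw [conj_mul, h.zz]; group
  have h5 : y * z * y⁻¹ ≠ a := fun e =>
    h.ne ((MulAut.conj y).injective (e.trans (mul_inv_eq_iff_eq_mul.2 (cmem.1 (hT.le hy))).symm))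
  have h6 : y * z * y⁻¹ ≠ 1 := by simpa using Invol.ne_one_of_two h.two
  generalize y * z * y⁻¹ = c at *
  have hb' : b⁻¹ = b := inv_eq_of_mul_eq_one_right h2
  have h7 : b * c * b⁻¹ ∈ S ⊓ 𝐂[a] := ⟨S.mul_mem (S.mul_mem hb h1.1) (S.inv_mem hb),
    h.mul (S.mul_mem hb h1.1) (S.inv_mem hb) (fun e => hn ((Subgroup.mul_mem_cancel_right _ h1.2).1 e))
      (by simpa using hn)⟩
  have h8 := cmem.1 (h3 h7)
  rcases hu _ (mul_mem h7.1 h1.1) (mul_mem h7.2 h1.2) (cmem.2 (by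
      calc b * c * b⁻¹ * c * b = b * (c * (b * c * b⁻¹)) := by rw [hb']; group
        _ = _ := by rw [← h8])) (by
      calc _ = b * c * b⁻¹ * (c * (b * c * b⁻¹)) * c := by group
        _ = b * (c * c) * b⁻¹ * (c * c) := by rw [← h8]; group
        _ = 1 := by rw [h4]; group) with e | e
  · refine Or.inl ((hu c h1.1 h1.2 (mem_cent1_symm (cmem.2 (mul_inv_eq_iff_eq_mul.1 ?_))) h4).resolve_left h6)
    rw [← mul_left_inj c, e, h4]
  · have e' : b * c * b⁻¹ = z * c := by rw [← e, mul_assoc _ c c, h4, mul_one]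
    have h9 := cmem.1 h1.2
    rcases hu _ (mul_mem h1.1 h.amem) (mul_mem h1.2 (self_mem a)) (mem_cent1_symm (cmem.2
      (mul_inv_eq_iff_eq_mul.1 (by
        rw [← conj_mul, e', h.swap hb hn, mul_assoc, ← mul_assoc c, cmem.1 (h.cent h1.1), mul_assoc, ← mul_assoc z z,
          h.zz, one_mul])))) (by
        rw [mul_assoc, ← mul_assoc a, ← h9, mul_assoc, Invol.mul_self_of_two h.atwo, mul_one, h4]) with e | e
    · exact absurd (by rw [← mul_left_inj a, e, Invol.mul_self_of_two h.atwo]) h5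
    · exact Or.inr (by rw [← e, ← mul_assoc, ← h9, mul_assoc, Invol.mul_self_of_two h.atwo, mul_one])

theorem inf_le (hX : ¬ 2 ∣ Nat.card X) (hn : z ∈ 𝐍(X)) (hz : X ⊓ 𝐂[z] ≤ th z) (ho : z ∈ pPrimePCoreOf 2 𝐂[a]) :
    X ⊓ 𝐂[a] ≤ th z ⊔ th a := by
  have h1 : zpowers z ≤ 𝐍(X ⊓ 𝐂[a]) := le_normalizer_inf (zpowers_le.2 hn) ((zpowers_le.2 h.zc).trans le_normalizer)
  have h2 := not_dvd_card_of_le (inf_le_left : X ⊓ 𝐂[a] ≤ X) hX
  refine (Coprime.commutator_sup_centralizer h1 (coprime_of_isPGroup_of_not_dvd Nat.prime_two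
    (Invol.isPGroup_zpowers_two h.two) h2) (Or.inl inferInstance)).ge.trans (sup_le (le_sup_of_le_right ?_)
      (le_sup_of_le_left ((inf_le_inf inf_le_left (cent_zpowers z).le).trans hz)))
  rw [th, cpc_eq]
  exact Sig.le_opp_of_le_oqq' ((commutator_mono inf_le_right (zpowers_le.2 ho)).trans
    (comm_le_right (le_norm_pPrimePCoreOf_self 2 _))) (not_dvd_card_of_le (comm_le_left h1) h2)

theorem th_le (hx : x ∈ K4 z a) (h1 : x ≠ 1) : th x ≤ W (K4 z a) := le_sigClosure (θ := th) hx h1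

theorem cent_z : 𝐂[z] ≤ 𝐍(W (K4 z a)) := by
  have hS := h.syl.of_le h.cent le_top
  have hz := h.th_le (mem_sup_left (mem_zpowers z)) (Invol.ne_one_of_two h.two)
  refine h.lc.cent_le h.two hS hz (le_normalizer.trans h.norm_le) fun g hg => ?_
  have ha : a ∈ S ⊓ pPrimePCoreOf 2 𝐂[z] :=
    ⟨h.amem, h.lc.mem_opp h.two hS h.amem (Invol.mul_self_of_two h.atwo) h.comm⟩
  have hb : g * a * g⁻¹ ∈ S := ((mem_normalizer_iff.1 hg.2 a).1 ha).1
  have hb2 : orderOf (g * a * g⁻¹) = 2 := by rw [Invol.orderOf_conj, h.atwo]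
  have hgz : g * z * g⁻¹ = z := mul_inv_eq_iff_eq_mul.2 (cmem.1 hg.1)
  have hne : z ≠ g * a * g⁻¹ := fun e => h.ne ((MulAut.conj g).injective (hgz.trans e))
  have e : cj g (K4 z a) = K4 z (g * a * g⁻¹) := by rw [cj_K4, hgz]
  by_cases hn : g * a * g⁻¹ ∈ 𝐂[a]
  · exact mem_norm_W (e ▸ h.W2 hb hb2 hne hn)
  by_cases hu : ∀ y ∈ S, y ∈ 𝐂[a] → y ∈ 𝐂[g * a * g⁻¹] → y * y = 1 → y = 1 ∨ y = z
  swap
  · push Not at hu
    obtain ⟨y, hy, h1, h2, h3, h4, h5⟩ := hu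
    have h6 := Invol.two_of_mul_self h3 h4
    refine mem_norm_W (e ▸ Eq.trans ?_ (h.W2 hy h6 h5.symm h1))
    exact h.lc.W_eq (e ▸ h.ea.cj g) (ea_K4 h.two h6 (mem_cent1_symm (h.cent hy)) h5.symm)
      (le_cent_K4 (K4_le (self_mem z) (h.cent hb)) (K4_le (mem_cent1_symm (h.cent hy)) (mem_cent1_symm h2)))
  have hU : K4 z a ≤ 𝐍(cj g (W (K4 z a))) := by
    rw [cj_W]
    refine le_trans (K4_le ?_ ?_) (norm_le_W _)
    · rw [e]; exact le_normalizer (mem_sup_left (mem_zpowers z))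
    · obtain ⟨w, hw, e'⟩ := mem_cj'.1 ((cj_of_mem_normalizer hg.2).ge ha)
      rw [← cj_normalizer]
      refine mem_cj'.2 ⟨w, mem_normalizer_of_cj_le ?_, e'⟩
      rw [cj_K4, mul_inv_eq_iff_eq_mul.2 (cmem.1 (h.cent hw.1))]
      refine K4_le (mem_sup_left (mem_zpowers z)) ?_
      rcases h.comm w hw.1 with e'' | e'' <;> rw [e'']
      · exact mem_sup_right (mem_zpowers a)
      · exact mul_mem (mem_sup_left (mem_zpowers z)) (mem_sup_right (mem_zpowers a))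
  have ho : ¬ 2 ∣ Nat.card (cj g (W (K4 z a))) := by rw [card_cj]; exact h.odd
  have h0 : cj g (W (K4 z a)) ⊓ 𝐂[z] ≤ th z := by
    conv_lhs => enter [2]; rw [← hgz, ← cj_centralizer_singleton]
    rw [← cj_inf, h.inf_cent, cj_cpc, hgz]
  have hzn := hU (mem_sup_left (mem_zpowers z))
  have := h.ea.1.1
  refine mem_normalizer_of_cj_le (Coprime.le_of_forall_centralizer_le (not_isCyclic_of_elem h.ea.1 h.ea.2) hU
    (coprime_of_isPGroup_of_not_dvd Nat.prime_two h.ea.pg ho) fun x hx h1 => ?_)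
  rcases (mem_K4 h.two h.atwo h.zc).1 hx with e' | e' | e' | e'
  · exact absurd e' h1
  · rw [e']; exact h0.trans hz
  · subst e'
    exact (h.inf_le ho hzn h0 (h.z_mem_opp hb (Invol.mul_self_of_two hb2) hn hu)).trans (sup_le hz (h.th_le hx h1))
  · subst e'
    exact (h.flip.inf_le ho hzn h0 (h.flip.z_mem_opp hb (Invol.mul_self_of_two hb2) (by rwa [h.cent_iff hb])
      fun y hy h2 => hu y hy ((h.cent_iff hy).1 h2))).trans (sup_le hz (h.th_le hx h1))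

theorem not_isolated (hG : ∀ K : Subgroup G, K.index ≠ 2) (ht : t ∈ S) (h2 : orderOf t = 2) (hne : z ≠ t)
    (hR : Syl 2 (S ⊓ 𝐂[t]) (𝐂[z] ⊓ 𝐂[t])) : ∃ B, EA 2 3 B ∧ K4 z t ≤ B := by
  by_contra hB
  push Not at hB
  have hzt := mem_cent1_symm (h.cent ht)
  have hV := ea_K4 h.two h2 hzt hne
  have hn : t ∉ 𝐂[a] := fun hc => by
    obtain ⟨A, -, h3, h4, h5⟩ := h.exA ht hc (Invol.sq_of_two h2)
    exact hB A h3 (K4_le (h4 (mem_sup_left (mem_zpowers z))) h5)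
  have h3 : ∀ E, E ≤ S ⊓ 𝐂[t] → IsElementaryAbelian 2 E → E ≤ K4 z t := fun E hE h1 => by
    have h4 := hV.sup h1 (BG1.le_cent_symm (le_cent_K4 (hE.trans (inf_le_left.trans h.cent)) (hE.trans inf_le_right)))
    exact le_sup_right.trans (eq_of_le_of_card_le' le_sup_left
      ((h4.card_or.resolve_right fun h5 => hB _ h5 le_sup_left).le.trans hV.2)).ge
  have hu : ∀ y ∈ S, y ∈ 𝐂[t] → y ∈ 𝐂[a] → orderOf y = 2 → y = z := fun y hy h4 h5 h6 => by
    rcases (mem_K4 h.two h2 hzt).1 (h3 _ (zpowers_le.2 ⟨hy, h4⟩) (ea_zpowers h6).1 (mem_zpowers y)) with e | e | e | e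
    · exact absurd e (Invol.ne_one_of_two h6)
    · exact e
    · exact absurd (e ▸ h5) hn
    · exact absurd ((mul_mem_cancel_left h.zc).1 (e ▸ h5)) hn
  obtain ⟨g, hg⟩ := Invol.thompson_transfer' (H := S) (M := S ⊓ 𝐂[a]) hG
    (Nat.not_even_iff_odd.1 fun he => h.syl.not_dvd_index (even_iff_two_dvd.1 he))
    (relIndex_eq_two_iff.2 ⟨t, ht, fun b hb => by
      by_cases h1 : b ∈ 𝐂[a]
      · exact Or.inr ⟨⟨hb, h1⟩, fun h2 => hn ((mul_mem_cancel_left h1).1 h2.2)⟩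
      · exact Or.inl ⟨⟨mul_mem hb ht, h.mul hb ht h1 hn⟩, fun h2 => h1 h2.2⟩⟩) h2
  obtain ⟨A, -, hA, -, h4⟩ := h.exA hg.1 hg.2 (by rw [conj_pow, Invol.sq_of_two h2]; group)
  obtain ⟨T, hT, hRT⟩ := exists_syl_ge hR.isPGroup inf_le_right
  obtain ⟨m, -, hm⟩ := hT.exists_conj_le (hA.cj g⁻¹).pg
    (le_cent1_of_comm (hA.cj g⁻¹).1.1 (mem_cj.2 (by rwa [inv_inv])))
  have hlt : S ⊓ 𝐂[t] < T := lt_of_le_of_ne hRT fun e => by
    have h5 := ((hA.cj g⁻¹).cj m).2.trans (card_le_of_le (h3 _ (e ▸ hm) ((hA.cj g⁻¹).cj m).1))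
    rw [card_K4 h.two h2 hzt hne] at h5
    omega
  obtain ⟨y, hy, hyn⟩ := SetLike.exists_of_lt (lt_inf_normalizer_of_lt hT.isPGroup hlt)
  have hsq : ∀ w ∈ S, w ∈ 𝐂[t] → w * w ≠ z := fun w hw h5 e => by
    have h6 := (mem_normalizer_iff.1 hy.2 w).1 ⟨hw, h5⟩
    have h7 := (mem_normalizer_iff.1 hy.2 z).1 ⟨h.mem, hzt⟩
    have h8 := h.sq h6.1
    rw [conj_mul, e] at h8
    obtain ⟨k, hk⟩ := Invol.pow_eq_one_of_mem hT.isPGroup hy.1
    exact hyn (hR.mem_of_mem_normalizer hk ⟨cmem.2 (mul_inv_eq_iff_eq_mul.1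
      (hu _ h7.1 h7.2 h8 (by rw [Invol.orderOf_conj, h.two]))), hT.le hy.1⟩ hy.2)
  have h0 : ∀ y ∈ S, y ∈ 𝐂[t] → y ∈ 𝐂[a] → y ∈ zpowers z := fun y hy h1 h2 => by
    rcases Nat.even_or_odd (orderOf y) with he | ho
    · obtain ⟨s, hs, hs2⟩ := Invol.exists_two_zpowers_of_even he
      have e := hu s (zpowers_le.2 hy hs) (zpowers_le.2 h1 hs) (zpowers_le.2 h2 hs) hs2
      obtain ⟨n, rfl⟩ := PGrp.exists_pow_eq_of_mem_zpowers hs
      rcases Nat.even_or_odd n with ⟨k, rfl⟩ | hn'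
      · exact absurd (by rw [← pow_add, e]) (hsq _ (pow_mem hy k) (pow_mem h1 k))
      · obtain ⟨k, hk⟩ := Invol.pow_eq_one_of_mem h.syl.isPGroup hy
        refine mem_of_pow_mem_coprime (n := n) ?_ (e ▸ mem_zpowers _)
        exact ((Nat.coprime_two_left.2 hn').pow_left k).coprime_dvd_left (orderOf_dvd_of_pow_eq_one hk)
    · rw [Invol.eq_one_of_odd_of_mem h.syl.isPGroup hy ho]; exact one_mem _
  obtain ⟨c, d, n, hm⟩ := max2_of_cent h.syl.isPGroup ht (by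
    rw [← card_K4 h.two h2 hzt hne]
    congr 2
    refine le_antisymm (fun x hx => ?_) (K4_le ⟨h.mem, hzt⟩ ⟨ht, self_mem _⟩)
    by_cases h1 : x ∈ 𝐂[a]
    · exact mem_sup_left (h0 x hx.1 hx.2 h1)
    · exact (mul_mem_cancel_right (mem_sup_right (mem_zpowers _))).1 (mem_sup_left
        (h0 _ (S.mul_mem hx.1 ht) (mul_mem hx.2 (self_mem _)) (h.mul hx.1 ht h1 hn))))
    fun hc => hn (mem_cent1_symm (hc h.amem))
  obtain ⟨B, hB, h5⟩ := h.rk
  have h6 := PGrp.card_le_sq_of_isMetacyclic (p := 2) hm.isMetacyclic (E := B.subgroupOf S)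
    fun x hx => Subtype.ext (h5.1.2 x hx)
  rw [Nat.card_congr (subgroupOfEquivOfLe hB).toEquiv] at h6
  have := h5.2
  omega

theorem W_K4 (hG : ∀ K : Subgroup G, K.index ≠ 2) (ht : t ∈ S) (h2 : orderOf t = 2) (hne : z ≠ t) :
    W (K4 z t) = W (K4 z a) := by
  have hS := h.syl.of_le h.cent le_top
  have hzt := mem_cent1_symm (h.cent ht)
  obtain ⟨R, hR, htR⟩ := exists_syl_ge (Invol.isPGroup_zpowers_two h2) (zpowers_le.2 ⟨h.cent ht, self_mem t⟩ :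
    zpowers t ≤ 𝐂[z] ⊓ 𝐂[t])
  obtain ⟨m, hm, hmR⟩ := hS.exists_conj_le hR.isPGroup (hR.le.trans inf_le_left)
  have hmz : m * z * m⁻¹ = z := mul_inv_eq_iff_eq_mul.2 (cmem.1 hm)
  have hR' := hR.conj m
  rw [cj_inf, cj_centralizer_singleton, cj_centralizer_singleton, hmz] at hR'
  have ht' := hmR (conj_mem_cj m (htR (mem_zpowers t)))
  rw [le_antisymm (le_inf hmR (hR'.le.trans inf_le_right)) (hR'.le_of_le (le_inf hmR (hR'.le.trans inf_le_right))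
    (inf_le_inf_right _ h.cent) (h.syl.isPGroup.to_le inf_le_left))] at hR'
  obtain ⟨B, hB, hle⟩ := h.not_isolated hG ht' (by rw [Invol.orderOf_conj, h2])
    (fun e => hne ((MulAut.conj m).injective (hmz.trans e))) hR'
  obtain ⟨n, hn, hnB⟩ := hS.exists_conj_le hB.pg (le_cent1_of_comm hB.1.1 (hle (mem_sup_left (mem_zpowers z))))
  have h3 := h.W3 hnB (hB.cj n)
  rw [← cj_W, cj_eq_iff, cj_of_mem_normalizer (h.cent_z (inv_mem hn))] at h3
  have h4 := (h.lc.gf.clos_eq hB hle (by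
    rw [← hmz, ← cj_K4, card_cj, card_K4 h.two h2 hzt hne]; rfl)).trans h3
  conv_lhs at h4 => rw [← hmz, ← cj_K4]
  rwa [← W, ← cj_W, cj_eq_iff, cj_of_mem_normalizer (h.cent_z (inv_mem hm))] at h4

theorem W_all (hG : ∀ K : Subgroup G, K.index ≠ 2) (hE : E ≤ S) (h2 : EA 2 2 E) : W E = W (K4 z a) := by
  obtain ⟨t, ht, hn⟩ := SetLike.not_le_iff_exists.1 fun hle : E ≤ zpowers z => by
    have := h2.2.trans (card_le_of_le hle)
    rw [Nat.card_zpowers, h.two] at this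
    omega
  have h1 := h2.orderOf ht fun e => hn (e ▸ one_mem _)
  have hne : z ≠ t := fun e => hn (e ▸ mem_zpowers z)
  rw [← h.W_K4 hG (hE ht) h1 hne]
  exact h.lc.W_eq h2 (ea_K4 h.two h1 (mem_cent1_symm (h.cent (hE ht))) hne)
    (le_cent_K4 (hE.trans h.cent) (le_cent1_of_comm h2.1.1 ht))

theorem cent_all (hG : ∀ K : Subgroup G, K.index ≠ 2) (hu : u ∈ S) (h2 : orderOf u = 2) :
    𝐂[u] ≤ 𝐍(W (K4 z a)) ∧ th u ≤ W (K4 z a) := by
  by_cases e : z = u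
  · exact e ▸ ⟨h.cent_z, h.th_le (mem_sup_left (mem_zpowers z)) (Invol.ne_one_of_two h.two)⟩
  have hzu := mem_cent1_symm (h.cent hu)
  have h1 := h.W_K4 hG hu h2 e
  refine ⟨?_, h1 ▸ le_sigClosure (θ := th) (mem_sup_right (mem_zpowers u)) (Invol.ne_one_of_two h2)⟩
  obtain ⟨T, hT, hST⟩ := exists_syl_ge (P := S ⊓ 𝐂[u]) (h.syl.isPGroup.to_le inf_le_left) inf_le_right
  obtain ⟨g, -, hg⟩ := h.syl.exists_conj_le hT.isPGroup le_top
  have h3 : K4 z u ≤ T := K4_le (hST ⟨h.mem, hzu⟩) (hST ⟨hu, self_mem u⟩)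
  have hgN : g ∈ 𝐍(W (K4 z a)) := h1 ▸ mem_norm_W
    ((h.W_all hG ((cj_mono g h3).trans hg) ((ea_K4 h.two h2 hzu e).cj g)).trans h1.symm)
  have hT' := hT.conj g
  have hu' := hg (conj_mem_cj g (h3 (mem_sup_right (mem_zpowers u))))
  have h2' : orderOf (g * u * g⁻¹) = 2 := by rw [Invol.orderOf_conj, h2]
  rw [← cj_le_cj_iff (g := g), cj_of_mem (H := 𝐍(W (K4 z a))) hgN, cj_centralizer_singleton]
  rw [cj_centralizer_singleton] at hT'
  by_cases e' : z = g * u * g⁻¹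
  · exact e' ▸ h.cent_z
  · rw [← h.W_K4 hG hu' h2' e']
    exact h.lc.cent_le_K4 h2' h.two e' hT' (hg.trans h.cent) (mem_cent1_symm (h.cent hu'))

theorem th_eq_bot (hG : ∀ K : Subgroup G, K.index ≠ 2) (hB : BenderCore G) (hO : oddCore G = ⊥)
    (h2 : orderOf u = 2) : th u = ⊥ := by
  have h0 : W (K4 z a) = ⊥ := by
    by_cases hM : 𝐍(W (K4 z a)) = ⊤
    · exact eq_bot_of_normal_of_core hO (fun g => cj_of_mem_normalizer (hM ▸ mem_top g)) h.odd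
    · have := hB _ (spe_two_iff.1 (spe_of_cent le_top hM (h.syl.of_le (le_normalizer.trans h.norm_le) le_top)
        (fun e => Invol.ne_one_of_two h.two (mem_bot.1 (e ▸ h.mem))) (inf_le_right.trans h.norm_le)
        fun x hx h2 => inf_le_right.trans (h.cent_all hG hx h2).1))
      rw [hO, oddCore, map_pPrimeCore_subtype Nat.prime_two] at this
      exact le_bot_iff.1 ((le_pPrimeCoreOf' Nat.prime_two le_normalizer le_rfl h.odd).trans this)
  obtain ⟨g, -, hg⟩ := h.syl.exists_conj_le (Invol.isPGroup_zpowers_two h2) le_top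
  have := (h.cent_all hG (hg (conj_mem_cj g (mem_zpowers u))) (by rw [Invol.orderOf_conj, h2])).2
  rwa [h0, le_bot_iff, th, ← cj_cpc, cj_eq_bot_iff] at this

end Dc

theorem LC.exists_dc (h : LC G) (hr : ¬ PRankLE 2 2 G) : ∃ (S : Subgroup G) (z a : G), Dc S z a := by
  obtain ⟨S, hS⟩ := exists_syl 2 (⊤ : Subgroup G)
  obtain ⟨B, hB, h3⟩ := exists_ea_le_syl hS hr
  obtain ⟨A, hn, hA, h4⟩ := PGrp.exists_normal_elem_sq_of_rank hS.isPGroup (not_pRankLE_iff.2 ⟨B, hB, h3⟩)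
  have hU : IsKleinFour (A.map S.subtype) := PGrp.isKleinFour_iff.2
    ⟨isElemAb_map_subtype_iff.2 hA, by rw [card_map_of_injective S.subtype_injective, h4]⟩
  have hUn : S ≤ 𝐍(A.map S.subtype) := le_normalizer_map_of_normal A
  have hUR := map_subtype_le A
  generalize A.map S.subtype = U at *
  obtain ⟨z, hz, hz1⟩ := (U ⊓ omegaOneCenter 2 S).bot_or_exists_ne_one.resolve_left
    (inf_omZ_ne_bot hS.isPGroup hUR hUn fun e => by simpa [e] using hU.card_four)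
  obtain ⟨a, ha, ha1, haz⟩ := Invol.klein_exists_ne hU z
  have hc : S ≤ 𝐂[z] := (le_cent_omZ S).trans (cent_le_cent1 hz.2)
  refine ⟨S, z, a, h, hS, Invol.klein_two hU hz.1 hz1, hUR hz.1, hc, Invol.klein_two hU ha ha1, hUR ha, haz.symm,
    fun w hw => ?_, B, hB, h3⟩
  rcases Invol.klein_eq_mul hU hz.1 ha (cj_of_mem_normalizer (hUn hw) ▸ conj_mem_cj w ha) hz1 ha1 haz.symm with
    e | e | e | e
  · exact absurd (by simpa using e) ha1
  · refine absurd ((MulAut.conj w).injective (e.trans ?_)) haz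
    exact (mul_inv_eq_iff_eq_mul.2 (cmem.1 (hc hw))).symm
  · exact Or.inl e
  · exact Or.inr e

/-- `2`-constrained involution centralizers and rank at least three: the cores are trivial. -/
theorem LC.th_eq_bot (h : LC G) (hG : ∀ K : Subgroup G, K.index ≠ 2) (hB : BenderCore G) (hO : oddCore G = ⊥)
    (hr : ¬ PRankLE 2 2 G) (h2 : orderOf u = 2) : th u = ⊥ := by
  obtain ⟨S, z, a, hd⟩ := h.exists_dc hr
  exact hd.th_eq_bot hG hB hO h2

theorem LC.charTwo (h : LC G) (hG : ∀ K : Subgroup G, K.index ≠ 2) (hB : BenderCore G) (hO : oddCore G = ⊥)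
    (hr : ¬ PRankLE 2 2 G) : IsCharacteristicTwoType G :=
  charTwoType_of_cent (even_card_of_rank hr) fun t ht =>
    charP_of_core_layer (by rw [← cpc_eq]; exact h.th_eq_bot hG hB hO hr ht) (h t ht)

end Cfsg.Lib.Push.Dich
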