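import Cfsg.Agent.Lib.SigC.Two
import Cfsg.Agent.Lib.Amalg.Extremal
import Cfsg.Agent.Lib.Invol.Classes
import Cfsg.Agent.Lib.Invol.Focal
import Cfsg.Agent.Lib.PGrp.MaxClass

/-! Groups with solvable involution centralizers: the closure of the cores of the centralizers. -/

set_option autoImplicit false
set_option linter.unusedSectionVars false

namespace Cfsg.Lib.Push.ZC
open Subgroup Cfsg.Lib.Core Cfsg.Lib.Amalg Cfsg.Lib.BG1 Cfsg.Lib.Layer Cfsg.Lib.SigC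

variable {G : Type*} [Group G] [Finite G] {E F R S T U V X : Subgroup G} {t u z : G}

/-- `O(C(u))` -/
abbrev th (u : G) : Subgroup G := centralizerPPrimeCore 2 u

/-- the closure of the cores over `V` -/
abbrev W (V : Subgroup G) : Subgroup G := signalizerClosure V th

/-- involution centralizers are solvable -/
def SC (G : Type*) [Group G] : Prop := ∀ t : G, orderOf t = 2 → Group.IsSolvable 𝐂[t]

theorem cj_W_le (g : G) (V : Subgroup G) : cj g (W V) ≤ W (cj g V) := by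
  rw [W, signalizerClosure, cj_iSup]
  refine iSup_le fun a => ?_
  rw [cj_cpc]
  exact le_sigClosure (θ := th) (conj_mem_cj g a.2.1) (by simpa using a.2.2)

theorem cj_W (g : G) (V : Subgroup G) : cj g (W V) = W (cj g V) := by
  refine le_antisymm (cj_W_le g V) (le_cj_iff.2 ?_)
  have := cj_W_le g⁻¹ (cj g V)
  rwa [cj_inv_cj] at this

theorem mem_norm_W {g : G} (h : W (cj g V) = W V) : g ∈ 𝐍(W V) := by
  rw [← cj_eq_self_iff, cj_W, h]

theorem norm_le_W (V : Subgroup G) : 𝐍(V) ≤ 𝐍(W V) := fun _ hg =>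
  mem_norm_W (by rw [cj_of_mem_normalizer hg])

theorem zp_le_cent (h : X ≤ 𝐂[u]) : X ≤ 𝐂(zpowers u) := by rwa [cent_zpowers]

/-- the four-group generated by two commuting involutions -/
abbrev K4 (a b : G) : Subgroup G := zpowers a ⊔ zpowers b

theorem mem_K4 {a b x : G} (ha : orderOf a = 2) (hb : orderOf b = 2) (h : a ∈ 𝐂[b]) :
    x ∈ K4 a b ↔ x = 1 ∨ x = a ∨ x = b ∨ x = a * b := by
  rw [K4, ← PGrp.closure_pair_eq_sup]
  exact Invol.mem_closure_klein ha hb (Invol.mem_cent.1 h) x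

theorem ea_K4 {a b : G} (ha : orderOf a = 2) (hb : orderOf b = 2) (h : a ∈ 𝐂[b]) (hne : a ≠ b) :
    EA 2 2 (K4 a b) := by
  rcases (ea_zpowers ha).eq_or (ea_zpowers hb) (zp_le_cent (zpowers_le.2 h)) with e | h2
  · exact absurd (Invol.eq_of_mem_zpowers (e ▸ mem_zpowers a) (mem_zpowers b) ha hb) hne
  · exact h2

theorem K4_le {a b : G} (ha : a ∈ X) (hb : b ∈ X) : K4 a b ≤ X := sup_le (zpowers_le.2 ha) (zpowers_le.2 hb)

theorem cj_K4 (g a b : G) : cj g (K4 a b) = K4 (g * a * g⁻¹) (g * b * g⁻¹) := by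
  rw [K4, cj_sup, cj_zpowers, cj_zpowers]

theorem K4_comm (a b : G) : K4 a b = K4 b a := sup_comm _ _

theorem le_cent_K4 {a b : G} (ha : X ≤ 𝐂[a]) (hb : X ≤ 𝐂[b]) : X ≤ 𝐂(K4 a b) :=
  BG1.le_cent_symm (sup_le (BG1.le_cent_symm (zp_le_cent ha)) (BG1.le_cent_symm (zp_le_cent hb)))

namespace SC
variable (h : SC G)
include h

theorem lay (ht : orderOf t = 2) : pLayerOf 2 𝐂[t] = ⊥ := pLayerOf_eq_bot_of_solvable (h t ht)

theorem gf : GF 2 (th (G := G)) := sft2.gf_cpc fun _ ht => h.lay ht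

theorem W_eq (hE : EA 2 2 E) (hF : EA 2 2 F) (hc : E ≤ 𝐂(F)) : W E = W F := h.gf.clos_eq_of_comm hE hF hc

theorem bal (hu : orderOf u = 2) (ht : orderOf t = 2) (hc : t ∈ 𝐂[u]) : th t ⊓ 𝐂[u] ≤ th u :=
  cpc_inf_cent_le hc (Invol.isPGroup_zpowers_two ht) (h.lay hu)

theorem th_le (hE : EA 2 2 E) (hu : orderOf u = 2) (hc : E ≤ 𝐂[u]) : th u ≤ W E := by
  have h2 := hE.sup (ea_zpowers hu).1 (zp_le_cent hc)
  rw [h.W_eq hE h2 (BG1.le_cent_symm (sup_le (elemAb_le_cent hE.1) (BG1.le_cent_symm (zp_le_cent hc))))]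
  exact le_sigClosure (θ := th) (mem_sup_right (mem_zpowers u)) (Invol.ne_one_of_two hu)

/-- a four-group in the centre of a Sylow subgroup of `C(u)` -/
theorem cent_le (hu : orderOf u = 2) (hT : Syl 2 T 𝐂[u]) (hV : EA 2 2 V) (hVT : V ≤ T) (hc : T ≤ 𝐂(V)) :
    𝐂[u] ≤ 𝐍(W V) := by
  have hR := hT.inf_normal (pPrimePCoreOf_le 2 _) (le_norm_pPrimePCoreOf_self 2 _)
  have hV0 : V ≤ T ⊓ pPrimePCoreOf 2 𝐂[u] :=
    le_inf hVT (Sig.le_oqq'_of_cent_syl (h u hu) hT (hVT.trans hT.le) (BG1.le_cent_symm hc))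
  refine (hR.frattini (pPrimePCoreOf_le 2 _) (le_norm_pPrimePCoreOf_self 2 _)).ge.trans (sup_le
    ((pPrimePCoreOf_eq_sup hR).ge.trans (sup_le ?_ ?_)) fun g hg => ?_)
  · rw [← cpc_eq]
    exact (h.th_le hV hu (hVT.trans hT.le)).trans le_normalizer
  · exact inf_le_left.trans (hc.trans ((cent_le_norm V).trans (norm_le_W V)))
  · exact mem_norm_W (h.W_eq (hV.cj g) hV
      ((cj_le_of_le_of_mem_normalizer hV0 hg.2).trans (inf_le_left.trans hc)))

theorem charP (hu : orderOf u = 2) (h0 : th u = ⊥) : CharP 2 𝐂[u] :=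
  charP_of_core_layer (by rwa [← cpc_eq]) (h.lay hu)

end SC

/-- the alternative: a strongly embedded subgroup containing `S`, or trivial cores -/
def Alt (S : Subgroup G) : Prop := (∃ M, SPE 2 M ⊤ ∧ S ≤ M) ∨ ∀ u : G, orderOf u = 2 → th u = ⊥

theorem alt_of (hO : pPrimeCore 2 G = ⊥) (hS : Syl 2 S ⊤) (hne : S ≠ ⊥) (hX : ¬ 2 ∣ Nat.card X)
    (hN : 𝐍(S) ≤ 𝐍(X)) (hC : ∀ u ∈ S, orderOf u = 2 → 𝐂[u] ≤ 𝐍(X))
    (hθ : X = ⊥ → ∀ u ∈ S, orderOf u = 2 → th u = ⊥) : Alt S := by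
  have hSX := le_normalizer.trans hN
  by_cases hM : 𝐍(X) = ⊤
  · have h0 := eq_bot_of_normal_of_core hO (fun g => cj_of_mem_normalizer (hM ▸ mem_top g)) hX
    refine Or.inr fun u hu => ?_
    obtain ⟨g, -, hg⟩ := hS.exists_conj_le (Invol.isPGroup_zpowers_two hu) le_top
    have := hθ h0 _ (hg (conj_mem_cj g (mem_zpowers u))) (by rw [Invol.orderOf_conj, hu])
    rwa [th, ← cj_cpc, cj_eq_bot_iff] at this
  · exact Or.inl ⟨_, spe_of_cent le_top hM (hS.of_le hSX le_top) hne (inf_le_right.trans hN)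
      fun x hx h2 => inf_le_right.trans (hC x hx h2), hSX⟩

/-- the case of a noncyclic centre -/
theorem SC.alt_Z (h : SC G) (hO : pPrimeCore 2 G = ⊥) (hS : Syl 2 S ⊤) (hZ : EA 2 2 (omegaOneCenter 2 S))
    (hW : ¬ 2 ∣ Nat.card (W (omegaOneCenter 2 S))) : Alt S := by
  have hc : ∀ u ∈ S, omegaOneCenter 2 S ≤ 𝐂[u] := fun u hu => (omZ_le_cent S).trans (cent_le_cent1 hu)
  refine alt_of hO hS (fun e => ne_bot_of_card_ge hZ.2 (le_bot_iff.1 (e ▸ omZ_le S))) hW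
    ((norm_le_norm_omZ S).trans (norm_le_W _)) (fun u hu h2 => ?_)
    fun e u hu h2 => le_bot_iff.1 (e ▸ h.th_le hZ h2 (hc u hu))
  obtain ⟨T, hT, hZT⟩ := exists_syl_ge (P := S ⊓ 𝐂[u]) (hS.isPGroup.to_le inf_le_left) inf_le_right
  obtain ⟨g, -, hg⟩ := hS.exists_le_conj hT.isPGroup le_top
  have huT : u ∈ T := hZT ⟨hu, Invol.mem_cent.2 (Commute.refl u)⟩
  have h1 : T ≤ 𝐂(cj g (omegaOneCenter 2 S)) := by rw [cj_omZ]; exact hg.trans (le_cent_omZ _)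
  have h3 : cj g (omegaOneCenter 2 S) ≤ T :=
    hT.le_of_le_normalizer (hZ.cj g).pg ((BG1.le_cent_symm h1).trans (cent_le_cent1 huT))
      (h1.trans (cent_le_norm _))
  rw [h.W_eq hZ (hZ.cj g) (((le_inf (omZ_le S) (hc u hu)).trans hZT).trans h1)]
  exact h.cent_le h2 hT (hZ.cj g) h3 h1

theorem cmem {a b : G} : a ∈ 𝐂[b] ↔ a * b = b * a := mem_centralizer_singleton_iff

theorem self_mem (a : G) : a ∈ 𝐂[a] := cmem.2 rfl

theorem two_pow {x : G} (hx : orderOf x = 2) : x ^ 2 ^ 1 = 1 := by rw [pow_one, Invol.sq_of_two hx]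

theorem card_K4 {a b : G} (ha : orderOf a = 2) (hb : orderOf b = 2) (h : a ∈ 𝐂[b]) (hne : a ≠ b) :
    Nat.card (K4 a b) = 4 := by
  rw [K4, ← PGrp.closure_pair_eq_sup]
  exact (Invol.isKleinFour_closure ha hb hne (Invol.mem_cent.1 h)).card_four

/-- a `2`-group with a noncentral element with centralizer of order four has maximal class -/
theorem max2_of_cent (hR : IsPGroup 2 R) (ht : t ∈ R) (h4 : Nat.card ↥(R ⊓ 𝐂[t]) = 4) (hn : ¬ R ≤ 𝐂[t]) :
    ∃ (a b : R) (m : ℕ), PGrp.Max2 a b m := by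
  obtain ⟨n, hn'⟩ := IsPGroup.iff_card.1 hR
  have h1 : Nat.card (centralizer ({⟨t, ht⟩} : Set R)) = 2 ^ 2 := by
    rw [← card_map_of_injective R.subtype_injective, show 2 ^ 2 = 4 from rfl, ← h4]
    congr 2
    ext x
    constructor
    · rintro ⟨y, hy, rfl⟩
      exact ⟨y.2, cmem.2 (congrArg Subtype.val (mem_centralizer_singleton_iff.1 hy))⟩
    · exact fun hx => ⟨⟨x, hx.1⟩, mem_centralizer_singleton_iff.2 (Subtype.ext (cmem.1 hx.2)), rfl⟩
  have h2 := card_lt_of_lt' (lt_of_le_of_ne (inf_le_left : R ⊓ 𝐂[t] ≤ R) fun e => hn (inf_eq_left.1 e))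
  rw [h4, hn', show 4 = 2 ^ 2 from rfl, Nat.pow_lt_pow_iff_right one_lt_two] at h2
  obtain ⟨a, b, hm⟩ := PGrp.exists_max2_of_maxClass h2 hn' (PGrp.maxClass_of_centralizer hn' h1)
  exact ⟨a, b, _, hm⟩

/-- a `2`-central involution with `2`-closed centralizer -/
structure Zc (R : Subgroup G) (z : G) : Prop where
  sc : SC G
  syl : Syl 2 R ⊤
  two : orderOf z = 2
  mem : z ∈ R
  cent : R ≤ 𝐂[z]
  norm : 𝐂[z] ≤ 𝐍(R)

namespace Zc
variable (h : Zc R z)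
include h

theorem conj (g : G) : Zc (cj g R) (g * z * g⁻¹) where
  sc := h.sc
  syl := h.syl.conj_top g
  two := by rw [Invol.orderOf_conj, h.two]
  mem := conj_mem_cj g h.mem
  cent := by rw [← cj_centralizer_singleton]; exact cj_mono g h.cent
  norm := by rw [← cj_centralizer_singleton, ← cj_normalizer]; exact cj_mono g h.norm

theorem mem_R {x : G} {k : ℕ} (hx : x ^ 2 ^ k = 1) (hc : x ∈ 𝐂[z]) : x ∈ R :=
  h.syl.mem_of_mem_normalizer hx (mem_top x) (h.norm hc)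

theorem ne_bot : R ≠ ⊥ := fun e => Invol.ne_one_of_two h.two (mem_bot.1 (e ▸ h.mem))

theorem th_le_cent : th z ≤ 𝐂(R) := by
  rw [← Amalg.comm_eq_bot_iff]
  exact isPGroup_eq_bot_of_not_dvd (h.syl.isPGroup.to_le (comm_le_right ((cpc_le_cent z).trans h.norm)))
    (comm_le_left (h.cent.trans (cent_le_norm_cpc z))) (cpc_not_dvd z)

theorem th_le (hu : u ∈ R) (h2 : orderOf u = 2) : th z ≤ th u :=
  (le_inf le_rfl (h.th_le_cent.trans (cent_le_cent1 hu))).trans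
    (h.sc.bal h2 h.two (mem_cent1_symm (h.cent hu)))

theorem th_eq {g : G} (hg : g * z * g⁻¹ ∈ R) : th (g * z * g⁻¹) = th z :=
  (eq_of_le_of_card_le' (h.th_le hg (h.conj g).two) (by rw [th, ← cj_cpc, card_cj])).symm

theorem odd_W {g : G} (hg : g * z * g⁻¹ ∈ R) (hne : z ≠ g * z * g⁻¹) :
    ¬ 2 ∣ Nat.card (W (K4 z (g * z * g⁻¹))) := by
  have hc := mem_cent1_symm (h.cent hg)
  have h2 := Invol.two_mul_of_commute h.two (h.conj g).two hne (Invol.mem_cent.1 hc)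
  have h3 := h.th_le (R.mul_mem h.mem hg) h2
  refine fun hd => cpc_not_dvd (p := 2) (z * (g * z * g⁻¹)) (hd.trans (card_dvd_of_le ?_))
  refine sigClosure_le fun x hx h1 => ?_
  rcases (mem_K4 h.two (h.conj g).two hc).1 hx with e | e | e | e
  · exact absurd e h1
  · rw [e]; exact h3
  · rw [e, h.th_eq hg]; exact h3
  · rw [e]

theorem alt_of_conj (hO : pPrimeCore 2 G = ⊥) (hc : ∀ u ∈ R, orderOf u = 2 → ∃ g, u = g * z * g⁻¹) : Alt R := by
  have e : ∀ u ∈ R, orderOf u = 2 → th u = th z := fun u hu h2 => by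
    obtain ⟨g, rfl⟩ := hc u hu h2
    exact h.th_eq hu
  refine alt_of hO h.syl h.ne_bot (cpc_not_dvd z) (fun g hg => ?_)
    (fun u hu h2 => (cent_le_norm_cpc u).trans (congrArg _ (congrArg _ (e u hu h2))).le)
    fun h0 u hu h2 => (e u hu h2).trans h0
  rw [← cj_eq_self_iff, cj_cpc]
  exact h.th_eq (cj_of_mem_normalizer hg ▸ conj_mem_cj g h.mem)

theorem odd_index : Odd R.index :=
  Nat.not_even_iff_odd.1 fun he => h.syl.not_dvd_index (even_iff_two_dvd.1 he)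

theorem alt_of_max2 (hG : ∀ K : Subgroup G, K.index ≠ 2) (hO : pPrimeCore 2 G = ⊥) {a b : R} {m : ℕ}
    (hm : PGrp.Max2 a b m) : Alt R := by
  have h1 : (zpowers (a : G)).relIndex R = 2 := by
    rw [← hm.index, relIndex, ← coe_subtype, ← MonoidHom.map_zpowers, map_subtype_subgroupOf]
  have h2 : z ∈ zpowers (a : G) := by
    have : (⟨z, h.mem⟩ : R) ∈ center R := mem_center_iff.2 fun x => Subtype.ext (cmem.1 (h.cent x.2))
    rw [hm.center_eq] at this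
    obtain ⟨k, hk⟩ := zpowers_le.2 (pow_mem (mem_zpowers a) _) this
    exact ⟨k, congrArg Subtype.val hk⟩
  refine h.alt_of_conj hO fun u _ hu => ?_
  obtain ⟨g, hg⟩ := Invol.thompson_transfer' hG h.odd_index h1 hu
  refine ⟨g⁻¹, ?_⟩
  rw [← Invol.eq_of_mem_zpowers hg h2 (by rw [Invol.orderOf_conj, hu]) h.two]
  group

end Zc

/-- `⟨z, a⟩` is a normal noncentral four-group of `R` -/
structure Nf (R : Subgroup G) (z a : G) : Prop extends Zc R z where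
  atwo : orderOf a = 2
  amem : a ∈ R
  comm : ∀ w ∈ R, w * a * w⁻¹ = a ∨ w * a * w⁻¹ = z * a
  ncent : ¬ R ≤ 𝐂[a]

namespace Nf
variable {a : G} (h : Nf R z a)
include h

theorem conj (g : G) : Nf (cj g R) (g * z * g⁻¹) (g * a * g⁻¹) where
  toZc := h.toZc.conj g
  atwo := by rw [Invol.orderOf_conj, h.atwo]
  amem := conj_mem_cj g h.amem
  comm := by
    intro w hw
    obtain ⟨y, hy, rfl⟩ := mem_cj'.1 hw
    refine (h.comm y hy).imp (fun e => ?_) fun e => ?_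
    · calc _ = g * (y * a * y⁻¹) * g⁻¹ := by group
        _ = _ := by rw [e]
    · calc _ = g * (y * a * y⁻¹) * g⁻¹ := by group
        _ = _ := by rw [e]; group
  ncent := by rw [← cj_centralizer_singleton, cj_le_cj_iff]; exact h.ncent

theorem ne : z ≠ a := fun e => h.ncent (e ▸ h.cent)

theorem zc : z ∈ 𝐂[a] := mem_cent1_symm (h.cent h.amem)

theorem ea : EA 2 2 (K4 z a) := ea_K4 h.two h.atwo h.zc h.ne

theorem swap {w : G} (hw : w ∈ R) (hn : w ∉ 𝐂[a]) : w * a * w⁻¹ = z * a :=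
  (h.comm w hw).resolve_left fun e => hn (cmem.2 (mul_inv_eq_iff_eq_mul.1 e))

theorem mul {x y : G} (hx : x ∈ R) (hy : y ∈ R) (h1 : x ∉ 𝐂[a]) (h2 : y ∉ 𝐂[a]) : x * y ∈ 𝐂[a] := by
  refine cmem.2 (mul_inv_eq_iff_eq_mul.1 ?_)
  calc x * y * a * (x * y)⁻¹ = x * (y * a * y⁻¹) * x⁻¹ := by group
    _ = x * z * x⁻¹ * (x * a * x⁻¹) := by rw [h.swap hy h2]; group
    _ = a := by
      rw [h.swap hx h1, cmem.1 (h.cent hx), mul_inv_cancel_right, ← mul_assoc, Invol.mul_self_of_two h.two,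
        one_mul]

theorem sq {y : G} (hy : y ∈ R) : y * y ∈ 𝐂[a] := by
  by_cases h1 : y ∈ 𝐂[a]
  · exact mul_mem h1 h1
  · exact h.mul hy hy h1 h1

theorem idx : (𝐂[a]).relIndex R = 2 := by
  obtain ⟨w, hw, hn⟩ := SetLike.not_le_iff_exists.1 h.ncent
  refine relIndex_eq_two_iff.2 ⟨w, hw, fun b hb => ?_⟩
  by_cases h1 : b ∈ 𝐂[a]
  · exact Or.inr ⟨h1, fun h2 => hn ((mul_mem_cancel_left h1).1 h2)⟩
  · exact Or.inl ⟨h.mul hb hw h1 hn, h1⟩

theorem W_eq (hu : u ∈ R) (h2 : orderOf u = 2) (hne : z ≠ u) (hc : u ∈ 𝐂[a]) : W (K4 z u) = W (K4 z a) :=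
  h.sc.W_eq (ea_K4 h.two h2 (mem_cent1_symm (h.cent hu)) hne) h.ea
    (le_cent_K4 (K4_le (self_mem z) (h.cent hu)) (K4_le h.zc hc))

theorem not_sq {g y : G} (hg : g * z * g⁻¹ ∈ R) (hn : g * z * g⁻¹ ∉ 𝐂[a])
    (hu : ∀ x ∈ R, x ∈ 𝐂[g * z * g⁻¹] → x ∈ 𝐂[a] → orderOf x = 2 → x = z)
    (hc : y ∈ 𝐂[g * z * g⁻¹]) : y * y ≠ z := fun e => by
  have h' := h.conj g
  generalize g * z * g⁻¹ = t at *
  generalize g * a * g⁻¹ = b at *
  generalize cj g R = R' at *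
  have hzz := Invol.mul_self_of_two h.two
  have htt := Invol.mul_self_of_two h'.two
  have hy4 : y ^ 2 ^ 2 = 1 := by rw [show 2 ^ 2 = 2 * 2 from rfl, pow_mul, pow_two y, e, pow_two, hzz]
  have h1 : b ∈ 𝐂[z] := mem_cent1_symm (e ▸ h'.sq (h'.mem_R hy4 hc))
  have h2 : b ∈ R := h.mem_R (two_pow h'.atwo) h1
  have h3 : b ∈ 𝐂[t] := h'.cent h'.amem
  obtain ⟨x, hx, hxn⟩ := SetLike.not_le_iff_exists.1 h'.ncent
  have h4 := h'.swap hx hxn
  have h5 : x * t * x⁻¹ = t := mul_inv_eq_iff_eq_mul.2 (cmem.1 (h'.cent hx))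
  have h6 : x * z * x⁻¹ = t * z := by
    by_cases hb : b ∈ 𝐂[a]
    · rwa [hu b h2 h3 hb h'.atwo] at h4
    · have := hu _ (R.mul_mem h2 hg) (mul_mem h3 (self_mem t)) (h.mul h2 hg hb hn)
        (Invol.two_mul_of_commute h'.atwo h'.two h'.ne.symm (Invol.mem_cent.1 h3))
      calc x * z * x⁻¹ = x * b * x⁻¹ * (x * t * x⁻¹) := by rw [← this]; group
        _ = _ := by rw [h4, h5, mul_assoc, this]
  have h7 : x * y * x⁻¹ ∈ 𝐂[t] := mul_mem (mul_mem (h'.cent hx) hc) (inv_mem (h'.cent hx))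
  have h8 : x * y * x⁻¹ * (x * y * x⁻¹) = t * z := by rw [← h6, ← e]; group
  have h9 : x * y * x⁻¹ ∈ 𝐂[z] := by
    refine mem_cent1_symm ((mul_mem_cancel_left (mem_cent1_symm h7)).1 ?_)
    rw [← h8]
    exact mul_mem (self_mem _) (self_mem _)
  have := h.sq (h.mem_R (k := 2) (by rw [conj_pow, hy4]; group) h9)
  rw [h8] at this
  exact hn ((mul_mem_cancel_right h.zc).1 this)

theorem key {g : G} (hg : g * z * g⁻¹ ∈ R) (hne : z ≠ g * z * g⁻¹) :
    W (K4 z (g * z * g⁻¹)) = W (K4 z a) ∨ ∃ (a b : R) (m : ℕ), PGrp.Max2 a b m := by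
  have ht := (h.conj g).two
  by_cases hn : g * z * g⁻¹ ∈ 𝐂[a]
  · exact Or.inl (h.W_eq hg ht hne hn)
  have hzt := mem_cent1_symm (h.cent hg)
  by_cases hu : ∀ x ∈ R, x ∈ 𝐂[g * z * g⁻¹] → x ∈ 𝐂[a] → orderOf x = 2 → x = z
  swap
  · push Not at hu
    obtain ⟨y, hy, h1, h2, h3, h4⟩ := hu
    refine Or.inl (Eq.trans ?_ (h.W_eq hy h3 h4.symm h2))
    exact h.sc.W_eq (ea_K4 h.two ht hzt hne) (ea_K4 h.two h3 (mem_cent1_symm (h.cent hy)) h4.symm)
      (le_cent_K4 (K4_le (self_mem z) (h.cent hg)) (K4_le (mem_cent1_symm (h.cent hy)) (mem_cent1_symm h1)))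
  have h0 : ∀ y ∈ R, y ∈ 𝐂[g * z * g⁻¹] → y ∈ 𝐂[a] → y ∈ zpowers z := fun y hy h1 h2 => by
    rcases Nat.even_or_odd (orderOf y) with he | ho
    · obtain ⟨s, hs, hs2⟩ := Invol.exists_two_zpowers_of_even he
      have e := hu s (zpowers_le.2 hy hs) (zpowers_le.2 h1 hs) (zpowers_le.2 h2 hs) hs2
      obtain ⟨n, rfl⟩ := PGrp.exists_pow_eq_of_mem_zpowers hs
      rcases Nat.even_or_odd n with ⟨k, rfl⟩ | hn'
      · exact absurd (by rw [← pow_add, e]) (h.not_sq hg hn hu (pow_mem h1 k))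
      · obtain ⟨k, hk⟩ := Invol.pow_eq_one_of_mem h.syl.isPGroup hy
        refine mem_of_pow_mem_coprime (n := n) ?_ (e ▸ mem_zpowers _)
        exact ((Nat.coprime_two_left.2 hn').pow_left k).coprime_dvd_left (orderOf_dvd_of_pow_eq_one hk)
    · rw [Invol.eq_one_of_odd_of_mem h.syl.isPGroup hy ho]; exact one_mem _
  refine Or.inr (max2_of_cent h.syl.isPGroup hg ?_ fun hc => hn (mem_cent1_symm (hc h.amem)))
  rw [← card_K4 h.two ht hzt hne]
  congr 2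
  refine le_antisymm (fun x hx => ?_) (K4_le ⟨h.mem, hzt⟩ ⟨hg, self_mem _⟩)
  by_cases h1 : x ∈ 𝐂[a]
  · exact mem_sup_left (h0 x hx.1 hx.2 h1)
  · exact (mul_mem_cancel_right (mem_sup_right (mem_zpowers _))).1 (mem_sup_left
      (h0 _ (R.mul_mem hx.1 hg) (mul_mem hx.2 (self_mem _)) (h.mul hx.1 hg h1 hn)))

theorem alt (hG : ∀ K : Subgroup G, K.index ≠ 2) (hO : pPrimeCore 2 G = ⊥) {g₀ : G} (hg₀ : g₀ * z * g₀⁻¹ ∈ R)
    (hne₀ : z ≠ g₀ * z * g₀⁻¹) : Alt R := by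
  by_cases hm : ∃ (a b : R) (m : ℕ), PGrp.Max2 a b m
  · obtain ⟨a, b, m, hm⟩ := hm
    exact h.alt_of_max2 hG hO hm
  have hk : ∀ g, g * z * g⁻¹ ∈ R → z ≠ g * z * g⁻¹ → W (K4 z (g * z * g⁻¹)) = W (K4 z a) :=
    fun g hg hne => (h.key hg hne).resolve_right hm
  have hn : ∀ g, g * z * g⁻¹ ∈ R → g ∈ 𝐍(W (K4 z a)) := fun g hg => by
    rw [← cj_eq_self_iff]
    by_cases e : z = g * z * g⁻¹
    · have hgR : g ∈ 𝐍(R) := h.norm (cmem.2 (mul_inv_eq_iff_eq_mul.1 e.symm))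
      have h1 : g * g₀ * z * (g * g₀)⁻¹ = g * (g₀ * z * g₀⁻¹) * g⁻¹ := by group
      have h2 := hk (g * g₀) (h1 ▸ cj_of_mem_normalizer hgR ▸ conj_mem_cj g hg₀)
        fun e' => hne₀ ((MulAut.conj g).injective (e.symm.trans (e'.trans h1)))
      conv_lhs => rw [← hk g₀ hg₀ hne₀, cj_W, cj_K4, ← e, ← h1, h2]
    · have h1 : g⁻¹ * z * g⁻¹⁻¹ ∈ R := by
        rw [inv_inv]
        exact mem_cj.1 ((h.toZc.conj g).mem_R (two_pow h.two) (mem_cent1_symm (h.cent hg)))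
      have h2 : g * (g⁻¹ * z * g⁻¹⁻¹) * g⁻¹ = z := by group
      have h3 := hk g⁻¹ h1 fun e' => e (h2.symm.trans (by rw [← e']))
      conv_lhs => rw [← h3, cj_W, cj_K4, K4_comm, h2, hk g hg e]
  have hN : 𝐍(R) ≤ 𝐍(W (K4 z a)) := fun g hg => hn g (cj_of_mem_normalizer hg ▸ conj_mem_cj g h.mem)
  have main : ∀ u ∈ R, orderOf u = 2 → 𝐂[u] ≤ 𝐍(W (K4 z a)) ∧ th u ≤ W (K4 z a) := fun u hu h2 => by
    obtain ⟨T, hT, hRT⟩ := exists_syl_ge (P := R ⊓ 𝐂[u]) (h.syl.isPGroup.to_le inf_le_left) inf_le_right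
    obtain ⟨g, hg, hTR⟩ := thompson_transfer_extremal hG h.odd_index h.idx h2 hT.isPGroup hT.le
    have hgN : g⁻¹ ∈ 𝐍(W (K4 z a)) :=
      hn _ (by rw [inv_inv]; exact hTR z (hRT ⟨h.mem, mem_cent1_symm (h.cent hu)⟩))
    have hT' := hT.conj g⁻¹
    have hTR' : cj g⁻¹ T ≤ R := cj_le_iff'.2 fun x hx => by rw [inv_inv]; exact hTR x hx
    have hu' : g⁻¹ * u * g⁻¹⁻¹ ∈ cj g⁻¹ T := conj_mem_cj _ (hRT ⟨hu, self_mem u⟩)
    have h2' : orderOf (g⁻¹ * u * g⁻¹⁻¹) = 2 := by rw [Invol.orderOf_conj, h2]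
    rw [← cj_le_cj_iff (g := g⁻¹), cj_of_mem (H := 𝐍(W (K4 z a))) hgN, ← cj_le_cj_iff (g := g⁻¹) (H := th u),
      cj_of_mem_normalizer hgN, cj_cpc, cj_centralizer_singleton]
    rw [cj_centralizer_singleton] at hT'
    rw [← inv_inv g] at hg
    rw [inv_inv g⁻¹] at hg
    generalize g⁻¹ * u * g⁻¹⁻¹ = v at *
    have hzv := mem_cent1_symm (h.cent (hTR' hu'))
    refine ⟨?_, h.sc.th_le h.ea h2' (K4_le hzv (mem_cent1_symm hg))⟩
    by_cases e : z = v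
    · exact e ▸ h.norm.trans hN
    · rw [← h.W_eq (hTR' hu') h2' e hg]
      refine h.sc.cent_le h2' hT' (ea_K4 h.two h2' hzv e) (K4_le ?_ hu') (le_cent_K4 (hTR'.trans h.cent) hT'.le)
      exact hT'.mem_of_mem_normalizer (two_pow h.two) hzv
        (cent_le_norm _ (zpowers_le.1 (BG1.le_cent_symm (zp_le_cent (hTR'.trans h.cent)))))
  exact alt_of hO h.syl h.ne_bot (hk g₀ hg₀ hne₀ ▸ h.odd_W hg₀ hne₀) hN (fun u hu h2 => (main u hu h2).1)
    fun e u hu h2 => le_bot_iff.1 (e ▸ (main u hu h2).2)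

end Nf

theorem Zc.alt (h : Zc R z) (hG : ∀ K : Subgroup G, K.index ≠ 2) (hO : pPrimeCore 2 G = ⊥) {g : G}
    (hg : g * z * g⁻¹ ∈ R) (hne : z ≠ g * z * g⁻¹) : Alt R := by
  have ht := (h.conj g).two
  have hzc : z ∈ omegaOneCenter 2 R := mem_omZ_iff.2
    ⟨h.mem, zpowers_le.1 (BG1.le_cent_symm (zp_le_cent h.cent)), Invol.sq_of_two h.two⟩
  by_cases hY : EA 2 2 (omegaOneCenter 2 R)
  · refine h.sc.alt_Z hO h.syl hY ?_
    rw [h.sc.W_eq hY (ea_K4 h.two ht (mem_cent1_symm (h.cent hg)) hne)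
      (BG1.le_cent_symm ((K4_le h.mem hg).trans (le_cent_omZ R)))]
    exact h.odd_W hg hne
  have hz : ∀ y ∈ omegaOneCenter 2 R, y ≠ 1 → z = y := fun y hy h1 => by
    by_contra e
    exact hY ⟨isElemAb_omZ R, (ea_K4 h.two (Invol.two_of_sq (mem_omZ_iff.1 hy).2.2 h1)
      (mem_cent1_symm (h.cent (omZ_le R hy))) e).2.trans (card_le_of_le (K4_le hzc hy))⟩
  by_cases hA : ∀ A : Subgroup R, A.Normal → IsElementaryAbelian 2 A → Nat.card A ≠ 2 ^ 2
  · rcases PGrp.isCyclic_or_max2 h.syl.isPGroup hA with hc | ⟨-, a, b, m, hm, -⟩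
    · exact absurd (Invol.eq_of_isCyclic hc h.mem hg h.two ht) hne
    · exact h.alt_of_max2 hG hO hm
  push Not at hA
  obtain ⟨A, hn, hA, h4⟩ := hA
  have hU : IsKleinFour (A.map R.subtype) := PGrp.isKleinFour_iff.2
    ⟨isElemAb_map_subtype_iff.2 hA, by rw [card_map_of_injective R.subtype_injective, h4]⟩
  have hUn : R ≤ 𝐍(A.map R.subtype) := le_normalizer_map_of_normal A
  have hUR := map_subtype_le A
  generalize A.map R.subtype = U at *
  obtain ⟨a, ha, ha1, haz⟩ := Invol.klein_exists_ne hU z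
  obtain ⟨y, hy, hy1⟩ := (U ⊓ omegaOneCenter 2 R).bot_or_exists_ne_one.resolve_left
    (inf_omZ_ne_bot h.syl.isPGroup hUR hUn fun e => ha1 (mem_bot.1 (e ▸ ha)))
  have hzU : z ∈ U := hz y hy.2 hy1 ▸ hy.1
  have ha2 := Invol.klein_two hU ha ha1
  refine Nf.alt (a := a) ⟨h, ha2, hUR ha, fun w hw => ?_, fun hc => haz (hz a (mem_omZ_iff.2
    ⟨hUR ha, zpowers_le.1 (BG1.le_cent_symm (zp_le_cent hc)), Invol.sq_of_two ha2⟩) ha1).symm⟩ hG hO hg hne
  rcases Invol.klein_eq_mul hU hzU ha (cj_of_mem_normalizer (hUn hw) ▸ conj_mem_cj w ha)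
    (Invol.ne_one_of_two h.two) ha1 haz.symm with e | e | e | e
  · exact absurd (by simpa using e) ha1
  · refine absurd ((MulAut.conj w).injective (e.trans ?_)) haz
    exact (mul_inv_eq_iff_eq_mul.2 (cmem.1 (h.cent hw))).symm
  · exact Or.inl e
  · exact Or.inr e

theorem cent_sub (t : X) : 𝐂[t] = (X ⊓ 𝐂[(t : G)]).subgroupOf X := by
  ext y
  rw [inf_subgroupOf_left, mem_subgroupOf, cmem, cmem, Subtype.ext_iff, coe_mul, coe_mul]

theorem SC.sub (h : SC G) (X : Subgroup G) : SC X := fun t ht => by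
  have := solvable_of_le (inf_le_right : X ⊓ 𝐂[(t : G)] ≤ _) (h t (by rw [orderOf_coe, ht]))
  rw [cent_sub]
  exact Group.isSolvable_of_isSolvable_injective (f := (subgroupOfEquivOfLe inf_le_left).toMonoidHom) (MulEquiv.injective _)

theorem noidx_res : ∀ K : Subgroup (pResidual 2 G), K.index ≠ 2 := by
  refine Invol.pResidual_two_eq_top_iff.1 ?_
  rw [← res_subgroupOf_self, ← res_top, res_res, subgroupOf_self]

theorem res_syl_ne_bot (heven : Even (Nat.card G)) (hO' : pPrimeCore 2 G = ⊥) (hO : pCore 2 G = ⊥)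
    (hS : Syl 2 S ⊤) : S ⊓ pResidual 2 G ≠ ⊥ := fun e => by
  have := pResidual_normal' 2 G
  have h1 := eq_bot_of_normal_of_core hO' (fun g => cj_normal g _) ((hS.inf_normal_top _).eq_bot_iff.1 e)
  rw [← res_top, res_eq_bot_iff, ← op_eq_self_iff, Amalg.op_top, hO] at h1
  rw [← card_top, ← h1, card_bot] at heven
  exact absurd heven (by decide)

theorem se_res (hS : Syl 2 S ⊤) (hne : S ⊓ pResidual 2 G ≠ ⊥) {M : Subgroup G} (hM : SPE 2 M ⊤) (hSM : S ≤ M) :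
    IsStronglyEmbedded (M.subgroupOf (pResidual 2 G)) :=
  spe_two_iff.1 (spe_subgroupOf_top.2 (hM.inf le_top
    (fun e => hM.not_le (hS.res_sup.ge.trans (sup_le (res_top (G := G) ▸ e) hSM)))
    (dvd_card_of_isPGroup_le (hS.isPGroup.to_le inf_le_left) hne (le_inf inf_le_right (inf_le_left.trans hSM)))))

theorem SC.char_sub (h : SC G) (h0 : ∀ u : G, orderOf u = 2 → th u = ⊥) (hX : pResidual 2 G ≤ X)
    (he : 2 ∣ Nat.card X) : IsCharacteristicTwoType X := by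
  refine charTwoType_of_cent (even_iff_two_dvd.2 he) fun t ht => ?_
  have h2 : orderOf (t : G) = 2 := by rw [orderOf_coe, ht]
  rw [cent_sub, charP_subgroupOf inf_le_left]
  exact (h.charP h2 (h0 _ h2)).of_res_le' inf_le_right
    (le_inf ((res_mono le_top).trans (res_top.le.trans hX)) (res_le _))

/-- the reduction of ZC-groups to local characteristic two -/
theorem SC.main (h : SC G) (heven : Even (Nat.card G)) (hO' : pPrimeCore 2 G = ⊥) (hO : pCore 2 G = ⊥)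
    (hS : Syl 2 S ⊤) (hZ : 𝐂(omegaOneCenter 2 S) ≤ 𝐍(S)) :
    (∃ M : Subgroup (pResidual 2 G), IsStronglyEmbedded M) ∨
    (Nat.card ↥(omegaOneCenter 2 S ⊓ pResidual 2 G) = 2 ∧ ∀ h ∈ pResidual 2 G,
      ∀ z ∈ omegaOneCenter 2 S ⊓ pResidual 2 G, h * z * h⁻¹ ∈ S → h * z * h⁻¹ ∈ omegaOneCenter 2 S) ∨
    (Nat.card (omegaOneCenter 2 S) = 4 ∧ omegaOne 2 (S ⊓ pResidual 2 G) = omegaOneCenter 2 S) ∨
    IsCharacteristicTwoType ↥(pResidual 2 G ⊔ omegaOneCenter 2 S) := by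
  have := pResidual_normal' 2 G
  have hR := res_syl_ne_bot heven hO' hO hS
  have hZH : omegaOneCenter 2 S ⊓ pResidual 2 G ≠ ⊥ := fun e =>
    inf_omZ_ne_bot (p := 2) hS.isPGroup inf_le_left (le_normalizer_inf le_normalizer le_normalizer_of_normal') hR
      (le_bot_iff.1 (e ▸ le_inf inf_le_right (inf_le_left.trans inf_le_right)))
  have hd : 2 ∣ Nat.card (pResidual 2 G) :=
    dvd_card_of_isPGroup_le (hS.isPGroup.to_le inf_le_left) hR inf_le_right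
  obtain ⟨z, hz, hz1⟩ := (omegaOneCenter 2 S ⊓ pResidual 2 G).bot_or_exists_ne_one.resolve_left hZH
  have hz2 := Invol.two_of_sq (mem_omZ_iff.1 hz.1).2.2 hz1
  by_cases h2 : EA 2 2 (omegaOneCenter 2 S)
  · by_cases h3 : ∃ A, A ≤ S ∧ EA 2 3 A
    · obtain ⟨A, hA, h3⟩ := h3
      have h4 := h3.sup h2.1 (hA.trans (le_cent_omZ S))
      rcases h.alt_Z hO' hS h2 (by
        rw [W, h.gf.clos_eq h4 le_sup_right h2.2]; exact (h.gf.theta _ h4).not_dvd) with ⟨M, hM, hSM⟩ | h0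
      · exact Or.inl ⟨_, se_res hS hR hM hSM⟩
      · exact Or.inr (Or.inr (Or.inr (h.char_sub h0 le_sup_left (hd.trans (card_dvd_of_le le_sup_left)))))
    have h4 : Nat.card (omegaOneCenter 2 S) = 2 ^ 2 := h2.card_or.resolve_right fun h' => h3 ⟨_, omZ_le S, h'⟩
    have h5 : ∀ x ∈ S, x ^ 2 = 1 → x ∈ omegaOneCenter 2 S := fun x hx hx2 => by
      have h6 := h2.sup (elemAb_zpowers hx2) (zp_le_cent ((omZ_le_cent S).trans (cent_le_cent1 hx)))
      rw [eq_of_le_of_card_le' (le_sup_left : _ ≤ omegaOneCenter 2 S ⊔ zpowers x)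
        (h4 ▸ (h6.card_or.resolve_right fun h' => h3 ⟨_, sup_le (omZ_le S) (zpowers_le.2 hx), h'⟩).le)]
      exact mem_sup_right (mem_zpowers x)
    by_cases h6 : omegaOneCenter 2 S ≤ pResidual 2 G
    · exact Or.inr (Or.inr (Or.inl ⟨h4, le_antisymm (om_le_iff.2 fun x hx => h5 x hx.1)
        (le_om (le_inf (omZ_le S) h6) h2.1.2)⟩))
    refine Or.inr (Or.inl ⟨?_, fun g _ y hy hg => h5 _ hg (by rw [conj_pow, h2.1.2 y hy.1]; group)⟩)
    have h7 := card_lt_of_lt' (lt_of_le_of_ne (inf_le_left : omegaOneCenter 2 S ⊓ pResidual 2 G ≤ _)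
      fun e => h6 (inf_eq_left.1 e))
    obtain ⟨k, hk⟩ := dvd_card_of_isPGroup_ne_bot (h2.pg.to_le inf_le_left) hZH
    have : 0 < Nat.card ↥(omegaOneCenter 2 S ⊓ pResidual 2 G) := Nat.card_pos
    omega
  have hZz : omegaOneCenter 2 S = zpowers z := by
    rcases (ea_zpowers hz2).eq_or (F := omegaOneCenter 2 S) ⟨isElemAb_omZ S, (ea_zpowers hz2).2.trans
      (card_le_of_le (zpowers_le.2 hz.1))⟩ ((zpowers_le.2 hz.1).trans (elemAb_le_cent (isElemAb_omZ S))) with e | e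
    · exact e.symm
    · rw [sup_eq_right.2 (zpowers_le.2 hz.1)] at e
      exact absurd e h2
  by_cases hw : ∀ g ∈ pResidual 2 G, g * z * g⁻¹ ∈ S → z = g * z * g⁻¹
  · refine Or.inr (Or.inl ⟨by rw [hZz, inf_eq_left.2 (zpowers_le.2 hz.2), Nat.card_zpowers, hz2],
      fun g hg y hy hS => ?_⟩)
    by_cases h1 : y = 1
    · rw [h1, mul_one, mul_inv_cancel]; exact one_mem _
    · rw [Invol.eq_of_mem_zpowers (hZz ▸ hy.1) (mem_zpowers z) (Invol.two_of_sq (mem_omZ_iff.1 hy.1).2.2 h1) hz2]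
        at hS ⊢
      rw [← hw g hg hS]
      exact hz.1
  push Not at hw
  obtain ⟨g, hg, hgS, hne⟩ := hw
  have hSc : S ≤ 𝐂[z] := (le_cent_omZ S).trans (cent_le_cent1 hz.1)
  have hc : Zc (S.subgroupOf (pResidual 2 G)) ⟨z, hz.2⟩ :=
    { sc := h.sub _
      syl := by simpa using (hS.inf_normal_top (pResidual 2 G)).subgroupOf_top
      two := by rw [Invol.orderOf_mk_eq, hz2]
      mem := omZ_le S hz.1
      cent := by rw [cent_sub, inf_subgroupOf_left]; exact comap_mono hSc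
      norm := by
        rw [cent_sub, ← inf_subgroupOf_right S, normalizer_subgroupOf inf_le_right]
        rw [hZz, cent_zpowers] at hZ
        exact comap_mono (le_normalizer_inf (inf_le_right.trans hZ) le_normalizer_of_normal') }
  rcases hc.alt noidx_res (pPrimeCore_eq_bot_of_normal hO' _) (g := ⟨g, hg⟩) hgS
    (fun e => hne (congrArg Subtype.val e)) with ⟨M, hM, -⟩ | h0
  · exact Or.inl ⟨M, spe_two_iff.1 hM⟩
  · rw [sup_eq_left.2 (hZz.le.trans (zpowers_le.2 hz.2))]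
    exact Or.inr (Or.inr (Or.inr (charTwoType_of_cent (even_iff_two_dvd.2 hd) fun t ht => hc.sc.charP ht (h0 t ht))))

end Cfsg.Lib.Push.ZC
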