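import Cfsg.Agent.Lib.Push.LXc

/-! Large extraspecial subgroups with `z` weakly closed in `E`: pairs of commuting members of the class. -/

set_option autoImplicit false

namespace Cfsg.Lib.Known2

open Subgroup Cfsg.Lib.Amalg
open scoped commutatorElement

variable {G : Type*} [Group G] [Finite G] {X : Set G} {E K : G → Subgroup G} {z t x u w e δ : G}

omit [Group G] in
theorem ncard_four (a b c d : G) : ({a, b, c, d} : Set G).ncard ≤ 4 :=
  (Set.ncard_insert_le _ _).trans (Nat.succ_le_succ ((Set.ncard_insert_le _ _).trans (Nat.succ_le_succ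
    ((Set.ncard_insert_le _ _).trans (by simp)))))

theorem ncard_two_mul {S T : Set G} (c : G) (h : ∀ w ∈ T, w ∈ S ∨ w * c ∈ S) : T.ncard ≤ 2 * S.ncard := by
  refine (Set.ncard_le_ncard (t := S ∪ (· * c⁻¹) '' S) fun w hw => (h w hw).imp_right fun e => ⟨_, e, by simp⟩).trans
    ((Set.ncard_union_le _ _).trans ?_)
  have := Set.ncard_image_le (s := S) (f := (· * c⁻¹))
  omega

omit [Finite G] in
theorem LS.cm_inv {Q : Subgroup G} (h : LS Q z) (hu : Commute u z) (hx : x ∈ Q) : ⁅u, x⁻¹⁆ = ⁅u, x⁆ := by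
  rcases h.sq_mem x hx with e | e
  · rw [inv_eq_of_mul_eq_one_right e]
  · rw [inv_eq_of_mul_eq_one_right (b := x * z) (by rw [← mul_assoc, e, h.sq]), h.cm_z hu]

/-- weakly closed families -/
structure WC (X : Set G) (E K : G → Subgroup G) : Prop extends Fam X E K where
  wc : ∀ t ∈ X, ∀ r ∈ X, r ∈ E t → r = t
  le : ∀ t ∈ X, E t ≤ K t
  big : ∀ t ∈ X, 32 < Nat.card (E t)

/-- commuting pairs -/
structure Pa (X : Set G) (z t : G) : Prop where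
  hz : z ∈ X
  ht : t ∈ X
  ne : t ≠ z
  c : Commute t z

omit [Finite G] in
theorem Pa.symm (p : Pa X z t) : Pa X t z := ⟨p.ht, p.hz, p.ne.symm, p.c.symm⟩

namespace WC
variable (F : WC X E K)
include F

omit [Finite G] in
theorem cX (ht : t ∈ X) (x : G) : t * ⁅t, x⁆ ∈ X := cm_conj (F.ls t ht).sq x ▸ F.conj t ht x

omit [Finite G] in
theorem cm_triv (ht : t ∈ X) (h : ⁅t, x⁆ ∈ E t) : ⁅t, x⁆ = 1 :=
  mul_eq_left.1 (F.wc t ht _ (F.cX ht x) (mul_mem (F.ls t ht).mem h))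

variable (p : Pa X z t)
include p

omit [Finite G] in
theorem nm : t ∉ E z := fun h => p.ne (F.wc z p.hz t p.ht h)

omit [Finite G] in
theorem cen (h1 : δ ∈ E z) (h2 : δ ∈ E t) (hw : w ∈ E z) (hc : Commute t w) : Commute δ w := by
  by_contra h
  have := (F.ls t p.ht).norm w hc.symm δ h2
  rw [(F.ls z p.hz).toES.conj_anti hw h1 fun e => h e.symm, mul_mem_cancel_left h2] at this
  exact F.nm p.symm this

omit [Finite G] in
theorem sq1 (h1 : δ ∈ E z) (h2 : δ ∈ E t) : δ * δ = 1 :=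
  ((F.ls z p.hz).sq_mem δ h1).resolve_right fun e => F.nm p.symm (e ▸ mul_mem h2 h2)

omit [Finite G] in
theorem cm_inf (hw : w ∈ E z) (hc : Commute t w) (hu : u ∈ E t) (hc' : Commute u z) : ⁅u, w⁆ ∈ E z ⊓ E t :=
  Subgroup.mem_inf.2 ⟨(F.ls z p.hz).cm_mem hc' hw, by
    rw [← inv_mem_iff, commutatorElement_inv]; exact (F.ls t p.ht).cm_mem hc.symm hu⟩

theorem L (α : ∀ y ∈ E z, ⁅t, y⁆ ≠ z) (h1 : δ ∈ E z) (h2 : δ ∈ E t) (h3 : δ ≠ 1) : ∃ e ∈ E z, ⁅t, e⁆ = δ * z := by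
  obtain ⟨e, he, h | h⟩ := (F.ls z p.hz).perp (F.ls t p.ht).sq p.c h1 fun y hy e =>
    F.cen p h1 h2 hy (cm_one.1 (e.resolve_right (α y hy)))
  · exact absurd (h.trans (F.cm_triv p.ht (h ▸ h2))) h3
  · exact ⟨e, he, by rw [h, mul_assoc, (F.ls z p.hz).sq, mul_one]⟩

theorem M2 (h1 : δ ∈ E z) (h2 : δ ∈ E t) (h3 : δ ≠ 1) (hx : x ∈ E z) (hxd : Commute δ x) (ha : Commute t ⁅t, x⁆)
    (haz : ⁅t, x⁆ ≠ z) : ⁅t, x⁆ = 1 ∨ ⁅t, x⁆ = δ * z := by
  have h := F.ls z p.hz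
  have h' := F.ls t p.ht
  have hq := F.cX p.ht x
  have hm := h.cm_mem p.c hx
  refine or_iff_not_imp_left.2 fun h4 => ?_
  obtain ⟨e, he, h5⟩ := F.L ⟨p.ht, hq, fun e => h4 (mul_eq_left.1 e), (Commute.refl t).mul_left ha.symm⟩ (fun y _ e => haz (by
    have := F.cX hq y
    rw [e, mul_assoc, ← ha.eq, ← mul_assoc, h'.sq, one_mul] at this
    exact F.wc z p.hz _ this hm)) h2 (by
      rw [← cm_conj h'.sq, F.cE t p.ht, ← conj_eq_of_comm hxd.symm.eq]; exact conj_mem_cj x h2) h3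
  have := F.cX hq e
  rw [h5, h'.cen δ h2, mul_assoc, ← mul_assoc _ t, ← ha.eq, ← mul_assoc, ← mul_assoc, h'.sq, one_mul] at this
  rw [h.cen δ h1, ← F.wc z p.hz _ this (mul_mem hm h1), mul_assoc, F.sq1 p h1 h2, mul_one]

omit [Finite G] in
theorem sqa (α : ∀ y ∈ E z, ⁅t, y⁆ ≠ z) (hx : x ∈ E z) : ⁅t, x⁆ * ⁅t, x⁆ = 1 ∧ Commute t ⁅t, x⁆ := by
  have h := F.ls z p.hz
  have h1 := h.cm_cm (F.ls t p.ht).sq hx p.c
  have h2 := (h.sq_mem _ (h.cm_mem p.c hx)).resolve_right fun e => α _ (h.cm_mem p.c hx) (h1.trans e)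
  exact ⟨h2, cm_one.1 (h1.trans h2)⟩

theorem zK (α : ∀ y ∈ E z, ⁅t, y⁆ ≠ z) (h1 : δ ∈ E z) (h2 : δ ∈ E t) (h3 : δ ≠ 1) : z ∈ K t := by
  have h := F.ls z p.hz
  have h' := F.ls t p.ht
  by_contra hn
  have hab : ∀ a ∈ E z, ∀ b ∈ E z, Commute t a → Commute t b → Commute a b := fun a ha b hb h4 h5 => by_contra fun h6 =>
    hn (mem_of_anti (F.idx t p.ht) (mem_cent_single.2 h4.symm) (mem_cent_single.2 h5.symm) (mem_cent_single.2 p.c.symm)
      (h.toES.anti ha hb h6))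
  obtain ⟨y, hy, h4⟩ := h.toES.exists_anti h1 h3 fun e => F.nm p.symm (e ▸ h2)
  have key : ∀ x ∈ E z, ⁅t, x⁆ ∈ ({1, δ * z, ⁅t, y⁆, ⁅t, y⁆ * (y * (δ * z) * y⁻¹)} : Set G) := fun x hx => by
    by_cases h5 : Commute δ x
    · rcases F.M2 p h1 h2 h3 hx h5 (F.sqa p α hx).2 (α x hx) with e | e <;> simp [e]
    have h6 := mul_mem (inv_mem hy) hx
    rw [← mul_inv_cancel_left y x, cm_mul]
    rcases F.M2 p h1 h2 h3 h6 ((h.cmul h1 (inv_mem hy) hx).2 (iff_of_false (fun e => h4 (Commute.inv_right_iff.1 e)) h5))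
      (F.sqa p α h6).2 (α _ h6) with e | e <;> simp [e]
  have h5 := LS.card_le_of h'.sq key
  have h6 := ncard_four 1 (δ * z) ⁅t, y⁆ (⁅t, y⁆ * (y * (δ * z) * y⁻¹))
  have h7 : Nat.card ↥(E z ⊓ centralizer {t}) ≤ _ := ncard_two_mul (T := (E z ⊓ centralizer {t} : Subgroup G)) z fun w hw => by
    obtain ⟨x, hx, rfl | rfl⟩ := h.perp h'.sq p.c hw.1 fun y hy e =>
      hab w hw.1 y hy (mem_cent_single.1 hw.2).symm (cm_one.1 (e.resolve_right (α y hy)))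
    exacts [Or.inl (key x hx), Or.inr (by rw [mul_assoc ⁅t, x⁆, h.sq, mul_one]; exact key x hx)]
  have := F.big z p.hz
  nlinarith

theorem phi (α : ∀ y ∈ E t, ⁅z, y⁆ ≠ t) (tK : t ∈ K z) (h1 : δ ∈ E z) (h2 : δ ∈ E t) (h3 : δ ≠ 1) (he : e ∈ E z)
    (he' : ⁅t, e⁆ = δ * z) (hu : u ∈ E t) (hc : Commute u z) (huK : u ∉ K z) : ⁅u, e⁆ ∉ K t ∧ ⁅u, e⁆ ∈ centralizer {t} := by
  have h := F.ls z p.hz
  have h' := F.ls t p.ht
  obtain ⟨f, hf, hf'⟩ := F.L p.symm α h2 h1 h3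
  have h4 : e⁻¹ * t * e⁻¹⁻¹ = t * (δ * z) := by rw [cm_conj h'.sq, h.cm_inv p.c he, he']
  have h5 : e⁻¹ * t * e⁻¹⁻¹ = f * z * f⁻¹ := by
    rw [h4, cm_conj h.sq, hf', h.cen δ h1, h'.cen δ h2, ← mul_assoc, p.c.eq, mul_assoc]
  have h6 : e * u⁻¹ * e⁻¹ ∉ K t := fun h6 => huK (by
    rw [← inv_inv e, inv_inv e⁻¹, ← mem_cj, ← F.cK t p.ht, h5, F.cK z p.hz, mem_cj, ← inv_inv f, inv_inv f⁻¹] at h6
    rcases h'.toES.conj_eq (inv_mem hf) (inv_mem hu) with e | e <;> rw [e] at h6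
    exacts [inv_mem_iff.1 h6, inv_mem_iff.1 ((mul_mem_cancel_right tK).1 h6)])
  rw [show ⁅u, e⁆ = u * (e * u⁻¹ * e⁻¹) by simp only [commutatorElement_def, mul_assoc]]
  refine ⟨by rwa [mul_mem_cancel_left (F.le t p.ht hu)], mul_mem (h'.toES.le_cent hu) ?_⟩
  rw [← inv_inv e, inv_inv e⁻¹, ← mem_cj, cj_centralizer_singleton, h4, inv_mem_iff, mem_cent_single]
  exact Commute.mul_right (h'.cen u hu) ((F.cen p.symm h2 h1 hu hc.symm).symm.mul_right hc)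

theorem alpha1 (α : ∀ y ∈ E z, ⁅t, y⁆ ≠ z) (α' : ∀ y ∈ E t, ⁅z, y⁆ ≠ t) (h1 : δ ∈ E z) (h2 : δ ∈ E t) (h3 : δ ≠ 1)
    (hu : u ∈ E t) (hc : Commute u z) : u ∈ K z := by
  have h := F.ls z p.hz
  have h' := F.ls t p.ht
  by_contra huK
  have zK := F.zK p α h1 h2 h3
  have P := fun {δ e} h1 h2 h3 he he' => F.phi (δ := δ) (e := e) p α' (F.zK p.symm α' h2 h1 h3) h1 h2 h3 he he' hu hc huK
  obtain ⟨e, he, he'⟩ := F.L p α h1 h2 h3
  obtain ⟨h4, h5⟩ := P h1 h2 h3 he he'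
  by_cases h6 : ∀ d ∈ E z ⊓ E t, d = 1 ∨ d = δ
  · have h7 : Commute e δ := by
      have := (h.cm_sq p.c he).2 (F.sqa p α he).1
      rw [he'] at this
      simpa [mul_assoc, h.sq] using this.symm.mul_right (h.cen e he)
    have hm := h.cm_mem hc he
    obtain ⟨x, hx, h8⟩ := h.perp h'.sq p.c hm fun y hy e => by
      rw [h.dual hc he hy]
      rcases h6 _ (F.cm_inf p hy (cm_one.1 (e.resolve_right (α y hy))) (inv_mem hu) hc.inv_left) with e | e <;> rw [e]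
      exacts [Commute.one_right _, h7]
    have h9 : Commute ⁅t, x⁆ e := by
      have := (h.cm_sq hc he).2
      rcases h8 with h8 | h8 <;> rw [h8] at this
      · exact this (F.sqa p α hx).1
      · simpa [mul_assoc, h.sq] using (this (by
          rw [(show Commute z _ from (h.cen _ (h.cm_mem p.c hx)).symm).mul_mul_mul_comm, (F.sqa p α hx).1, h.sq, mul_one])).mul_left
          (h.cen e he).symm
    rw [h.dual p.c hx he, inv_eq_of_mul_eq_one_left h'.sq, he'] at h9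
    have h10 : ⁅t, x⁆ * z ∈ K t := by
      rcases F.M2 p h1 h2 h3 hx (by simpa [mul_assoc, h.sq] using (h9.mul_right (h.cen x hx)).symm) (F.sqa p α hx).2 (α x hx)
        with e | e <;> rw [e]
      exacts [mul_mem (one_mem _) zK, mul_mem (mul_mem (F.le t p.ht h2) zK) zK]
    rcases h8 with h8 | h8 <;> rw [h8] at h4
    exacts [h4 ((mul_mem_cancel_right zK).1 h10), h4 h10]
  push Not at h6
  obtain ⟨d, ⟨d1, d2⟩, d3, d4⟩ := h6
  obtain ⟨e', he1, he2⟩ := F.L p α d1 d2 d3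
  obtain ⟨h6, h7⟩ := P d1 d2 d3 he1 he2
  have h8 : δ * d ≠ 1 := fun e => d4 (mul_left_cancel (e.trans (F.sq1 p h1 h2).symm))
  refine (P (mul_mem h1 d1) (mul_mem h2 d2) h8 (mul_mem he he1) ?_).1 ?_
  · have := cm_mul t e e'
    rw [he', he2] at this
    rcases h.toES.conj_eq he (mul_mem d1 h.mem) with e | e <;> rw [e] at this
    · rw [mul_assoc, ← mul_assoc z, ← h.cen d d1, mul_assoc d, h.sq, mul_one] at this
      exact absurd (this.symm.trans (F.cm_triv p.ht (this ▸ mul_mem h2 d2))) h8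
    · rw [this, mul_assoc d, h.sq, mul_one, mul_assoc, ← h.cen d d1, mul_assoc]
  · have h9 := (mul_mem_two (F.idx t p.ht) h5 h7).2 (iff_of_false h4 h6)
    rw [cm_mul]
    rcases h.toES.conj_eq he (h.cm_mem hc he1) with e | e <;> rw [e]
    exacts [h9, mul_assoc _ _ z ▸ mul_mem h9 zK]

end WC
end Cfsg.Lib.Known2
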