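import Cfsg.Agent.Lib.Push.TriEnd

/-! Cubic amalgams: arcs and arc transitivity; the case where one `Z_δ` is central. -/

set_option autoImplicit false
set_option linter.unusedSectionVars false

namespace Cfsg.Lib.Push

open Subgroup MulAction Cfsg.Lib.Amalg
open scoped commutatorElement

variable {G : Type*} [Group G] {M₁ M₂ : Subgroup G}

/-- The vertices of the second kind. -/
def TB (v : CosetVertex M₁ M₂) : Prop := v.isRight = true

theorem tb_smul (g : G) (a : CosetVertex M₁ M₂) : TB (g • a) ↔ TB a := by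
  rcases a with a | a
  · induction a using QuotientGroup.induction_on with
    | H x => rw [cg_smul_inl]; simp [TB]
  · induction a using QuotientGroup.induction_on with
    | H x => rw [cg_smul_inr]; simp [TB]

theorem tb_adj {a b : CosetVertex M₁ M₂} (h : a ∼ b) : TB a ↔ ¬ TB b := by
  obtain ⟨x, ⟨rfl, rfl⟩ | ⟨rfl, rfl⟩⟩ := cg_adj_iff.1 h <;> simp [TB]

theorem tb_of_adj {a b : CosetVertex M₁ M₂} (h : a ∼ b) (ha : ¬ TB a) : TB b := by
  by_contra hb; exact ha ((tb_adj h).2 hb)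

theorem ntb_of_adj {a b : CosetVertex M₁ M₂} (h : a ∼ b) (ha : TB a) : ¬ TB b := (tb_adj h).1 ha

theorem conj_of_tb {a b : CosetVertex M₁ M₂} (h : TB a ↔ TB b) : ∃ g : G, g • a = b := by
  rcases a with a | a <;> rcases b with b | b
  · induction a using QuotientGroup.induction_on with
    | H x =>
      induction b using QuotientGroup.induction_on with
      | H y => exact ⟨y * x⁻¹, by rw [cg_smul_inl]; simp⟩
  · simp [TB] at h
  · simp [TB] at h
  · induction a using QuotientGroup.induction_on with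
    | H x =>
      induction b using QuotientGroup.induction_on with
      | H y => exact ⟨y * x⁻¹, by rw [cg_smul_inr]; simp⟩

/-- Non-backtracking walks of length `n`. -/
def Arc (p : ℕ → CosetVertex M₁ M₂) (n : ℕ) : Prop :=
  (∀ i, i < n → p i ∼ p (i + 1)) ∧ ∀ i, i + 2 ≤ n → p i ≠ p (i + 2)

/-- Prepending a vertex. -/
def acons (v : CosetVertex M₁ M₂) (p : ℕ → CosetVertex M₁ M₂) : ℕ → CosetVertex M₁ M₂
  | 0 => v
  | i + 1 => p i

@[simp] theorem acons_zero (v : CosetVertex M₁ M₂) (p : ℕ → CosetVertex M₁ M₂) :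
    acons v p 0 = v := rfl

@[simp] theorem acons_succ (v : CosetVertex M₁ M₂) (p : ℕ → CosetVertex M₁ M₂) (i : ℕ) :
    acons v p (i + 1) = p i := rfl

namespace Arc

variable {p q : ℕ → CosetVertex M₁ M₂} {n m : ℕ}

theorem mono (h : Arc p n) (hm : m ≤ n) : Arc p m :=
  ⟨fun i hi => h.1 i (by omega), fun i hi => h.2 i (by omega)⟩

theorem cons (h : Arc p n) {v : CosetVertex M₁ M₂} (hv : p 0 ∼ v) (hne : p 1 ≠ v) :
    Arc (acons v p) (n + 1) := by
  refine ⟨fun i hi => ?_, fun i hi => ?_⟩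
  · rcases i with _ | i
    · exact hv.symm
    · exact h.1 i (by omega)
  · rcases i with _ | i
    · exact hne.symm
    · exact h.2 i (by omega)

theorem shift (h : Arc p n) (k : ℕ) (hk : k + m ≤ n) : Arc (fun i => p (k + i)) m :=
  ⟨fun i hi => h.1 (k + i) (by omega), fun i hi => h.2 (k + i) (by omega)⟩

theorem rev (h : Arc p n) : Arc (fun i => p (n - i)) n := by
  refine ⟨fun i hi => ?_, fun i hi => ?_⟩
  · have := h.1 (n - (i + 1)) (by omega)
    rw [show n - (i + 1) + 1 = n - i by omega] at this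
    exact this.symm
  · have := h.2 (n - (i + 2)) (by omega)
    rw [show n - (i + 2) + 2 = n - i by omega] at this
    exact this.symm

theorem adj (h : Arc p n) {i j : ℕ} (hj : j = i + 1) (hi : j ≤ n) : p i ∼ p j :=
  hj ▸ h.1 i (by omega)

theorem ne (h : Arc p n) {i j : ℕ} (hj : j = i + 2) (hi : j ≤ n) : p i ≠ p j :=
  hj ▸ h.2 i (by omega)

theorem smul (h : Arc p n) (g : G) : Arc (fun i => g • p i) n :=
  ⟨fun i hi => cg_adj_smul g (h.1 i hi), fun i hi e => h.2 i hi (MulAction.injective g e)⟩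

theorem tb (h : Arc p n) {i : ℕ} (hi : i ≤ n) : TB (p i) ↔ (TB (p 0) ↔ i % 2 = 0) := by
  induction i with
  | zero => simp
  | succ i ih =>
    have h1 := tb_adj (h.1 i (by omega))
    have h2 := ih (by omega)
    have h3 : (i + 1) % 2 = 0 ↔ ¬ i % 2 = 0 := by omega
    rw [h3]
    tauto

end Arc

/-- An element fixing an arc of length at least `n` and acting nontrivially at its end. -/
def Wit (P : CosetVertex M₁ M₂ → Prop) (n : ℕ) : Prop :=
  ∃ (q : ℕ → CosetVertex M₁ M₂) (m : ℕ) (x : G), n ≤ m ∧ Arc q m ∧ P (q m) ∧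
    (∀ i, i ≤ m → x ∈ vG (q i)) ∧ x ∉ vQ (q m)

namespace Cubic

variable (h : Cubic M₁ M₂)
include h

theorem arc_dst {p : ℕ → CosetVertex M₁ M₂} {n : ℕ} (hp : Arc p n) {i j : ℕ} (hij : i ≤ j)
    (hj : j ≤ n) : dst (p i) (p j) ≤ j - i := by
  induction j with
  | zero => rw [show i = 0 by omega, dst_self]
  | succ j ih =>
    by_cases e : i = j + 1
    · rw [e, dst_self]; omega
    · have := h.dst_adj' (hp.1 j (by omega)).symm (p i)
      have := ih (by omega) (by omega)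
      omega

theorem arc_dst' {p : ℕ → CosetVertex M₁ M₂} {n : ℕ} (hp : Arc p n) {i j : ℕ} (hij : i ≤ j)
    (hj : j ≤ n) : dst (p j) (p i) ≤ j - i := by
  rw [dst_comm]; exact h.arc_dst hp hij hj

theorem exists_arc (n : ℕ) : ∀ a b : CosetVertex M₁ M₂, dst a b = n →
    ∃ p : ℕ → CosetVertex M₁ M₂, Arc p n ∧ p 0 = a ∧ p n = b := by
  induction n with
  | zero => exact fun a b e => ⟨fun _ => a, ⟨fun i hi => by omega, fun i hi => by omega⟩, rfl,
      h.eq_of_dst e⟩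
  | succ n ih =>
    intro a b e
    obtain ⟨c, hc, e'⟩ := h.step (a := a) (b := b) (by omega)
    obtain ⟨p, hp, h0, hn⟩ := ih c b (by omega)
    rcases Nat.eq_zero_or_pos n with rfl | hpos
    · refine ⟨acons a p, ⟨fun i hi => ?_, fun i hi => by omega⟩, rfl, hn⟩
      obtain rfl : i = 0 := by omega
      simpa [h0] using hc
    · refine ⟨acons a p, hp.cons (h0 ▸ hc.symm) fun e1 => ?_, rfl, hn⟩
      have := h.arc_dst hp (i := 1) (j := n) hpos le_rfl
      rw [e1, hn] at this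
      omega

theorem arc_trans {n : ℕ} (hA : Wit (fun v : CosetVertex M₁ M₂ => ¬ TB v) n)
    (hB : Wit (fun v : CosetVertex M₁ M₂ => TB v) n) (s : ℕ) (hs : s ≤ n + 1) :
    ∀ p p' : ℕ → CosetVertex M₁ M₂, Arc p s → Arc p' s → (TB (p 0) ↔ TB (p' 0)) →
      ∃ g : G, ∀ i, i ≤ s → g • p i = p' i := by
  induction s with
  | zero =>
    intro p p' _ _ ht
    obtain ⟨g, hg⟩ := conj_of_tb ht
    exact ⟨g, fun i hi => by obtain rfl : i = 0 := by omega
                             exact hg⟩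
  | succ s ih =>
    intro p p' hp hp' ht
    have ih := ih (by omega)
    obtain ⟨g, hg⟩ := ih p p' (hp.mono (by omega)) (hp'.mono (by omega)) ht
    have a1 : p' s ∼ g • p (s + 1) := hg s le_rfl ▸ cg_adj_smul g (hp.1 s (by omega))
    have a2 : p' s ∼ p' (s + 1) := hp'.1 s (by omega)
    suffices H : ∃ x : G, (∀ i, i ≤ s → x ∈ vG (p' i)) ∧ x • g • p (s + 1) = p' (s + 1) by
      obtain ⟨x, hx, hx'⟩ := H
      refine ⟨x * g, fun i hi => ?_⟩
      rw [mul_smul]
      by_cases e : i = s + 1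
      · rw [e, hx']
      · rw [hg i (by omega), smul_of_mem (hx i (by omega))]
    rcases Nat.eq_zero_or_pos s with rfl | hpos
    · obtain ⟨x, hx, e⟩ := cg_neighbours_transitive a1 a2
      exact ⟨x, fun i hi => by obtain rfl : i = 0 := by omega
                               exact hx, e⟩
    by_cases e : g • p (s + 1) = p' (s + 1)
    · exact ⟨1, fun i _ => one_mem _, by rw [one_smul, e]⟩
    have key : ∀ P : CosetVertex M₁ M₂ → Prop, Wit P n → (∀ v, P v → (TB v ↔ TB (p' s))) →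
        ∃ x : G, (∀ i, i ≤ s → x ∈ vG (p' i)) ∧ x ∉ vQ (p' s) := by
      rintro P ⟨q, m, x, hm, hq, hP, hx, hxq⟩ hPt
      have hq' : Arc (fun i => q (m - s + i)) s := hq.shift _ (by omega)
      have t1 := hq'.tb (i := s) le_rfl
      have t2 := (hp'.mono (show s ≤ s + 1 by omega)).tb (i := s) le_rfl
      have t3 := hPt _ hP
      simp only [show m - s + s = m by omega] at t1
      obtain ⟨k, hk⟩ := ih _ p' hq' (hp'.mono (by omega)) (by tauto)
      refine ⟨k * x * k⁻¹, fun i hi => ?_, ?_⟩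
      · rw [← hk i hi, conj_mem_vG]; exact hx _ (by omega)
      · rw [← hk s le_rfl, conj_mem_vQ]
        simpa only [show m - s + s = m by omega] using hxq
    obtain ⟨x, hx, hxq⟩ : ∃ x : G, (∀ i, i ≤ s → x ∈ vG (p' i)) ∧ x ∉ vQ (p' s) := by
      by_cases t : TB (p' s)
      · exact key _ hB fun v hv => by tauto
      · exact key _ hA fun v hv => by tauto
    obtain ⟨s, rfl⟩ : ∃ k, s = k + 1 := ⟨s - 1, by omega⟩
    refine ⟨x, hx, h.swap (hp'.1 s (by omega)).symm a1 a2 ?_ (hp'.2 s (by omega)) e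
      (hx _ le_rfl) (hx _ (by omega)) hxq⟩
    rw [← hg s (by omega)]
    exact fun e' => hp.2 s (by omega) (MulAction.injective g e')

theorem cube_mem_Q {a b c : CosetVertex M₁ M₂} (hab : a ∼ b) (hac : a ∼ c) (hne : b ≠ c) {s t : G}
    (hs : s ∈ vG a) (hs' : s ∈ vG b) (hsq : s ∉ vQ a) (ht : t ∈ vG a) (ht' : t ∈ vG c)
    (htq : t ∉ vQ a) : s * t * (s * t) * (s * t) ∈ vQ a ∧ s * t ∉ vG b ∧ (s * t) • b = c := by
  obtain ⟨d, had, n1, n2⟩ := h.exists_third hab hac hne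
  have e1 : t • b = d := h.swap hac hab had hne.symm n2 n1 ht ht' htq
  have e2 : t • d = b := h.swap hac had hab n2 hne.symm n1.symm ht ht' htq
  have e3 : s • c = d := h.swap hab hac had hne n1 n2 hs hs' hsq
  have e4 : s • d = c := h.swap hab had hac n1 hne n2.symm hs hs' hsq
  have r1 : (s * t) • b = c := by rw [mul_smul, e1, e4]
  have r2 : (s * t) • c = d := by rw [mul_smul, smul_of_mem ht', e3]
  have r3 : (s * t) • d = b := by rw [mul_smul, e2, smul_of_mem hs']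
  have hρ := mul_mem hs ht
  refine ⟨h.mem_Q hab hac hne (mul_mem (mul_mem hρ hρ) hρ) ?_ ?_,
    fun e => hne ((smul_of_mem e).symm.trans r1), r1⟩
  · show _ • b = b
    rw [mul_smul, mul_smul, r1, r2, r3]
  · show _ • c = c
    rw [mul_smul, mul_smul, r2, r3, r1]

end Cubic

/-- Cubic amalgam of characteristic two in which `Ω Z(T)` is central in the second group. -/
structure CII (M₁ M₂ : Subgroup G) : Prop extends Cubic2 M₁ M₂ where
  cen : M₂ ≤ 𝐂 (omegaOneCenter 2 (M₁ ⊓ M₂))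

namespace CII

variable (h : CII M₁ M₂)
include h

theorem cenB {a b : CosetVertex M₁ M₂} (hab : a ∼ b) (hb : TB b) :
    vG b ≤ 𝐂 (omegaOneCenter 2 (vG a ⊓ vG b)) := by
  obtain ⟨x, ⟨rfl, rfl⟩ | ⟨rfl, rfl⟩⟩ := cg_adj_iff.1 hab
  · rw [vG, vG, cg_stabilizer_inl, cg_stabilizer_inr, ← cj_inf, ← cj_omZ, ← cj_centralizer,
      cj_le_cj_iff]
    exact h.cen
  · simp [TB] at hb

theorem G_le_cent {b : CosetVertex M₁ M₂} (hb : TB b) : vG b ≤ 𝐂 (vZ b) := by
  rw [le_centralizer_iff]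
  refine h.Z_le_iff.2 fun a ha => ?_
  rw [le_centralizer_iff, inf_comm]
  exact h.cenB ha.symm hb

theorem ZB_comm {b : CosetVertex M₁ M₂} (hb : TB b) {z g : G} (hz : z ∈ vZ b) (hg : g ∈ vG b) :
    z * g = g * z := mem_centralizer_comm.1 (h.G_le_cent hb hg) z hz

theorem ZB {a b : CosetVertex M₁ M₂} (hab : a ∼ b) (hb : TB b) :
    vZ b = omegaOneCenter 2 (vG a ⊓ vG b) := by
  refine le_antisymm (fun z hz => ?_) (h.omZ_le_Z' hab)
  refine mem_omZ_iff.2 ⟨h.Q_le_edge' hab (h.Z_le_Q b hz), ?_, by rw [sq]; exact h.Z_sq hz⟩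
  exact mem_centralizer_comm.2 fun t ht => (h.ZB_comm hb hz ht.2).symm

theorem ZB_le {a b : CosetVertex M₁ M₂} (hab : a ∼ b) (hb : TB b) : vZ b ≤ vZ a := by
  rw [h.ZB hab hb]; exact h.omZ_le_Z hab

/-- An element of `Z_β` centralized by an element of `G_α` outside `G_β` is trivial. -/
theorem eq_one_of {a b : CosetVertex M₁ M₂} (hab : a ∼ b) (hb : TB b) {z w : G} (hz : z ∈ vZ b)
    (hw : w ∈ vG a) (hw' : w ∉ vG b) (e : z * w = w * z) : z = 1 := by
  have c2 : vG b ≤ centralizer {z} := fun g hg => mem_cent_singleton.2 (h.ZB_comm hb hz hg)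
  exact h.eq_one hab (h.Z_le_G_adj hab.symm hz) (scc_le _ hz)
    (h.vG_le hab (inf_le_right.trans c2) hw hw' (mem_cent_singleton.2 e)) c2

theorem act {a : CosetVertex M₁ M₂} (ha : ¬ TB a) : Act a := by
  obtain ⟨b, hab⟩ := cg_exists_adj a
  have hb := tb_of_adj hab ha
  refine h.act_of_not_cent hab fun hc => h.omZ_ne_bot hab ?_
  exact h.eq_bot_of_cent hab (omZ_le _) hc (h.cenB hab hb)

theorem Z_disj {a b c : CosetVertex M₁ M₂} (hab : a ∼ b) (hac : a ∼ c) (hne : b ≠ c) (ha : ¬ TB a)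
    {z : G} (hz : z ∈ vZ b) (hz' : z ∈ vZ c) : z = 1 := by
  obtain ⟨t, ht, ht', hq⟩ := h.exists_not_Q hac
  exact h.eq_one_of hab (tb_of_adj hab ha) hz ht (h.not_mem_of_not_Q hac hab hne.symm ht ht' hq)
    (h.ZB_comm (tb_of_adj hac ha) hz' ht')

theorem centZ {a b : CosetVertex M₁ M₂} (hab : a ∼ b) (hb : TB b) {v w : G} (hv : v ∈ vZ a)
    (hw : w ∈ vG a) (hw' : w ∈ vG b) (hq : w ∉ vQ a) (e : v * w = w * v) : v ∈ vZ b := by
  rw [h.ZB hab hb]; exact h.mem_omZ_of_comm hab hv hw hw' hq e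

theorem commZ {a b : CosetVertex M₁ M₂} (hab : a ∼ b) (hb : TB b) {v w : G} (hv : v ∈ vZ a)
    (hw : w ∈ vG a) (hw' : w ∈ vG b) : ⁅v, w⁆ ∈ vZ b := by
  rw [h.ZB hab hb]; exact h.comm_mem_omZ hab hv hw hw'

theorem commZ' {a b : CosetVertex M₁ M₂} (hab : a ∼ b) (hb : TB b) {v w : G} (hv : v ∈ vZ a)
    (hw : w ∈ vG a) (hw' : w ∈ vG b) : ⁅w, v⁆ ∈ vZ b := by
  rw [h.ZB hab hb]; exact h.comm_mem_omZ' hab hv hw hw'

theorem Z_le_sup {a b c : CosetVertex M₁ M₂} (hab : a ∼ b) (hac : a ∼ c) (hne : b ≠ c)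
    (ha : ¬ TB a) : vZ a ≤ vZ b ⊔ vZ c := by
  refine h.Z_le_iff.2 fun d had => ?_
  rw [← h.ZB had (tb_of_adj had ha)]
  obtain ⟨t, ht, ht', hq⟩ := h.exists_not_Q hab
  obtain ⟨n1, n2⟩ := h.smul_ne hab hac hne ht ht' hq
  rcases h.three hab hac (adj_smul_of_mem ht hac) had hne n2.symm n1.symm with rfl | rfl | rfl
  · exact le_sup_left
  · exact le_sup_right
  · rw [vZ_smul, cj_le_iff']
    intro z hz
    rw [conj_eq_comm_mul]
    exact mul_mem (mem_sup_left (h.commZ' hab (tb_of_adj hab ha)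
      (h.ZB_le hac (tb_of_adj hac ha) hz) ht ht')) (mem_sup_right hz)

/-- Distinct neighbours of a vertex of the second kind have incomparable `Z`. -/
theorem Z_not_le_Z {b a c : CosetVertex M₁ M₂} (hba : b ∼ a) (hbc : b ∼ c) (hne : a ≠ c) :
    ¬ vZ a ≤ vZ c := by
  intro hle
  obtain ⟨g, -, e⟩ := cg_neighbours_transitive hba hbc
  haveI := h.fin c
  haveI : Finite (vZ c) := finite_of_le (scc_le (vG c))
  have e' : vZ a = vZ c := by
    refine eq_of_le_of_card_le' hle ?_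
    rw [← e, vZ_smul, card_cj]
  refine h.Z_ne_bot a (h.eq_bot hba.symm (le_inf (scc_le _) (h.Z_le_G_adj hba.symm))
    (le_norm_vZ a) ?_)
  exact h.vG_le_of_two hba hbc hne (inf_le_right.trans (le_norm_vZ a))
    (inf_le_right.trans (e' ▸ le_norm_vZ c))

theorem exists_Z_not {a b : CosetVertex M₁ M₂} (hab : a ∼ b) (hb : TB b) :
    ∃ v ∈ vZ a, v ∉ vZ b := by
  obtain ⟨c, hc, hne⟩ := h.exists_ne hab.symm
  exact SetLike.not_le_iff_exists.1 fun hle =>
    h.Z_not_le_Z hab.symm hc hne (hle.trans (h.ZB_le hc.symm hb))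

/-- The start of a critical pair is of the first kind. -/
theorem ntb_of_crit {p : ℕ → CosetVertex M₁ M₂} (hp : Arc p (cb M₁ M₂))
    (hc : ¬ vZ (p 0) ≤ vQ (p (cb M₁ M₂))) : ¬ TB (p 0) := by
  intro ht
  have hb := h.cb_pos
  refine hc ((h.ZB_le (hp.1 0 hb).symm ht).trans (Z_le_Q_of_lt ?_))
  have := h.arc_dst hp (i := 0 + 1) (j := cb M₁ M₂) (by omega) le_rfl
  omega

theorem exists_crit_arc : ∃ p : ℕ → CosetVertex M₁ M₂, Arc p (cb M₁ M₂) ∧
    ¬ vZ (p 0) ≤ vQ (p (cb M₁ M₂)) := by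
  obtain ⟨a, b, e, hc⟩ := h.exists_crit
  obtain ⟨p, hp, h0, hn⟩ := h.exists_arc _ a b e
  exact ⟨p, hp, by rwa [h0, hn]⟩

/-- `Ω Z(Q_α) = Z_α`. -/
theorem mem_Z_of_cent {a : CosetVertex M₁ M₂} (ha : ¬ TB a) {x : G} (hx : x ∈ vQ a)
    (hx2 : x * x = 1) (hc : ∀ q ∈ vQ a, x * q = q * x) : x ∈ vZ a := by
  obtain ⟨b, hab⟩ := cg_exists_adj a
  obtain ⟨c, hac, hne⟩ := h.exists_ne hab
  have hΩ : ∀ y, y ∈ omegaOneCenter 2 (vQ a) ↔
      y ∈ vQ a ∧ (∀ q ∈ vQ a, y * q = q * y) ∧ y * y = 1 := fun y => by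
    rw [mem_omZ_iff, mem_centralizer_comm, sq]
    exact and_congr_right fun _ => and_congr_left fun _ =>
      ⟨fun H q hq => (H q hq).symm, fun H q hq => (H q hq).symm⟩
  have hN : vG a ≤ 𝐍 (omegaOneCenter 2 (vQ a)) := fun g hg => by
    rw [← cj_eq_self_iff, cj_omZ, cj_of_mem_normalizer (le_norm_vQ a hg)]
  -- fixed points of an element of the edge group outside `Q`
  have fix : ∀ d, a ∼ d → ∀ t ∈ vG a, t ∈ vG d → t ∉ vQ a → ∀ y ∈ omegaOneCenter 2 (vQ a),
      y * t = t * y → y ∈ vZ d := by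
    intro d had t ht ht' hq y hy e
    obtain ⟨y1, y2, y3⟩ := (hΩ y).1 hy
    rw [h.ZB had (tb_of_adj had ha)]
    refine mem_omZ_iff.2 ⟨h.Q_le_edge had y1, ?_, by rwa [sq]⟩
    have : vG a ⊓ vG d ≤ centralizer {y} :=
      h.edge_le had (fun q hq => mem_cent_singleton.2 (y2 q hq)) ht ht' hq (mem_cent_singleton.2 e)
    exact mem_centralizer_comm.2 fun s hs => (mem_cent_singleton.1 (this hs)).symm
  have nrm : ∀ d, a ∼ d → ∀ t ∈ vG a, t ∈ vG d → t ∉ vQ a → ∀ y ∈ omegaOneCenter 2 (vQ a),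
      y * (t * y * t⁻¹) ∈ vZ d := by
    intro d had t ht ht' hq y hy
    have hy' := mem_norm_conj (hN ht) hy
    refine fix d had t ht ht' hq _ (mul_mem hy hy') ?_
    have e1 := ((hΩ y).1 hy).2.1 _ (h.sq_mem_Q had ht ht')
    have e2 := ((hΩ y).1 hy).2.1 _ ((hΩ _).1 hy').1
    calc y * (t * y * t⁻¹) * t = (t * y * t⁻¹) * (y * (t * t)) * t⁻¹ := by rw [e2]; group
      _ = t * (y * (t * y * t⁻¹)) := by rw [e1]; group
  obtain ⟨s, hs, hs', hsq⟩ := h.exists_not_Q hab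
  obtain ⟨t, ht, ht', htq⟩ := h.exists_not_Q hac
  have hxΩ : x ∈ omegaOneCenter 2 (vQ a) := (hΩ x).2 ⟨hx, hc, hx2⟩
  have hb := tb_of_adj hab ha
  have hc' := tb_of_adj hac ha
  have z1 := h.ZB_le hab hb (nrm b hab s hs hs' hsq x hxΩ)
  have z2 := h.ZB_le hac hc' (nrm c hac t ht ht' htq x hxΩ)
  obtain ⟨hρ3, hρb, -⟩ := h.cube_mem_Q hab hac hne hs hs' hsq ht ht' htq
  have hx1 : x⁻¹ = x := inv_eq_of_mul_self hx2
  have key : ∀ g ∈ vG a, x * (g * x * g⁻¹) ∈ vZ a → ∀ k ∈ vG a, x * (k * x * k⁻¹) ∈ vZ a →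
      x * ((g * k) * x * (g * k)⁻¹) ∈ vZ a := by
    intro g hg e1 k hk e2
    have := mul_mem e1 (mem_norm_conj (le_norm_vZ a hg) e2)
    convert this using 1
    calc x * ((g * k) * x * (g * k)⁻¹) = x * g * (x * x) * (k * x * k⁻¹) * g⁻¹ := by
          rw [hx2]; group
      _ = _ := by group
  have hρ : s * t ∈ vG a := mul_mem hs ht
  have z3 := key s hs z1 t ht z2
  have z4 := key _ hρ z3 _ hρ z3
  set ρ := s * t with hρdef
  set x1 := ρ * x * ρ⁻¹ with hx1def
  set x2 := ρ * ρ * x * (ρ * ρ)⁻¹ with hx2def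
  have m1 : x1 ∈ omegaOneCenter 2 (vQ a) := mem_norm_conj (hN hρ) hxΩ
  have m2 : x2 ∈ omegaOneCenter 2 (vQ a) := mem_norm_conj (hN (mul_mem hρ hρ)) hxΩ
  have hy : x * x1 * x2 ∈ omegaOneCenter 2 (vQ a) := mul_mem (mul_mem hxΩ m1) m2
  have c01 := hc _ ((hΩ _).1 m1).1
  have c02 := hc _ ((hΩ _).1 m2).1
  have yρ : x * x1 * x2 * ρ = ρ * (x * x1 * x2) := by
    have e3 := hc _ hρ3
    calc x * x1 * x2 * ρ = (x * x1) * x2 * ρ := by group
      _ = x1 * (x * x2) * ρ := by rw [c01]; group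
      _ = x1 * x2 * x * ρ := by rw [c02]; group
      _ = ρ * x * ρ * x * (ρ * ρ)⁻¹ * (x * (ρ * ρ * ρ)) * (ρ * ρ)⁻¹ := by
          rw [hx1def, hx2def]; group
      _ = ρ * (x * x1 * x2) := by rw [e3, hx1def, hx2def]; group
  set y := x * x1 * x2 with hydef
  have hsy : s * y * s⁻¹ ∈ omegaOneCenter 2 (vQ a) := mem_norm_conj (hN hs) hy
  have syρ : s * y * s⁻¹ * ρ = ρ * (s * y * s⁻¹) := by
    have q1 := ((hΩ y).1 hy).2.1 _ (h.sq_mem_Q hab hs hs')
    have q2 := ((hΩ y).1 hy).2.1 _ (h.sq_mem_Q hac ht ht')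
    have k1 : Commute y (t * s) := by
      have : t * s = (t * t) * ρ⁻¹ * (s * s) := by rw [hρdef]; group
      rw [this]
      exact ((show Commute y (t * t) from q2).mul_right
        (show Commute y ρ from yρ).inv_right).mul_right q1
    calc s * y * s⁻¹ * ρ = s * (y * (t * s)) * s⁻¹ := by rw [hρdef]; group
      _ = ρ * (s * y * s⁻¹) := by rw [k1.eq, hρdef]; group
  have e1 : y * (s * y * s⁻¹) = 1 := by
    refine h.eq_one_of hab hb (nrm b hab s hs hs' hsq y hy) hρ hρb ?_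
    rw [mul_assoc y, syρ, ← mul_assoc, yρ, mul_assoc]
  have e2 : y * s = s * y := by
    have := ((hΩ y).1 hy).2.2
    calc y * s = y * s * (y * y) := by rw [this, mul_one]
      _ = (y * (s * y * s⁻¹)) * (s * y) := by group
      _ = s * y := by rw [e1, one_mul]
  have e3 : y = 1 := h.eq_one_of hab hb (fix b hab s hs hs' hsq y hy e2) hρ hρb yρ
  have e4 : x = (x * x1) * (x * x2) := by
    calc x = x * y := by rw [e3, mul_one]
      _ = x * (x * x1) * x2 := by rw [hydef]; group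
      _ = x * (x1 * x) * x2 := by rw [c01]
      _ = (x * x1) * (x * x2) := by group
  rw [e4]
  exact mul_mem z3 z4

end CII

end Cfsg.Lib.Push
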