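import Cfsg.Agent.Lib.Push.GoA

/-! An order bound for `2`-groups with an element of order three having two noncentral chief
factors. -/

set_option autoImplicit false
set_option linter.unusedSectionVars false

namespace Cfsg.Lib.Push

open Subgroup MulAction Cfsg.Lib.Amalg
open scoped commutatorElement

variable {G : Type*} [Group G]

theorem card_le_mul_of_fib {Q D : Subgroup G} [Finite D] {ι : Type*} [Finite ι] (f : Q → ι)
    (hf : ∀ a b : Q, f a = f b → (a : G)⁻¹ * b ∈ D) : Nat.card Q ≤ Nat.card ι * Nat.card D := by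
  classical
  let s : ι → Q := fun i => if h : ∃ a, f a = i then h.choose else 1
  have hs : ∀ a : Q, f (s (f a)) = f a := fun a => by
    have : ∃ b, f b = f a := ⟨a, rfl⟩
    simp only [s, dif_pos this]
    exact this.choose_spec
  let F : Q → ι × D := fun a => (f a, ⟨(s (f a) : G)⁻¹ * a, hf _ _ (hs a)⟩)
  have : Function.Injective F := by
    intro a b e
    have e1 : f a = f b := congrArg Prod.fst e
    have e2 : (s (f a) : G)⁻¹ * a = (s (f b) : G)⁻¹ * b := congrArg (fun x => (x.2 : G)) e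
    rw [e1] at e2
    exact Subtype.ext (mul_left_cancel e2)
  rw [← Nat.card_prod]
  exact Nat.card_le_card_of_injective F this

theorem pow_eq_or {v : G} (h : v * v = 1) (i : ℕ) : v ^ i = 1 ∨ v ^ i = v := by
  induction i with
  | zero => simp
  | succ i ih =>
    rcases ih with e | e <;> rw [pow_succ, e]
    · right; simp
    · left; exact h

theorem norm_zero_cases {v0 v1 v2 ρ s : G} (c01 : Commute v0 v1) (c02 : Commute v0 v2)
    (c12 : Commute v1 v2) (s0 : v0 * v0 = 1) (s1 : v1 * v1 = 1) (s2 : v2 * v2 = 1)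
    (r0 : ρ * v0 * ρ⁻¹ = v1) (r1 : ρ * v1 * ρ⁻¹ = v2) (r2 : ρ * v2 * ρ⁻¹ = v0)
    (hs : s ∈ closure ({v0, v1, v2} : Set G)) (hρ : ρ * ρ * ρ = 1)
    (hsρ : s * ρ * (s * ρ) * (s * ρ) = 1) :
    s = 1 ∨ s = v0 * v1 ∨ s = v1 * v2 ∨ s = v2 * v0 := by
  have i0 := inv_eq_of_mul_self s0
  have i1 := inv_eq_of_mul_self s1
  have i2 := inv_eq_of_mul_self s2
  have key : ∃ i j k : ℕ, s = v0 ^ i * v1 ^ j * v2 ^ k := by
    have step : ∀ x ∈ ({v0, v1, v2} : Set G), ∀ y, (∃ i j k : ℕ, y = v0 ^ i * v1 ^ j * v2 ^ k) →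
        ∃ i j k : ℕ, x * y = v0 ^ i * v1 ^ j * v2 ^ k := by
      rintro x (rfl | rfl | rfl) _ ⟨i, j, k, rfl⟩
      · exact ⟨i + 1, j, k, by rw [pow_succ']; group⟩
      · refine ⟨i, j + 1, k, ?_⟩
        rw [pow_succ', ← mul_assoc, ← mul_assoc, ← (c01.pow_left i).eq]; group
      · refine ⟨i, j, k + 1, ?_⟩
        rw [pow_succ', ← mul_assoc, ← ((c02.pow_left i).mul_left (c12.pow_left j)).eq]; group
    clear hsρ
    induction hs using Subgroup.closure_induction_left with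
    | one => exact ⟨0, 0, 0, by simp⟩
    | mul_left x hx y _ ih => exact step x hx y ih
    | inv_mul_cancel x hx y _ ih =>
      have : x⁻¹ = x := by rcases hx with rfl | rfl | rfl <;> assumption
      rw [this]; exact step x hx y ih
  have nz : s * (ρ * s * ρ⁻¹) * (ρ * (ρ * s * ρ⁻¹) * ρ⁻¹) = 1 := by
    calc s * (ρ * s * ρ⁻¹) * (ρ * (ρ * s * ρ⁻¹) * ρ⁻¹)
        = s * ρ * (s * ρ) * (s * ρ) * (ρ * ρ * ρ)⁻¹ := by group
      _ = 1 := by rw [hρ, inv_one, mul_one, hsρ]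
  have cm : ∀ x y : G, ρ * (x * y) * ρ⁻¹ = (ρ * x * ρ⁻¹) * (ρ * y * ρ⁻¹) := fun x y => by group
  have sq : ∀ x y : G, Commute x y → x * x = 1 → y * y = 1 → (x * y)⁻¹ = x * y := by
    intro x y c h1 h2
    rw [mul_inv_rev, inv_eq_of_mul_self h1, inv_eq_of_mul_self h2, c.eq]
  obtain ⟨i, j, k, e⟩ := key
  rcases pow_eq_or s0 i with e0 | e0 <;> rcases pow_eq_or s1 j with e1 | e1 <;>
    rcases pow_eq_or s2 k with e2 | e2 <;> rw [e0, e1, e2] at e <;>
    try simp only [one_mul, mul_one] at e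
  · exact .inl e
  · rw [e, r2, r0] at nz
    right; left
    rw [e, ← sq _ _ c01 s0 s1]
    exact eq_inv_of_mul_eq_one_left (by rw [← mul_assoc, nz])
  · rw [e, r1, r2] at nz
    right; right; right
    rw [e, ← sq _ _ c02.symm s2 s0]
    exact eq_inv_of_mul_eq_one_left (by rw [← mul_assoc, nz])
  · exact .inr (.inr (.inl e))
  · rw [e, r0, r1] at nz
    right; right; left
    rw [e, ← sq _ _ c12 s1 s2]
    exact eq_inv_of_mul_eq_one_left (by rw [← mul_assoc, nz])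
  · exact .inr (.inr (.inr (e.trans c02.eq)))
  · exact .inr (.inl e)
  · left
    have f1 : ρ * s * ρ⁻¹ = s := by
      rw [e, cm, cm, r0, r1, r2, ← (c01.mul_right c02).eq, mul_assoc]
    have f2 : s * s = 1 := by
      have a1 : v0 * v1 * (v0 * v1) = 1 := by
        nth_rewrite 2 [← sq _ _ c01 s0 s1]; group
      have := sq _ _ (c02.mul_left c12) a1 s2
      rw [e]
      nth_rewrite 2 [← this]; group
    rw [f1, f1, f2, one_mul] at nz
    exact nz

theorem card_le_64 {Q Z : Subgroup G} [Finite Q] {ρ v : G} (hZQ : Z ≤ Q)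
    (hZc : ∀ z ∈ Z, ∀ q ∈ Q, z * q = q * z) (hZ4 : Nat.card Z ≤ 4) (hρQ : ρ ∈ 𝐍 Q) (hρZ : ρ ∈ 𝐍 Z)
    (hρ : ρ * ρ * ρ = 1) (hv : v ∈ Q) (hvc : ∀ q ∈ Q, ⁅q, v⁆ ∈ Z) (hv2 : v * v ∈ Z)
    (hW : ∀ q ∈ Q, ⁅q, ρ⁆ ∈ Z ⊔ closure {v, ρ * v * ρ⁻¹, ρ * (ρ * v * ρ⁻¹) * ρ⁻¹})
    (hC : ∀ X : Subgroup G, X ≤ Q → Q ≤ 𝐍 X → (∀ x ∈ X, x * ρ = ρ * x) → X = ⊥) :
    Nat.card Q ≤ 64 := by
  classical
  haveI : Finite Z := finite_of_le hZQ
  have hQZ : Q ≤ 𝐍 Z := fun q hq => cent_le_norm _ (mem_centralizer_comm.2 fun z hz => hZc z hz q hq)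
  set v1 := ρ * v * ρ⁻¹ with hv1
  set v2 := ρ * v1 * ρ⁻¹ with hv2'
  have m1 : v1 ∈ Q := mem_norm_conj hρQ hv
  have m2 : v2 ∈ Q := mem_norm_conj hρQ m1
  have r2 : ρ * v2 * ρ⁻¹ = v := by
    calc ρ * v2 * ρ⁻¹ = (ρ * ρ * ρ) * v * (ρ * ρ * ρ)⁻¹ := by rw [hv2', hv1]; group
      _ = v := by rw [hρ]; group
  have cj1 : ∀ u, (∀ q ∈ Q, ⁅q, u⁆ ∈ Z) → ∀ q ∈ Q, ⁅q, ρ * u * ρ⁻¹⁆ ∈ Z := by
    intro u hu q hq
    have := mem_norm_conj hρZ (hu _ (mem_norm_conj (inv_mem hρQ) hq))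
    convert this using 1
    simp only [commutatorElement_def]; group
  have hvc1 := cj1 v hvc
  have hvc2 := cj1 v1 hvc1
  -- the possible values of `[q, ρ]`
  let N := 𝐍 Z
  let π : N →* N ⧸ Z.subgroupOf N := QuotientGroup.mk' _
  have hπ : ∀ a b : N, π a = π b ↔ (a : G)⁻¹ * b ∈ Z := fun a b => by
    simp only [π, QuotientGroup.mk'_apply, QuotientGroup.eq, mem_subgroupOf]; rfl
  have hπ1 : ∀ a : N, π a = 1 ↔ (a : G) ∈ Z := fun a => by
    simp only [π, QuotientGroup.mk'_apply, QuotientGroup.eq_one_iff, mem_subgroupOf]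
  let e : Fin 4 → G := ![1, v * v1, v1 * v2, v2 * v]
  have val : ∀ q ∈ Q, ∃ i : Fin 4, (e i)⁻¹ * ⁅q, ρ⁆ ∈ Z := by
    intro q hq
    have sN : ⁅q, ρ⁆ ∈ N := comm_mem_left (hQZ hq) (Subgroup.le_normalizer hρZ)
    let V0 : N := ⟨v, hQZ hv⟩
    let V1 : N := ⟨v1, hQZ m1⟩
    let V2 : N := ⟨v2, hQZ m2⟩
    let R : N := ⟨ρ, hρZ⟩
    have cm : ∀ a b : N, ⁅(a : G), (b : G)⁆ ∈ Z → Commute (π a) (π b) := fun a b hab => by
      rw [← commutatorElement_eq_one_iff_commute, ← map_commutatorElement, hπ1]; exact hab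
    have sq : ∀ u, u * u ∈ Z → (ρ * u * ρ⁻¹) * (ρ * u * ρ⁻¹) ∈ Z := fun u hu => by
      convert mem_norm_conj hρZ hu using 1; group
    have key := norm_zero_cases (v0 := π V0) (v1 := π V1) (v2 := π V2) (ρ := π R)
      (s := π ⟨_, sN⟩) (cm _ _ (hvc1 _ hv)) (cm _ _ (hvc2 _ hv)) (cm _ _ (hvc2 _ m1))
      (by rw [← map_mul, hπ1]; exact hv2) (by rw [← map_mul, hπ1]; exact sq _ hv2)
      (by rw [← map_mul, hπ1]; exact sq _ (sq _ hv2))
      (by rw [← map_inv, ← map_mul, ← map_mul]; rfl) (by rw [← map_inv, ← map_mul, ← map_mul]; rfl)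
      (by rw [← map_inv, ← map_mul, ← map_mul]; exact congrArg π (Subtype.ext r2)) ?_
      (by rw [← map_mul, ← map_mul, hπ1]; show ρ * ρ * ρ ∈ Z; rw [hρ]; exact one_mem _) ?_
    · rcases key with k | k | k | k
      · exact ⟨0, by simpa [e] using (hπ1 _).1 k⟩
      · rw [← map_mul, eq_comm, hπ] at k; exact ⟨1, k⟩
      · rw [← map_mul, eq_comm, hπ] at k; exact ⟨2, k⟩
      · rw [← map_mul, eq_comm, hπ] at k; exact ⟨3, k⟩
    · have : Z ⊔ closure {v, v1, v2} ≤ ((closure {π V0, π V1, π V2}).comap π).map N.subtype := by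
        refine sup_le (fun z hz => ⟨⟨z, Subgroup.le_normalizer hz⟩, ?_, rfl⟩) ?_
        · rw [SetLike.mem_coe, mem_comap, (hπ1 ⟨z, Subgroup.le_normalizer hz⟩).2 hz]
          exact one_mem _
        · rw [closure_le]
          rintro x (rfl | rfl | rfl)
          · exact ⟨V0, subset_closure (by simp), rfl⟩
          · exact ⟨V1, subset_closure (by simp), rfl⟩
          · exact ⟨V2, subset_closure (by simp), rfl⟩
      obtain ⟨y, hy, hy'⟩ := this (hW q hq)
      have : y = ⟨_, sN⟩ := Subtype.ext hy'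
      rw [← this]; exact hy
    · rw [← map_mul, ← map_mul, ← map_mul, hπ1]
      show ⁅q, ρ⁆ * ρ * (⁅q, ρ⁆ * ρ) * (⁅q, ρ⁆ * ρ) ∈ Z
      have : ⁅q, ρ⁆ * ρ * (⁅q, ρ⁆ * ρ) * (⁅q, ρ⁆ * ρ) = q * (ρ * ρ * ρ) * q⁻¹ := by
        simp only [commutatorElement_def]; group
      rw [this, hρ]; simp
  choose! idx hidx using val
  let D : Subgroup G := Q ⊓ centralizer {ρ}
  haveI : Finite D := finite_of_le (K := Q) inf_le_left
  have b1 : Nat.card Q ≤ Nat.card (Fin 4 × Z) * Nat.card D := by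
    refine card_le_mul_of_fib (fun q : Q => (idx q, (⟨_, hidx q q.2⟩ : Z))) fun a b hab => ?_
    have e1 : idx a = idx b := congrArg Prod.fst hab
    have e2 : (e (idx a))⁻¹ * ⁅(a : G), ρ⁆ = (e (idx b))⁻¹ * ⁅(b : G), ρ⁆ :=
      congrArg (fun x => (x.2 : G)) hab
    rw [e1, mul_right_inj] at e2
    refine mem_inf.2 ⟨mul_mem (inv_mem a.2) b.2, mem_cent_singleton.2 ?_⟩
    simp only [commutatorElement_def] at e2
    calc ρ * ((a : G)⁻¹ * b) = (a : G)⁻¹ * (a * ρ * (a : G)⁻¹ * ρ⁻¹) * ρ * b := by group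
      _ = (a : G)⁻¹ * b * ρ := by rw [e2]; group
  have hu : v * v1 ∈ Q := mul_mem hv m1
  have huc : ∀ q ∈ Q, ⁅q, v * v1⁆ ∈ Z := fun q hq => by
    have := mul_mem (hvc q hq) (mem_norm_conj (hQZ hv) (hvc1 q hq))
    convert this using 1
    simp only [commutatorElement_def, hv1]; group
  let X : Subgroup G := D ⊓ centralizer {v * v1}
  have hX : X = ⊥ := by
    haveI : Finite X := finite_of_le (K := D) inf_le_left
    refine hC X (inf_le_left.trans inf_le_left) (fun q hq => mem_normalizer_of_cj_le ?_)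
      fun x hx => (mem_cent_singleton.1 hx.1.2).symm
    rw [cj_le_iff']
    rintro d ⟨⟨hd, h1⟩, h2⟩
    have c1 : Commute d ρ := (mem_cent_singleton.1 h1).symm
    have c2 : Commute d (v * v1) := (mem_cent_singleton.1 h2).symm
    have c3 : Commute d (v1 * v2) := by
      have : v1 * v2 = ρ * (v * v1) * ρ⁻¹ := by rw [hv2', hv1]; group
      rw [this]; exact (c1.mul_right c2).mul_right c1.inv_right
    have c4 : Commute d (v2 * v) := by
      have : v2 * v = ρ * (v1 * v2) * ρ⁻¹ := by rw [← r2, hv2']; group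
      rw [this]; exact (c1.mul_right c3).mul_right c1.inv_right
    have c5 : ∀ i, Commute d (e i) := fun i => by
      fin_cases i
      exacts [Commute.one_right d, c2, c3, c4]
    have cz : ∀ z ∈ Z, Commute d z := fun z hz => (hZc z hz d hd).symm
    have k1 : Commute d (q⁻¹ * ρ * q) := by
      have : q⁻¹ * ρ * q = e (idx q⁻¹) * ((e (idx q⁻¹))⁻¹ * ⁅q⁻¹, ρ⁆) * ρ := by
        simp only [commutatorElement_def]; group
      rw [this]
      exact ((c5 _).mul_right (cz _ (hidx _ (inv_mem hq)))).mul_right c1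
    have k2 : Commute d (q⁻¹ * (v * v1) * q) := by
      have : q⁻¹ * (v * v1) * q = ⁅q⁻¹, v * v1⁆ * (v * v1) := by
        simp only [commutatorElement_def]; group
      rw [this]
      exact (cz _ (huc _ (inv_mem hq))).mul_right c2
    refine mem_inf.2 ⟨mem_inf.2 ⟨mul_mem (mul_mem hq hd) (inv_mem hq), mem_cent_singleton.2 ?_⟩,
      mem_cent_singleton.2 ?_⟩
    · calc ρ * (q * d * q⁻¹) = q * ((q⁻¹ * ρ * q) * d) * q⁻¹ := by group
        _ = q * d * q⁻¹ * ρ := by rw [← k1.eq]; group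
    · calc v * v1 * (q * d * q⁻¹) = q * ((q⁻¹ * (v * v1) * q) * d) * q⁻¹ := by group
        _ = q * d * q⁻¹ * (v * v1) := by rw [← k2.eq]; group
  have b2 : Nat.card D ≤ Nat.card Z := by
    refine Nat.card_le_card_of_injective
      (fun d : D => (⟨_, huc d d.2.1⟩ : Z)) fun a b hab => ?_
    have e2 : ⁅(a : G), v * v1⁆ = ⁅(b : G), v * v1⁆ := congrArg Subtype.val hab
    have : (a : G)⁻¹ * b ∈ X := by
      refine mem_inf.2 ⟨mul_mem (inv_mem a.2) b.2, mem_cent_singleton.2 ?_⟩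
      simp only [commutatorElement_def] at e2
      generalize v * v1 = u at e2
      calc u * ((a : G)⁻¹ * b) = (a : G)⁻¹ * (a * u * (a : G)⁻¹ * u⁻¹) * u * b := by group
        _ = (a : G)⁻¹ * b * u := by rw [e2]; group
    rw [hX, mem_bot, inv_mul_eq_one] at this
    exact Subtype.ext this
  rw [Nat.card_prod, Nat.card_eq_fintype_card (α := Fin 4), Fintype.card_fin] at b1
  nlinarith

end Cfsg.Lib.Push
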