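import Cfsg.Agent.Lib.Push.GoB

/-! Cubic amalgams with one central `Z_δ`: the case `|Z_β| = 2`, even critical distance. -/

set_option autoImplicit false
set_option linter.unusedSectionVars false

namespace Cfsg.Lib.Push

open Subgroup MulAction Cfsg.Lib.Amalg
open scoped commutatorElement

variable {G : Type*} [Group G] {M₁ M₂ : Subgroup G}

/-- `|Z_β| = 2`. -/
def K1 (M₁ M₂ : Subgroup G) : Prop := ∀ b : CosetVertex M₁ M₂, TB b → ∀ z z' : G,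
  z ∈ vZ b → z' ∈ vZ b → z ≠ 1 → z' ≠ 1 → z = z'

/-- `|V_β| = 8`. -/
def P8 (M₁ M₂ : Subgroup G) : Prop := ∀ b l a a' : CosetVertex M₁ M₂, TB b → b ∼ l → b ∼ a →
  b ∼ a' → l ≠ a → l ≠ a' → a ≠ a' → ∀ x x' : G, x ∈ vZ a → x ∉ vZ b → x' ∈ vZ a' → x' ∉ vZ b →
    x * x' ∈ vZ l

theorem conj_mem_vV {g x : G} {δ : CosetVertex M₁ M₂} : g * x * g⁻¹ ∈ vV (g • δ) ↔ x ∈ vV δ := by
  rw [vV_smul, conj_mem_cj_iff]

namespace CII

variable (h : CII M₁ M₂)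
include h

theorem k1_of {a b : CosetVertex M₁ M₂} (hab : a ∼ b) (ha : ¬ TB a) {w : G} (hw : w ∈ vG a)
    (hw' : w ∈ vG b) (hq : w ∉ vQ a) (H : ∀ v ∈ vZ a, ∀ v' ∈ vZ a, v * w ≠ w * v →
      v' * w ≠ w * v' → (v * v') * w = w * (v * v')) : K1 M₁ M₂ := by
  obtain ⟨c, hac, hne⟩ := h.exists_ne hab
  have hb := tb_of_adj hab ha
  have hc := tb_of_adj hac ha
  intro d hd z z' hz hz' n1 n2
  obtain ⟨g, rfl⟩ := conj_of_tb (a := c) (b := d) (by tauto)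
  obtain ⟨y, rfl⟩ : ∃ y, z = g * y * g⁻¹ := ⟨g⁻¹ * z * g, by group⟩
  obtain ⟨y', rfl⟩ : ∃ y, z' = g * y * g⁻¹ := ⟨g⁻¹ * z' * g, by group⟩
  rw [conj_mem_vZ] at hz hz'
  have k : ∀ y ∈ vZ c, g * y * g⁻¹ ≠ 1 → y * w ≠ w * y := fun y hy n e =>
    n (by rw [h.Z_disj hab hac hne ha (h.centZ hab hb (h.ZB_le hac hc hy) hw hw' hq e) hy]; group)
  have e := H y (h.ZB_le hac hc hz) y' (h.ZB_le hac hc hz') (k y hz n1) (k y' hz' n2)
  have := h.Z_disj hab hac hne ha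
    (h.centZ hab hb (h.ZB_le hac hc (mul_mem hz hz')) hw hw' hq e) (mul_mem hz hz')
  rw [eq_inv_of_mul_eq_one_left this, h.Z_inv hz']

theorem comm_ne {a b : CosetVertex M₁ M₂} (hab : a ∼ b) (hb : TB b) {v t : G} (hv : v ∈ vZ a)
    (hv' : v ∉ vZ b) (ht : t ∈ vG a) (ht' : t ∈ vG b) (hq : t ∉ vQ a) : ⁅t, v⁆ ≠ 1 := fun e =>
  hv' (h.centZ hab hb hv ht ht' hq (comm_eq_one.1 e).symm)

theorem mem_Q_of_comm {a b : CosetVertex M₁ M₂} (hab : a ∼ b) (hb : TB b) {v t : G}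
    (hv : v ∈ vZ a) (hv' : v ∉ vZ b) (ht : t ∈ vG a) (ht' : t ∈ vG b) (e : v * t = t * v) :
    t ∈ vQ a := by
  by_contra hq
  exact hv' (h.centZ hab hb hv ht ht' hq e)

theorem two (k : K1 M₁ M₂) {a b : CosetVertex M₁ M₂} (hab : a ∼ b) (hb : TB b) {v v' : G}
    (hv : v ∈ vZ a) (hv' : v' ∈ vZ a) (n : v ∉ vZ b) (n' : v' ∉ vZ b) : v * v' ∈ vZ b := by
  obtain ⟨t, ht, ht', hq⟩ := h.exists_not_Q hab
  have z1 := h.commZ' hab hb hv ht ht'
  have e := k b hb _ _ z1 (h.commZ' hab hb hv' ht ht') (h.comm_ne hab hb hv n ht ht' hq)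
    (h.comm_ne hab hb hv' n' ht ht' hq)
  refine h.centZ hab hb (mul_mem hv hv') ht ht' hq ?_
  have c := h.ZB_comm hb z1 (h.Z_le_G_adj hab hv)
  have s := h.Z_sq z1
  have e1 := conj_eq_comm_mul t v
  have e2 := conj_eq_comm_mul t v'
  rw [← e] at e2
  generalize ⁅t, v⁆ = z at *
  calc v * v' * t = (z * z) * v * v' * t := by rw [s, one_mul]
    _ = z * (z * v) * v' * t := by group
    _ = z * (v * z) * v' * t := by rw [c]
    _ = (z * v) * (z * v') * t := by group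
    _ = t * (v * v') := by rw [← e1, ← e2]; group

theorem Z_inf (k : K1 M₁ M₂) {b a c : CosetVertex M₁ M₂} (hb : TB b) (hba : b ∼ a) (hbc : b ∼ c)
    (hne : a ≠ c) {z : G} (hz : z ∈ vZ a) (hz' : z ∈ vZ c) : z ∈ vZ b := by
  by_contra n
  refine h.Z_not_le_Z hba hbc hne fun v hv => ?_
  by_cases hvb : v ∈ vZ b
  · exact h.ZB_le hbc.symm hb hvb
  · have := h.ZB_le hbc.symm hb (h.two k hba.symm hb hv hz hvb n)
    exact (Subgroup.mul_mem_cancel_right _ hz').1 this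

theorem exists_zeta (b : CosetVertex M₁ M₂) : ∃ z ∈ vZ b, z ≠ 1 := by
  obtain ⟨⟨z, hz⟩, hz'⟩ := (Subgroup.ne_bot_iff_exists_ne_one).1 (h.Z_ne_bot b)
  exact ⟨z, hz, fun e => hz' (Subtype.ext e)⟩

theorem ZB_le_of (k : K1 M₁ M₂) {b : CosetVertex M₁ M₂} (hb : TB b) {z : G} (hz : z ∈ vZ b)
    (n : z ≠ 1) {K : Subgroup G} (hK : z ∈ K) : vZ b ≤ K := fun y hy => by
  by_cases e : y = 1
  · rw [e]; exact one_mem _
  · rw [k b hb y z hy hz e n]; exact hK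

/-- An element of `Z_α` outside `Z_β` and `Z_γ` lies in the third one. -/
theorem mem_third (k : K1 M₁ M₂) {a b c d : CosetVertex M₁ M₂} (ha : ¬ TB a) (hab : a ∼ b)
    (hac : a ∼ c) (had : a ∼ d) (n1 : b ≠ c) (n2 : b ≠ d) (n3 : c ≠ d) {x : G} (hx : x ∈ vZ a)
    (hb : x ∉ vZ b) (hc : x ∉ vZ c) : x ∈ vZ d := by
  obtain ⟨y, hy, hy1⟩ := h.exists_zeta c
  obtain ⟨z, hz, hz1⟩ := h.exists_zeta d
  have tb := tb_of_adj hab ha
  have ya := h.ZB_le hac (tb_of_adj hac ha) hy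
  have za := h.ZB_le had (tb_of_adj had ha) hz
  have yb : y ∉ vZ b := fun e => hy1 (h.Z_disj hab hac n1 ha e hy)
  have zb : z ∉ vZ b := fun e => hz1 (h.Z_disj hab had n2 ha e hz)
  have e := k b tb _ _ (h.two k hab tb hx ya hb yb) (h.two k hab tb za ya zb yb)
    (fun e => hc (by rw [eq_inv_of_mul_eq_one_left e]; exact inv_mem hy))
    (fun e => hz1 (h.Z_disj hac had n3 ha
      (by rw [eq_inv_of_mul_eq_one_left e]; exact inv_mem hy) hz))
  rw [mul_right_cancel e]; exact hz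

theorem card_ZB (k : K1 M₁ M₂) {b : CosetVertex M₁ M₂} (hb : TB b) : Nat.card (vZ b) ≤ 2 := by
  classical
  have := Nat.card_le_card_of_injective (fun z : vZ b => decide ((z : G) = 1)) fun x y e => by
    apply Subtype.ext
    by_cases e1 : (x : G) = 1
    · have : (y : G) = 1 := by simpa [e1] using e
      rw [e1, this]
    · exact k b hb _ _ x.2 y.2 e1 (by simpa [e1] using e)
  simpa using this

theorem card_ZA (k : K1 M₁ M₂) {a : CosetVertex M₁ M₂} (ha : ¬ TB a) : Nat.card (vZ a) ≤ 4 := by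
  classical
  obtain ⟨b, hab⟩ := cg_exists_adj a
  have hb := tb_of_adj hab ha
  haveI := h.fin b
  haveI : Finite (vZ b) := finite_of_le (scc_le (vG b))
  have := card_le_mul_of_fib (Q := vZ a) (D := vZ b) (fun z => decide ((z : G) ∈ vZ b))
    fun x y e => by
      by_cases e1 : (x : G) ∈ vZ b
      · exact mul_mem (inv_mem e1) (by simpa [e1] using e)
      · exact h.two k hab hb (inv_mem x.2) y.2 (by simpa using e1) (by simpa [e1] using e)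
  have h2 := h.card_ZB k hb
  simp only [Nat.card_eq_fintype_card, Fintype.card_bool] at this
  omega

/-- The product `x x'` is centralized modulo `Z_β` by the edge group of the third neighbour. -/
theorem comm_prod (k : K1 M₁ M₂) (hb1 : 1 < cb M₁ M₂) {b l a a' : CosetVertex M₁ M₂} (hb : TB b)
    (hl : b ∼ l) (ha : b ∼ a) (ha' : b ∼ a') (n1 : l ≠ a) (n2 : l ≠ a') (n3 : a ≠ a') {x x' t : G}
    (hx : x ∈ vZ a) (nx : x ∉ vZ b) (hx' : x' ∈ vZ a') (nx' : x' ∉ vZ b) (ht : t ∈ vG b)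
    (ht' : t ∈ vG l) : ⁅t, x * x'⁆ ∈ vZ b := by
  have hQ : ∀ z, b ∼ z → vZ z ≤ vQ b := fun z hz =>
    Z_le_Q_of_lt (by rw [dst_of_adj hz.symm]; exact hb1)
  have xG := h.Z_le_G_adj ha.symm hx
  have xG' := h.Z_le_G_adj ha'.symm hx'
  have N := le_norm_vZ b
  by_cases hq : t ∈ vQ b
  · have := mul_mem (h.commZ' ha.symm hb hx (h.Q_le ha hq) ht)
      (mem_norm_conj (N xG) (h.commZ' ha'.symm hb hx' (h.Q_le ha' hq) ht))
    convert this using 1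
    simp only [commutatorElement_def]; group
  · have e1 : t • a = a' := h.swap hl ha ha' n1 n2 n3 ht ht' hq
    have e2 : t • a' = a := h.swap hl ha' ha n2 n1 n3.symm ht ht' hq
    have nb : ∀ y, y ∉ vZ b → t * y * t⁻¹ ∉ vZ b := fun y hy e =>
      hy (by rwa [← smul_of_mem ht, conj_mem_vZ] at e)
    have z1 := h.two k ha'.symm hb (e1 ▸ conj_mem_vZ.2 hx) (inv_mem hx') (nb x nx)
      (by simpa using nx')
    have z2 := h.two k ha.symm hb (e2 ▸ conj_mem_vZ.2 hx') (inv_mem hx) (nb x' nx')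
      (by simpa using nx)
    have z3 := h.commZ ha'.symm hb hx' (h.Q_le ha' (hQ a ha hx)) xG
    have := mul_mem (mul_mem z1 (mem_norm_conj (N xG') z2)) z3
    convert this using 1
    simp only [commutatorElement_def]; group

theorem p8_of (k : K1 M₁ M₂) {b l a a' : CosetVertex M₁ M₂} (hb : TB b) (hl : b ∼ l) (ha : b ∼ a)
    (ha' : b ∼ a') (n1 : l ≠ a) (n2 : l ≠ a') (n3 : a ≠ a') {x x' : G} (hx : x ∈ vZ a)
    (nx : x ∉ vZ b) (hx' : x' ∈ vZ a') (nx' : x' ∉ vZ b) (e : x * x' ∈ vZ l) : P8 M₁ M₂ := by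
  intro b₁ l₁ a₁ a₁' hb₁ hl₁ ha₁ ha₁' m1 m2 m3 y y' hy ny hy' ny'
  obtain ⟨g₀, rfl⟩ := conj_of_tb (a := b) (b := b₁) (by tauto)
  obtain ⟨g₁, hg₁, e1, e2⟩ := h.two_trans (cg_adj_smul g₀ ha) (cg_adj_smul g₀ ha') ha₁ ha₁'
    (fun e => n3 (MulAction.injective g₀ e)) m3
  have eb : (g₁ * g₀) • b = g₀ • b := by rw [mul_smul, smul_of_mem hg₁]
  rw [← mul_smul] at e1 e2
  generalize g₁ * g₀ = g at eb e1 e2
  generalize g₀ • b = b₁ at *
  subst eb e1 e2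
  have el : l₁ = g • l := by
    rcases h.three (cg_adj_smul g hl) ha₁ ha₁' hl₁ (fun e => n1 (MulAction.injective g e))
      (fun e => n2 (MulAction.injective g e)) m3 with e | e | e
    exacts [e, absurd e m1, absurd e m2]
  subst el
  have z1 := h.two k ha₁.symm hb₁ hy (inv_mem (conj_mem_vZ.2 hx)) ny
    (by rw [inv_mem_iff, conj_mem_vZ]; exact nx)
  have z2 := h.two k ha₁'.symm hb₁ (inv_mem (conj_mem_vZ.2 hx')) hy'
    (by rw [inv_mem_iff, conj_mem_vZ]; exact nx') ny'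
  have := mul_mem (mul_mem (h.ZB_le hl₁.symm hb₁ z1) ((conj_mem_vZ (g := g)).2 e))
    (h.ZB_le hl₁.symm hb₁ z2)
  convert this using 1
  group

theorem V_comm (hb2 : 2 < cb M₁ M₂) {b a c : CosetVertex M₁ M₂} (ha : b ∼ a) (hc : b ∼ c) {x y : G}
    (hx : x ∈ vZ a) (hy : y ∈ vZ c) : x * y = y * x := by
  refine h.Z_comm hx (Z_le_Q_of_lt ?_ hy)
  have := h.dst_adj hc.symm a
  rw [dst_of_adj ha] at this
  omega

/-- `Q_α ∩ Q_β` does not centralize `V_β`. -/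
theorem exists_Q_Q (hb2 : 2 < cb M₁ M₂) {b a c : CosetVertex M₁ M₂} (hb : TB b) (ha : b ∼ a)
    (hc : b ∼ c) (hne : a ≠ c) : ∃ q ∈ vQ a, q ∈ vQ b ∧ q ∉ vQ c := by
  by_contra H
  push Not at H
  have D : ∀ x y, b ∼ x → b ∼ y → ∀ q ∈ vQ x, q ∈ vQ b → q ∈ vQ y := by
    intro x y hx hy q h1 h2
    by_cases e : x = y
    · exact e ▸ h1
    obtain ⟨g, hg, rfl, rfl⟩ := h.two_trans ha hc hx hy hne e
    obtain ⟨r, rfl⟩ : ∃ r, q = g * r * g⁻¹ := ⟨g⁻¹ * q * g, by group⟩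
    rw [← smul_of_mem hg] at h2
    rw [conj_mem_vQ] at h1 h2 ⊢
    exact H r h1 h2
  obtain ⟨l, hl, n1, n2⟩ := h.exists_third ha hc hne
  obtain ⟨s, hs, hsq⟩ := h.exists_Q_not_Q ha.symm
  obtain ⟨s', hs', hs'q⟩ := h.exists_Q_not_Q hc.symm
  obtain ⟨q, hq, hqa⟩ := h.exists_Q_not_Q ha
  have sb := h.Q_le ha.symm hs
  have sb' := h.Q_le hc.symm hs'
  have e1 : s' • a = l := h.swap hc ha hl hne.symm n2 n1 sb' (vQ_le _ hs') hs'q
  have e2 : s • l = c := h.swap ha hl hc n1 hne n2.symm sb (vQ_le _ hs) hsq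
  have ss : s * s ∈ vQ l := D a l ha hl _ (mul_mem hs hs) (h.sq_mem_Q ha sb (vQ_le _ hs))
  have hA := ntb_of_adj ha hb
  have qx : ∀ x, b ∼ x → q ∉ vQ x := fun x hx e => hqa (D x a hx ha q e hq)
  -- transport of commutators with `q`
  have tr : ∀ x, b ∼ x → ∀ g ∈ vG b, ∀ v ∈ vZ x, ⁅g * v * g⁻¹, q⁆ = ⁅v, q⁆ := by
    intro x hx g hg v hv
    have hq' : g⁻¹ * q * g⁻¹⁻¹ ∈ vQ b := mem_norm_conj (le_norm_vQ b (inv_mem hg)) hq
    have n' : g⁻¹ * q * g⁻¹⁻¹ ∉ vQ x := fun e => qx (g • x) (adj_smul_of_mem hg hx) (by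
      have := (conj_mem_vQ (g := g)).2 e
      convert this using 1; group)
    have e := h.comm_eq hx.symm hv (h.Q_le hx hq') (vQ_le _ hq') n' (h.Q_le hx hq) (vQ_le _ hq)
      (qx x hx)
    have c := h.ZB_comm hb (h.commZ hx.symm hb hv (h.Q_le hx hq) (vQ_le _ hq)) hg
    calc ⁅g * v * g⁻¹, q⁆ = g * ⁅v, g⁻¹ * q * g⁻¹⁻¹⁆ * g⁻¹ := by
          simp only [commutatorElement_def]; group
      _ = ⁅v, q⁆ := by rw [e, ← c]; group
  refine h.Z_not_le_Z hc hl n2 fun y hy => ?_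
  obtain ⟨v, rfl⟩ : ∃ v, y = s * (s' * v * s'⁻¹) * s⁻¹ := ⟨s'⁻¹ * s⁻¹ * y * s * s', by group⟩
  have hvl : s' * v * s'⁻¹ ∈ vZ l := by rwa [← e2, conj_mem_vZ] at hy
  have hv : v ∈ vZ a := by rwa [← e1, conj_mem_vZ] at hvl
  have t1 := tr a ha s' sb' v hv
  have t2 := tr l hl s sb _ hvl
  set vl := s' * v * s'⁻¹ with hvl'
  set vc := s * vl * s⁻¹ with hvc'
  have c1 := h.V_comm hb2 hl hc hvl hy
  have hn : vl * vc ∈ vZ a := by
    have hQ : ∀ x, b ∼ x → vZ x ≤ vQ a := fun x hx => Z_le_Q_of_lt (by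
      have := h.dst_adj hx.symm a
      rw [dst_of_adj ha] at this
      omega)
    refine h.mem_Z_of_cent hA (mul_mem (hQ l hl hvl) (hQ c hc hy)) ?_ fun r hr => ?_
    · calc vl * vc * (vl * vc) = vl * (vc * vl) * vc := by group
        _ = (vl * vl) * (vc * vc) := by rw [← c1]; group
        _ = 1 := by rw [h.Z_sq hvl, h.Z_sq hy, one_mul]
    · have c0 : ∀ r ∈ vQ a, r ∈ vQ b → Commute (vl * vc) r := fun r h1 h2 =>
        Commute.mul_left (h.Z_comm hvl (D a l ha hl r h1 h2)) (h.Z_comm hy (D a c ha hc r h1 h2))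
      have cs : Commute (vl * vc) s := by
        have := h.Z_comm hvl ss
        show _ = _
        calc vl * vc * s = vc * (vl * (s * s)) * s⁻¹ := by rw [c1]; group
          _ = s * (vl * vc) := by rw [this, hvc']; group
      by_cases hrb : r ∈ vQ b
      · exact c0 r hr hrb
      · have := c0 (r * s⁻¹) (mul_mem hr (inv_mem hs)) (h.mul_mem_Q ha (h.Q_le ha.symm hr)
          (vQ_le _ hr) (inv_mem sb) (inv_mem (vQ_le _ hs)) hrb (by simpa using hsq))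
        have := this.mul_right cs
        rwa [inv_mul_cancel_right] at this
  have z0 := h.commZ ha.symm hb hv (h.Q_le ha hq) (vQ_le _ hq)
  have hn' : vl * vc ∈ vZ b := by
    refine h.centZ ha.symm hb hn (h.Q_le ha hq) (vQ_le _ hq) hqa (comm_eq_one.1 ?_)
    have c := h.ZB_comm hb z0 (h.Z_le_G_adj hl.symm hvl)
    calc ⁅vl * vc, q⁆ = vl * ⁅vc, q⁆ * vl⁻¹ * ⁅vl, q⁆ := by
          simp only [commutatorElement_def]; group
      _ = 1 := by rw [t2, t1, ← c, mul_inv_cancel_right, h.Z_sq z0]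
  exact (Subgroup.mul_mem_cancel_left _ hvl).1 (h.ZB_le hl.symm hb hn')

/-- The order bound. -/
theorem card_Q_le (k : K1 M₁ M₂) {a b : CosetVertex M₁ M₂} (hab : a ∼ b) (ha : ¬ TB a) {y v : G}
    (hy : y ∈ vG a) (hy' : y ∈ vG b) (hyq : y ∉ vQ a) (hv : v ∈ vQ a) (hv2 : v * v ∈ vZ a)
    (hvc : ∀ t ∈ vG a, t ∈ vG b → ⁅t, v⁆ ∈ vZ a)
    (hW : ∀ K : Subgroup G, vZ a ≤ K → (∀ g ∈ vG a, g * v * g⁻¹ ∈ K) → vG a ≤ 𝐍 K →
      ∀ q ∈ vQ a, ⁅q, y⁆ ∈ K) : Nat.card (vQ a) ≤ 64 := by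
  haveI : Fact (Nat.Prime 2) := ⟨Nat.prime_two⟩
  haveI := h.fin a
  haveI := finite_op (p := 2) (vG a)
  obtain ⟨c, hac, hne⟩ := h.exists_ne hab
  obtain ⟨g, hg, rfl⟩ := cg_neighbours_transitive hab hac
  let W : Subgroup G := vZ a ⊔ closure {x | ∃ g ∈ vG a, x = g * v * g⁻¹}
  have hWle : W ≤ vG a := sup_le (scc_le _) ((closure_le _).2 (by
    rintro _ ⟨g, hg, rfl⟩
    exact mul_mem (mul_mem hg (vQ_le _ hv)) (inv_mem hg)))
  haveI : Finite W := finite_of_le hWle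
  have hWN : vG a ≤ 𝐍 W := fun g hg => by
    refine mem_normalizer_of_cj_le ?_
    rw [cj_sup, cj_of_mem_normalizer (le_norm_vZ a hg)]
    refine sup_le le_sup_left ?_
    rw [cj_le_iff, closure_le]
    rintro _ ⟨g', hg', rfl⟩
    rw [SetLike.mem_coe, mem_cj]
    exact mem_sup_right (subset_closure ⟨g * g', mul_mem hg hg', by group⟩)
  let P : G → Prop := fun x => x ∈ vG a ∧ ∀ q ∈ vQ a, ⁅q, x⁆ ∈ W
  have P1 : P y := ⟨hy, hW W le_sup_left
    (fun g hg => mem_sup_right (subset_closure ⟨g, hg, rfl⟩)) hWN⟩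
  have P2 : P (g * y * g⁻¹) := ⟨mul_mem (mul_mem hg hy) (inv_mem hg), fun q hq => by
    have := mem_norm_conj (hWN hg) (P1.2 _ (mem_norm_conj (le_norm_vQ a (inv_mem hg)) hq))
    convert this using 1
    simp only [commutatorElement_def]; group⟩
  have Pm : ∀ x x', P x → P x' → P (x * x') := fun x x' h1 h2 =>
    ⟨mul_mem h1.1 h2.1, fun q hq => by
      have := mul_mem (h1.2 q hq) (mem_norm_conj (hWN h1.1) (h2.2 q hq))
      convert this using 1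
      simp only [commutatorElement_def]; group⟩
  have Pp : ∀ x, P x → ∀ n : ℕ, P (x ^ n) := fun x hx n => by
    induction n with
    | zero => exact ⟨by simp, fun q _ => by simp⟩
    | succ n ih => rw [pow_succ]; exact Pm _ _ ih hx
  obtain ⟨c3, cb, -⟩ := h.cube_mem_Q hab hac hne hy hy' hyq P2.1 (conj_mem_vG.2 hy')
    (by rw [← smul_of_mem hg, conj_mem_vQ]; exact hyq)
  have Pρ := Pm _ _ P1 P2
  generalize y * (g * y * g⁻¹) = ρ₀ at c3 cb Pρ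
  obtain ⟨m, hm⟩ := op_isPGroup (p := 2) (vG a) ⟨_, c3⟩
  have hm' : (ρ₀ * ρ₀ * ρ₀) ^ 2 ^ m = 1 := congrArg Subtype.val hm
  obtain ⟨n, hn⟩ : ∃ n, 4 ^ m = 3 * n + 1 := ⟨4 ^ m / 3, by
    have : 4 ^ m % 3 = 1 := by rw [Nat.pow_mod]; simp
    omega⟩
  have e3 : ρ₀ * ρ₀ * ρ₀ = ρ₀ ^ 3 := by rw [pow_succ, sq]
  have hρ3 : ρ₀ ^ 4 ^ m * ρ₀ ^ 4 ^ m * ρ₀ ^ 4 ^ m = 1 := by
    rw [← pow_add, ← pow_add, show 4 ^ m + 4 ^ m + 4 ^ m = 3 * 2 ^ m * 2 ^ m by
      rw [mul_assoc, ← mul_pow]; ring, pow_mul, pow_mul, ← e3, hm', one_pow]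
  have hρb : ρ₀ ^ 4 ^ m ∉ vG b := by
    rw [hn, pow_succ, pow_mul, ← e3]
    exact fun e => cb ((Subgroup.mul_mem_cancel_left _ (pow_mem (h.Q_le hab c3) n)).1 e)
  have Pρ' := Pp _ Pρ (4 ^ m)
  generalize ρ₀ ^ 4 ^ m = ρ at hρ3 hρb Pρ'
  have hρd : ∀ d, a ∼ d → ρ ∉ vG d := by
    intro d had e
    obtain ⟨j, hj⟩ := (h.syl had).isPGroup ⟨ρ, Pρ'.1, e⟩
    have hj' : ρ ^ 2 ^ j = 1 := congrArg Subtype.val hj
    have h3 : ρ ^ 3 = 1 := by rw [pow_succ, sq]; exact hρ3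
    have : ρ = 1 := by
      have := pow_gcd_eq_one.2 ⟨hj', h3⟩
      rwa [(Nat.Coprime.pow_left j (by norm_num : Nat.Coprime 2 3)).gcd_eq_one, pow_one] at this
    exact hρb (this ▸ one_mem _)
  have a1 : a ∼ ρ • b := adj_smul_of_mem Pρ'.1 hab
  have a2 : a ∼ ρ • ρ • b := adj_smul_of_mem Pρ'.1 a1
  have m1 : b ≠ ρ • b := fun e => hρb e.symm
  have m3 : ρ • b ≠ ρ • ρ • b := fun e => hρd _ a1 e.symm
  have m2 : b ≠ ρ • ρ • b := fun e => m1 (by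
    have : ρ • ρ • ρ • b = b := by rw [← mul_smul, ← mul_smul, hρ3, one_smul]
    rw [← e] at this; exact this.symm)
  refine card_le_64 (Z := vZ a) (ρ := ρ) (v := v) (h.Z_le_Q a) (fun z hz q hq => h.Z_comm hz hq)
    (h.card_ZA k ha) (le_norm_vQ a Pρ'.1) (le_norm_vZ a Pρ'.1) hρ3 hv
    (fun q hq => hvc q (vQ_le _ hq) (h.Q_le hab hq)) hv2 (fun q hq => ?_) fun X hX hXN hXc => ?_
  · refine (show W ≤ _ from sup_le le_sup_left ((closure_le _).2 ?_)) (Pρ'.2 q hq)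
    rintro _ ⟨g, hg, rfl⟩
    have key : ∀ r ∈ vG a, r • b = g • b → r * v * r⁻¹ ∈
        closure {v, ρ * v * ρ⁻¹, ρ * (ρ * v * ρ⁻¹) * ρ⁻¹} → g * v * g⁻¹ ∈
        vZ a ⊔ closure {v, ρ * v * ρ⁻¹, ρ * (ρ * v * ρ⁻¹) * ρ⁻¹} := by
      intro r hr e hm
      have : r⁻¹ * g ∈ vG b := by
        show _ • b = b
        rw [mul_smul, ← e, inv_smul_smul]
      have := mem_norm_conj (le_norm_vZ a hr) (hvc _ (mul_mem (inv_mem hr) hg) this)
      have := mul_mem (mem_sup_left this) (mem_sup_right hm)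
      convert this using 1
      simp only [commutatorElement_def]; group
    rcases h.three hab a1 a2 (adj_smul_of_mem hg hab) m1 m2 m3 with e | e | e
    · exact key 1 (one_mem _) (by rw [one_smul, e]) (subset_closure (by simp))
    · exact key ρ Pρ'.1 e.symm (subset_closure (by simp))
    · exact key (ρ * ρ) (mul_mem Pρ'.1 Pρ'.1) (by rw [mul_smul, e])
        (subset_closure (by right; right; show _ = _; group))
  · by_contra hne'
    have := inf_omZ_ne_bot (op_isPGroup (p := 2) (vG a)) hX hXN hne'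
    obtain ⟨⟨x, hx1, hx2⟩, hx⟩ := (Subgroup.ne_bot_iff_exists_ne_one).1 this
    have hx' : x ≠ 1 := fun e => hx (Subtype.ext e)
    have hxZ : x ∈ vZ a := h.mem_Z_of_cent ha (hX hx1)
      (by have := (mem_omZ_iff.1 hx2).2.2; rwa [sq] at this) fun q hq => omZ_comm hx2 hq
    have key : ∀ d, a ∼ d → x ∉ vZ d := fun d had e =>
      hx' (h.eq_one_of had (tb_of_adj had ha) e Pρ'.1 (hρd d had) (hXc x hx1))
    exact key _ a2 (h.mem_third k ha hab a1 a2 m1 m2 m3 hxZ (key _ hab) (key _ a1))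

end CII

end Cfsg.Lib.Push
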