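import Cfsg.Agent.Lib.Push.GoC

/-! Cubic amalgams with one central `Z_δ`: critical distance one, even critical distance, and the
first steps for odd critical distance. -/

set_option autoImplicit false
set_option linter.unusedSectionVars false

namespace Cfsg.Lib.Push

open Subgroup MulAction Cfsg.Lib.Amalg
open scoped commutatorElement

variable {G : Type*} [Group G] {M₁ M₂ : Subgroup G}

/-- Critical arcs. -/
def Crit (p : ℕ → CosetVertex M₁ M₂) : Prop :=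
  Arc p (cb M₁ M₂) ∧ ¬ vZ (p 0) ≤ vQ (p (cb M₁ M₂))

namespace CII

variable (h : CII M₁ M₂)
include h

theorem arc_ZQ {p : ℕ → CosetVertex M₁ M₂} {n : ℕ} (hp : Arc p n) {i j : ℕ} (hi : i ≤ n)
    (hj : j ≤ n) (h1 : i < j + cb M₁ M₂) (h2 : j < i + cb M₁ M₂) : vZ (p i) ≤ vQ (p j) := by
  refine Z_le_Q_of_lt ?_
  rcases le_total i j with e | e
  · have := h.arc_dst hp e hj; omega
  · have := h.arc_dst' hp e hi; omega

theorem arc_ZG {p : ℕ → CosetVertex M₁ M₂} {n : ℕ} (hp : Arc p n) {i j : ℕ} (hi : i ≤ n)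
    (hj : j ≤ n) (h1 : i ≤ j + cb M₁ M₂) (h2 : j ≤ i + cb M₁ M₂) : vZ (p i) ≤ vG (p j) := by
  refine h.Z_le_G ?_
  rcases le_total i j with e | e
  · have := h.arc_dst hp e hj; omega
  · have := h.arc_dst' hp e hi; omega

theorem wit_crit {p : ℕ → CosetVertex M₁ M₂} (hp : Crit p) {P : CosetVertex M₁ M₂ → Prop}
    (hP : P (p (cb M₁ M₂))) {n : ℕ} (hn : n ≤ cb M₁ M₂) : Wit P n := by
  obtain ⟨x, hx, hx'⟩ := SetLike.not_le_iff_exists.1 hp.2
  exact ⟨p, _, x, hn, hp.1, hP, fun i hi => h.arc_ZG hp.1 (i := 0) (by omega) hi (by omega)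
    (by omega) hx, hx'⟩

theorem crit_of_trans {n : ℕ} (hA : Wit (fun v : CosetVertex M₁ M₂ => ¬ TB v) n)
    (hB : Wit (fun v : CosetVertex M₁ M₂ => TB v) n) (hn : cb M₁ M₂ ≤ n + 1)
    {q : ℕ → CosetVertex M₁ M₂} (hq : Arc q (cb M₁ M₂)) (hq0 : ¬ TB (q 0)) : Crit q := by
  obtain ⟨p, hp, hc⟩ := h.exists_crit_arc
  have := h.ntb_of_crit hp hc
  obtain ⟨g, hg⟩ := h.arc_trans hA hB _ hn p q hp hq (by tauto)
  exact ⟨hq, by rw [← hg 0 (by omega), ← hg _ le_rfl]; exact not_Z_le_smul hc g⟩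

theorem cb_ne_one : cb M₁ M₂ ≠ 1 := by
  intro e
  obtain ⟨p, hp, hc⟩ := h.exists_crit_arc
  have ha := h.ntb_of_crit hp hc
  rw [e] at hp hc
  have hab : p 0 ∼ p 1 := hp.1 0 (by omega)
  generalize p 0 = a at *
  generalize p 1 = b at *
  have hb := tb_of_adj hab ha
  obtain ⟨z, hz, hzq⟩ := SetLike.not_le_iff_exists.1 hc
  obtain ⟨c, hbc, hne⟩ := h.exists_ne hab.symm
  obtain ⟨g, hg, rfl⟩ := cg_neighbours_transitive hab.symm hbc
  have hz' : g * z * g⁻¹ ∈ vZ (g • a) := conj_mem_vZ.2 hz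
  have zG := h.Z_le_G_adj hab hz
  have zG' := h.Z_le_G_adj hbc.symm hz'
  obtain ⟨c3, ca, -⟩ := h.cube_mem_Q hab.symm hbc hne zG (scc_le _ hz) hzq zG' (scc_le _ hz')
    (by rw [← smul_of_mem hg, conj_mem_vQ]; exact hzq)
  have key : ∀ q ∈ vQ b, ⁅q, z * (g * z * g⁻¹)⁆ ∈ vZ b := fun q hq => by
    have := mul_mem (h.commZ' hab hb hz (h.Q_le hab.symm hq) (vQ_le _ hq))
      (mem_norm_conj (le_norm_vZ b zG) (h.commZ' hbc.symm hb hz' (h.Q_le hbc hq) (vQ_le _ hq)))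
    convert this using 1
    simp only [commutatorElement_def]; group
  have hρ := mul_mem zG zG'
  generalize z * (g * z * g⁻¹) = ρ at *
  have h2 : ρ * ρ ∈ vQ b := by
    refine h.charP b ⟨mul_mem hρ hρ, mem_centralizer_comm.2 fun q hq => comm_eq_one.1 ?_⟩
    have c := h.ZB_comm hb (key q hq) hρ
    calc ⁅q, ρ * ρ⁆ = ⁅q, ρ⁆ * (ρ * ⁅q, ρ⁆) * ρ⁻¹ := by simp only [commutatorElement_def]; group
      _ = 1 := by rw [← c, ← mul_assoc, h.Z_sq (key q hq)]; group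
  exact ca (h.Q_le hab.symm ((Subgroup.mul_mem_cancel_left _ h2).1 c3))

theorem one_lt_cb : 1 < cb M₁ M₂ := by
  have := h.cb_pos; have := h.cb_ne_one; omega

theorem even_facts (he : cb M₁ M₂ % 2 = 0) {p : ℕ → CosetVertex M₁ M₂} (hp : Crit p) :
    ¬ TB (p (cb M₁ M₂)) ∧ ¬ vZ (p (cb M₁ M₂)) ≤ vQ (p 0) ∧ K1 M₁ M₂ ∧
      ∃ r, r ≠ 1 ∧ r ∈ vZ (p 1) ∧ r ∈ vZ (p (cb M₁ M₂ - 1)) := by
  have hb := h.one_lt_cb
  have ha := h.ntb_of_crit hp.1 hp.2
  have ha' : ¬ TB (p (cb M₁ M₂)) := by rw [hp.1.tb le_rfl]; tauto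
  have hd := h.arc_dst hp.1 (i := 0) (j := cb M₁ M₂) (by omega) le_rfl
  have hc' := h.not_le_symm (h.act ha') (by omega) hp.2
  obtain ⟨w, hw, hwq⟩ := SetLike.not_le_iff_exists.1 hc'
  obtain ⟨v, hv, hvq⟩ := SetLike.not_le_iff_exists.1 hp.2
  have a1 : p 0 ∼ p 1 := hp.1.adj rfl (by omega)
  have a2 : p (cb M₁ M₂) ∼ p (cb M₁ M₂ - 1) := (hp.1.adj (by omega) le_rfl).symm
  have w0 := h.arc_ZG hp.1 (j := 0) le_rfl (by omega) (by omega) (by omega) hw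
  have w1 := h.arc_ZG hp.1 (j := 1) le_rfl (by omega) (by omega) (by omega) hw
  have g1 := h.arc_ZG hp.1 (i := 0) (j := cb M₁ M₂) (by omega) le_rfl (by omega) (by omega)
  have g2 := h.arc_ZG hp.1 (i := 0) (j := cb M₁ M₂ - 1) (by omega) (by omega) (by omega) (by omega)
  refine ⟨ha', hc', h.k1_of a1 ha w0 w1 hwq fun x hx y hy n1 n2 => ?_, ⁅w, v⁆, ?_,
    h.commZ' a1 (tb_of_adj a1 ha) hv w0 w1, h.commZ a2 (tb_of_adj a2 ha') hw (g1 hv) (g2 hv)⟩
  · exact (h.Z_comm hw (h.mul_mem_Q a2 (g1 hx) (g2 hx) (g1 hy) (g2 hy)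
      (fun e => n1 (h.Z_comm hw e).symm) fun e => n2 (h.Z_comm hw e).symm)).symm
  · refine h.comm_ne a1 (tb_of_adj a1 ha) hv (fun e => hvq ?_) w0 w1 hwq
    exact h.arc_ZQ hp.1 (i := 1) (by omega) le_rfl (by omega) (by omega) e

theorem finite_V (b : CosetVertex M₁ M₂) : Finite (vV b) := by
  haveI := h.fin b
  exact finite_of_le (h.vV_le_G b)

theorem even_big (he : cb M₁ M₂ % 2 = 0) (hb : 2 < cb M₁ M₂) : False := by
  obtain ⟨p, hp⟩ : ∃ p : ℕ → CosetVertex M₁ M₂, Crit p := h.exists_crit_arc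
  obtain ⟨ha', hc', k, r, hr1, hr2, hr3⟩ := h.even_facts he hp
  have ha := h.ntb_of_crit hp.1 hp.2
  set b := cb M₁ M₂ with hbdef
  have a1 : p 0 ∼ p 1 := hp.1.adj rfl (by omega)
  obtain ⟨ν, hν, hν1⟩ := h.exists_ne a1
  have tν := tb_of_adj hν ha
  have A1 := hp.1.cons hν hν1
  have tb1 : TB (p (b - 1)) := by rw [hp.1.tb (by omega)]; simp only [ha, false_iff]; omega
  -- (i)
  have hi : ∀ γ, ν ∼ γ → p 0 ≠ γ → ¬ Crit (acons γ (acons ν p)) := by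
    intro γ hγ hγ1 hq
    obtain ⟨-, -, -, r', e1, e2, e3⟩ := h.even_facts he hq
    rw [show cb M₁ M₂ - 1 = b - 3 + 1 + 1 by omega] at e3
    simp only [acons_succ, acons_zero] at e2 e3
    refine hp.2 ((h.Z_le_sup a1 hν hν1 ha).trans (le_trans (sup_le ?_ ?_)
      (h.arc_ZQ hp.1 (i := b - 2) (by omega) le_rfl (by omega) (by omega))))
    · exact h.ZB_le_of k (tb_of_adj a1 ha) hr2 hr1
        (h.ZB_le (hp.1.adj (by omega) (by omega)) tb1 hr3)
    · refine h.ZB_le_of k tν e2 e1 (h.ZB_le (hp.1.adj (by omega) (by omega)).symm ?_ e3)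
      rw [hp.1.tb (by omega)]; simp only [ha, false_iff]; omega
  have hV : vV ν ≤ vQ (p (b - 2)) := vV_le fun γ hγ => by
    by_cases e : p 0 = γ
    · rw [← e]; exact h.arc_ZQ hp.1 (by omega) (by omega) (by omega) (by omega)
    · by_contra hc
      refine hi γ hγ e ⟨(A1.cons hγ e).mono (by omega), ?_⟩
      rw [show cb M₁ M₂ = b - 2 + 1 + 1 by omega]
      exact hc
  have a3 : p (b - 2) ∼ p (b - 1) := hp.1.adj (by omega) (by omega)
  have a4 : p (b - 1) ∼ p b := hp.1.adj (by omega) (by omega)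
  have hVG : ∀ i, i ≤ b - 1 → vV ν ≤ vG (p i) := fun i hi => by
    by_cases e : i = b - 1
    · rw [e]; exact hV.trans (h.Q_le a3)
    · refine vV_le fun γ hγ => h.Z_le_G ?_
      have := h.dst_adj hγ.symm (p i)
      have := h.dst_adj hν.symm (p i)
      have := h.arc_dst hp.1 (i := 0) (j := i) (by omega) (by omega)
      omega
  by_cases hV' : vV ν ≤ vQ (p (b - 1))
  · obtain ⟨w, hw, hwq⟩ := SetLike.not_le_iff_exists.1 hc'
    obtain ⟨v, hv, hvq⟩ := SetLike.not_le_iff_exists.1 hp.2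
    have w0 := h.arc_ZG hp.1 (j := 0) le_rfl (by omega) (by omega) (by omega) hw
    have w1 := h.arc_ZG hp.1 (j := 1) le_rfl (by omega) (by omega) (by omega) hw
    haveI := h.finite_V ν
    have hwN : w ∈ 𝐍 (vV ν) := mem_norm_of_comm fun x hx =>
      h.comm_mem_of a4.symm hw (h.Q_le a4 (hV' hx)) (vQ_le _ (hV' hx))
        (h.arc_ZG hp.1 (i := 0) (by omega) le_rfl (by omega) (by omega) hv)
        (h.arc_ZG hp.1 (i := 0) (by omega) (by omega) (by omega) (by omega) hv) hvq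
        (le_vV hν.symm (comm_mem_right hv (le_norm_vZ _ w0)))
    refine h.vV_ne_bot ν (h.eq_bot hν (le_inf (hVG 0 (by omega)) (h.vV_le_G ν)) ?_ (le_norm_vV ν))
    exact h.vG_le hν (inf_le_right.trans (le_norm_vV ν)) w0
      (h.not_mem_of_not_Q a1 hν hν1 w0 w1 hwq) hwN
  · obtain ⟨x, hx, hxq⟩ := SetLike.not_le_iff_exists.1 hV'
    obtain ⟨γ, hγ, hγ1⟩ := h.exists_ne hν.symm
    refine hi γ hγ hγ1 (h.crit_of_trans (n := b - 1) (h.wit_crit hp ha' (by omega))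
      ⟨p, b - 1, x, le_rfl, hp.1.mono (by omega), tb1, fun i hi => hVG i hi hx, hxq⟩ (by omega)
      ((A1.cons hγ hγ1).mono (by omega)) (ntb_of_adj hγ tν))

theorem bound_two (hb : cb M₁ M₂ = 2) : ∃ a : CosetVertex M₁ M₂, Nat.card (vQ a) ≤ 64 := by
  obtain ⟨p, hp⟩ : ∃ p : ℕ → CosetVertex M₁ M₂, Crit p := h.exists_crit_arc
  obtain ⟨-, hc', k, -⟩ := h.even_facts (by omega) hp
  have ha := h.ntb_of_crit hp.1 hp.2
  have a1 : p 0 ∼ p 1 := hp.1.adj rfl (by omega)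
  have a2 : p 1 ∼ p 2 := hp.1.adj rfl (by omega)
  have n1 : p 0 ≠ p 2 := hp.1.ne rfl (by omega)
  rw [hb] at hc'
  generalize p 0 = a at *
  generalize p 1 = b at *
  generalize p 2 = d at *
  have tb := tb_of_adj a1 ha
  obtain ⟨d', a3, n2, n3⟩ := h.exists_third a1.symm a2 n1
  obtain ⟨w, hw, hwq⟩ := SetLike.not_le_iff_exists.1 hc'
  have hQ : ∀ z, b ∼ z → vZ z ≤ vQ b := fun z hz =>
    Z_le_Q_of_lt (by rw [dst_of_adj hz.symm]; omega)
  have hwb : w ∉ vZ b := fun e => hwq (h.Z_le_Q a (h.ZB_le a1 tb e))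
  obtain ⟨t, ht, htq⟩ := h.exists_Q_not_Q a1
  have tG := h.Q_le a1 ht
  have e1 : t • d = d' := h.swap a1.symm a2 a3 n1 n2 n3 tG (vQ_le _ ht) htq
  have nb : ∀ s ∈ vG b, s * w * s⁻¹ ∉ vZ b := fun s hs e =>
    hwb (by rwa [← smul_of_mem hs, conj_mem_vZ] at e)
  have hw' : t * w * t⁻¹ ∈ vZ d' := e1 ▸ conj_mem_vZ.2 hw
  have hw'q : t * w * t⁻¹ ∉ vQ a := by
    rw [← smul_of_mem (vQ_le _ ht), conj_mem_vQ]; exact hwq
  have hw'b := nb t tG
  generalize t * w * t⁻¹ = w' at hw' hw'q hw'b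
  have wQ := hQ d a2 hw
  have wQ' := hQ d' a3 hw'
  refine ⟨a, h.card_Q_le k a1 ha (y := w) (v := w * w') (h.Q_le a1.symm wQ) (vQ_le _ wQ) hwq
    (h.mul_mem_Q a1 (h.Q_le a1.symm wQ) (vQ_le _ wQ) (h.Q_le a1.symm wQ') (vQ_le _ wQ') hwq hw'q)
    ?_ (fun s hs hs' => h.ZB_le a1 tb
      (h.comm_prod k (by omega) tb a1.symm a2 a3 n1 n2 n3 hw hwb hw' hw'b hs' hs))
    fun K hK hK' _ q hq => ?_⟩
  · rw [← comm_invol (h.Z_sq hw) (h.Z_sq hw')]
    exact h.ZB_le a1 tb (h.commZ a2.symm tb hw (h.Q_le a2 wQ') (vQ_le _ wQ'))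
  · by_cases hqb : q ∈ vQ b
    · exact hK (h.ZB_le a1 tb (h.commZ' a2.symm tb hw (h.Q_le a2 hqb) (vQ_le _ hqb)))
    · have qG := h.Q_le a1 hq
      have e2 : q • d = d' := h.swap a1.symm a2 a3 n1 n2 n3 qG (vQ_le _ hq) hqb
      have z := h.two k a3.symm tb (e2 ▸ conj_mem_vZ.2 hw) hw' (nb q qG) hw'b
      have := mul_mem (hK (h.ZB_le a1 tb z)) (inv_mem (hK' 1 (one_mem _)))
      convert this using 1
      simp only [commutatorElement_def]; group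

/-! ### Odd critical distance -/

theorem odd_tb (ho : cb M₁ M₂ % 2 = 1) {p : ℕ → CosetVertex M₁ M₂} (hp : Crit p) :
    TB (p (cb M₁ M₂)) := by
  rw [hp.1.tb le_rfl]; simp only [h.ntb_of_crit hp.1 hp.2, false_iff]; omega

/-- The reversed arc, extended by one step. -/
theorem arc_back {p : ℕ → CosetVertex M₁ M₂} {n : ℕ} (hp : Arc p n) {ε : CosetVertex M₁ M₂}
    (hε : p n ∼ ε) (hne : p (n - 1) ≠ ε) : Arc (acons ε fun i => p (n - i)) (n + 1) :=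
  hp.rev.cons hε hne

theorem odd_A (ho : cb M₁ M₂ % 2 = 1) {p : ℕ → CosetVertex M₁ M₂} (hp : Crit p)
    {ε : CosetVertex M₁ M₂} (hε : p (cb M₁ M₂) ∼ ε) (hne : p (cb M₁ M₂ - 1) ≠ ε) :
    Crit (acons ε fun i => p (cb M₁ M₂ - i)) := by
  have hb := h.one_lt_cb
  have tb := h.odd_tb ho hp
  have ha := h.ntb_of_crit hp.1 hp.2
  have A := h.arc_back hp.1 hε hne
  set b := cb M₁ M₂ with hbdef
  set q := acons ε fun i => p (b - i) with hq
  have q1 : q b = p 1 := by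
    rw [show b = b - 1 + 1 by omega, hq, acons_succ]; congr 1; omega
  have q2 : q (b + 1) = p 0 := by rw [hq, acons_succ, Nat.sub_self]
  by_contra hc
  have hle : vZ ε ≤ vQ (p 1) := by
    by_contra hn
    exact hc ⟨A.mono (by omega), by rw [← hbdef, q1]; exact hn⟩
  have a1 : p 0 ∼ p 1 := hp.1.adj rfl (by omega)
  have a2 : p b ∼ p (b - 1) := (hp.1.adj (by omega) le_rfl).symm
  by_cases h0 : vZ ε ≤ vQ (p 0)
  · obtain ⟨z, hz, hzq⟩ := SetLike.not_le_iff_exists.1 hp.2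
    have z1 := h.arc_ZG hp.1 (i := 0) (j := b) (by omega) le_rfl (by omega) (by omega) hz
    have z2 := h.arc_ZG hp.1 (i := 0) (j := b - 1) (by omega) (by omega) (by omega) (by omega) hz
    refine h.Z_ne_bot ε (h.eq_bot hε (le_inf (h.Z_le_G_adj hε.symm) (scc_le _)) ?_ (le_norm_vZ ε))
    exact h.vG_le hε (inf_le_right.trans (le_norm_vZ ε)) z1
      (h.not_mem_of_not_Q a2 hε hne z1 z2 hzq)
      (cent_le_norm _ (mem_centralizer_comm.2 fun y hy => (h.Z_comm hz (h0 hy)).symm))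
  · obtain ⟨x, hx, hxq⟩ := SetLike.not_le_iff_exists.1 h0
    refine hc (h.crit_of_trans (n := b) ⟨q, b + 1, x, by omega, A, by rw [q2]; exact ha,
      fun i hi => ?_, by rw [q2]; exact hxq⟩ (h.wit_crit hp tb le_rfl) (by omega)
      (A.mono (by omega)) (ntb_of_adj hε tb))
    by_cases e : i = b + 1
    · rw [e, q2]; exact h.Q_le a1.symm (hle hx)
    · exact h.arc_ZG A (i := 0) (by omega) hi (by omega) (by omega) hx

end CII

end Cfsg.Lib.Push
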