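import Cfsg.Agent.Lib.Push.GoD

/-! Cubic amalgams with one central `Z_δ`: odd critical distance. -/

set_option autoImplicit false
set_option linter.unusedSectionVars false

namespace Cfsg.Lib.Push

open Subgroup MulAction Cfsg.Lib.Amalg
open scoped commutatorElement

variable {G : Type*} [Group G] {M₁ M₂ : Subgroup G}

theorem wit_rev {q : ℕ → CosetVertex M₁ M₂} {m n : ℕ} (hq : Arc q m) (hn : n ≤ m)
    {P : CosetVertex M₁ M₂ → Prop} (hP : P (q 0)) {x : G} (hx : ∀ i, i ≤ m → x ∈ vG (q i))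
    (hx' : x ∉ vQ (q 0)) : Wit P n :=
  ⟨fun i => q (m - i), m, x, hn, hq.rev, by simpa using hP, fun i _ => hx _ (by omega),
    by simpa using hx'⟩

/-- The ends of a critical arc with the first vertex removed. -/
structure Gd (β l l' β' : CosetVertex M₁ M₂) : Prop where
  tb : TB β
  tb' : TB β'
  adj : β ∼ l
  adj' : β' ∼ l'
  nle : ∀ δ, β ∼ δ → l ≠ δ → ¬ vZ δ ≤ vQ β'
  nle' : ∀ δ, β' ∼ δ → l' ≠ δ → ¬ vZ δ ≤ vQ β
  le : vV β ≤ vQ l'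
  le' : vV β' ≤ vQ l
  Z_le : vZ β ≤ vQ β'
  Z_le' : vZ β' ≤ vQ β

theorem Gd.symm {β l l' β' : CosetVertex M₁ M₂} (h : Gd β l l' β') : Gd β' l' l β :=
  ⟨h.tb', h.tb, h.adj', h.adj, h.nle', h.nle, h.le', h.le, h.Z_le', h.Z_le⟩

theorem Gd.smul {β l l' β' : CosetVertex M₁ M₂} (h : Gd β l l' β') (g : G) :
    Gd (g • β) (g • l) (g • l') (g • β') := by
  have key : ∀ {β l β' : CosetVertex M₁ M₂}, (∀ δ, β ∼ δ → l ≠ δ → ¬ vZ δ ≤ vQ β') →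
      ∀ δ, g • β ∼ δ → g • l ≠ δ → ¬ vZ δ ≤ vQ (g • β') := by
    intro β l β' H δ h1 h2
    obtain ⟨δ, rfl⟩ : ∃ d, δ = g • d := ⟨g⁻¹ • δ, by simp⟩
    exact not_Z_le_smul (H δ ((cg_adj_smul_iff g).1 h1) fun e => h2 (by rw [e])) g
  refine ⟨(tb_smul g _).2 h.tb, (tb_smul g _).2 h.tb', cg_adj_smul g h.adj, cg_adj_smul g h.adj',
    key h.nle, key h.nle', ?_, ?_, ?_, ?_⟩
  · rw [vV_smul, vQ_smul]; exact cj_mono g h.le
  · rw [vV_smul, vQ_smul]; exact cj_mono g h.le'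
  · rw [vZ_smul, vQ_smul]; exact cj_mono g h.Z_le
  · rw [vZ_smul, vQ_smul]; exact cj_mono g h.Z_le'

namespace CII

variable (h : CII M₁ M₂)
include h

theorem arc_VQ {p : ℕ → CosetVertex M₁ M₂} {n : ℕ} (hp : Arc p n) {i j : ℕ} (hi : i ≤ n)
    (hj : j ≤ n) (h1 : i + 1 < j + cb M₁ M₂) (h2 : j + 1 < i + cb M₁ M₂) : vV (p i) ≤ vQ (p j) := by
  refine vV_le fun δ hδ => Z_le_Q_of_lt ?_
  have := h.dst_adj hδ.symm (p j)
  rcases le_total i j with e | e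
  · have := h.arc_dst hp e hj; omega
  · have := h.arc_dst' hp e hi; omega

theorem odd_sub (ho : cb M₁ M₂ % 2 = 1) {p : ℕ → CosetVertex M₁ M₂} (hp : Crit p)
    {ε : CosetVertex M₁ M₂} (hε : p (cb M₁ M₂) ∼ ε) (hne : p (cb M₁ M₂ - 1) ≠ ε)
    (H : ∀ x ∈ vZ (p 0), x ∈ vQ (p (cb M₁ M₂)) → x ∈ vQ ε) : K1 M₁ M₂ := by
  have hb := h.one_lt_cb
  have tb := h.odd_tb ho hp
  have ha := h.ntb_of_crit hp.1 hp.2
  have a1 : p 0 ∼ p 1 := hp.1.adj rfl (by omega)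
  have a2 : p (cb M₁ M₂) ∼ p (cb M₁ M₂ - 1) := (hp.1.adj (by omega) le_rfl).symm
  have a3 : p 1 ∼ p 2 := hp.1.adj rfl (by omega)
  have g1 := h.arc_ZG hp.1 (i := 0) (j := cb M₁ M₂) (by omega) le_rfl (by omega) (by omega)
  have g2 := h.arc_ZG hp.1 (i := 0) (j := cb M₁ M₂ - 1) (by omega) (by omega) (by omega) (by omega)
  by_cases hB : ∀ w ∈ vZ ε, w ∈ vQ (p 1) → w ∈ vQ (p 0)
  · obtain ⟨z, hz, hzq⟩ := SetLike.not_le_iff_exists.1 hp.2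
    obtain ⟨n1, n2⟩ := h.smul_ne a2 hε hne (g1 hz) (g2 hz) hzq
    have hε' := adj_smul_of_mem (g1 hz) hε
    obtain ⟨t, ht, ht', htq⟩ := h.exists_Q_Q (by omega) tb hε' hε n1
    have key : ∀ w ∈ vZ ε, w ∈ vQ (p 1) → w * t = t * w := fun w hw hw' => by
      refine h.Z_comm ?_ ht
      have := (conj_mem_vZ (g := z)).2 hw
      rwa [h.Z_comm hz (hB w hw hw'), mul_inv_cancel_right] at this
    have e1 : ∀ i, 1 ≤ i → i ≤ cb M₁ M₂ → vZ ε ≤ vG (p i) := fun i h1 h2 => h.Z_le_G (by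
      have := h.dst_adj hε.symm (p i)
      have := h.arc_dst' hp.1 h2 le_rfl
      omega)
    refine h.k1_of hε.symm (ntb_of_adj hε tb) (h.Q_le hε ht') (vQ_le _ ht') htq
      fun x hx y hy n1 n2 => key _ (mul_mem hx hy) ?_
    exact h.mul_mem_Q a3 (e1 1 le_rfl (by omega) hx) (e1 2 (by omega) (by omega) hx)
      (e1 1 le_rfl (by omega) hy) (e1 2 (by omega) (by omega) hy) (fun e => n1 (key x hx e))
      fun e => n2 (key y hy e)
  · push Not at hB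
    obtain ⟨w, hw, hw1, hw0⟩ := hB
    have key : ∀ x ∈ vZ (p 0), x ∈ vQ (p (cb M₁ M₂)) → x * w = w * x := fun x hx hx' =>
      (h.Z_comm hw (H x hx hx')).symm
    refine h.k1_of a1 ha (h.Q_le a1.symm hw1) (vQ_le _ hw1) hw0
      fun x hx y hy n1 n2 => key _ (mul_mem hx hy) ?_
    exact h.mul_mem_Q a2 (g1 hx) (g2 hx) (g1 hy) (g2 hy) (fun e => n1 (key x hx e))
      fun e => n2 (key y hy e)

theorem odd_k1 (ho : cb M₁ M₂ % 2 = 1) : K1 M₁ M₂ := by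
  obtain ⟨p, hp⟩ : ∃ p : ℕ → CosetVertex M₁ M₂, Crit p := h.exists_crit_arc
  have hb := h.one_lt_cb
  have tb := h.odd_tb ho hp
  have ha := h.ntb_of_crit hp.1 hp.2
  have a1 : p 0 ∼ p 1 := hp.1.adj rfl (by omega)
  have a2 : p (cb M₁ M₂) ∼ p (cb M₁ M₂ - 1) := (hp.1.adj (by omega) le_rfl).symm
  obtain ⟨ε, hε, hne⟩ := h.exists_ne a2
  have hq := h.odd_A ho hp hε hne
  have A := h.arc_back hp.1 hε hne
  by_contra k
  have s1 := mt (h.odd_sub ho hp hε hne) k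
  set b := cb M₁ M₂ with hbdef
  set q := acons ε fun i => p (b - i) with hqdef
  have q1 : q b = p 1 := by
    rw [show b = b - 1 + 1 by omega, hqdef, acons_succ]; congr 1; omega
  have q2 : q (b + 1) = p 0 := by rw [hqdef, acons_succ, Nat.sub_self]
  have q3 : q (b - 1) = p 2 := by
    rw [show b - 1 = b - 2 + 1 by omega, hqdef, acons_succ]; congr 1; omega
  have s2 := mt (h.odd_sub ho hq (ε := p 0) (by rw [← hbdef, q1]; exact a1.symm)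
    (by rw [← hbdef, q3]; exact (hp.1.ne rfl (by omega)).symm)) k
  rw [← hbdef, q1] at s2
  push Not at s1 s2
  obtain ⟨a, ha1, ha2, ha3⟩ := s1
  obtain ⟨w, hw1, hw2, hw3⟩ := s2
  have hw1' : w ∈ vZ ε := hw1
  have t1 := tb_of_adj a1 ha
  have w0 := h.Q_le a1.symm hw2
  have A0 : ∀ x ∈ vZ (p 0), x ∈ vQ ε → x ∈ vZ (p 1) := fun x hx hx' =>
    h.centZ a1 t1 hx w0 (vQ_le _ hw2) hw3 (h.Z_comm hw1' hx').symm
  have r1 : ⁅w, a⁆ ∈ vZ (p 1) := h.commZ' a1 t1 ha1 w0 (vQ_le _ hw2)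
  have r2 : ⁅w, a⁆ ∈ vZ (p b) := h.commZ hε.symm tb hw1' (h.Q_le hε ha2) (vQ_le _ ha2)
  have r3 : ⁅w, a⁆ ≠ 1 := by
    refine h.comm_ne a1 t1 ha1 (fun e => ha3 ?_) w0 (vQ_le _ hw2) hw3
    have := h.ZB_le (hp.1.adj (i := 1) (j := 2) rfl (by omega)).symm t1 e
    rw [← q3] at this
    exact h.arc_ZQ A (i := b - 1) (j := 0) (by omega) (by omega) (by omega) (by omega) this
  obtain ⟨ν, hν, hν1⟩ := h.exists_ne a1
  have A1 := hp.1.cons hν hν1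
  obtain ⟨g, hg⟩ := h.arc_trans (n := b) (wit_rev A (by omega) (ntb_of_adj hε tb) (x := a)
    (fun i hi => by
      by_cases e : i = 0
      · rw [e]; exact h.Q_le hε ha2
      · exact h.arc_ZG A (i := b + 1) le_rfl hi (by omega) (by omega) (q2 ▸ ha1)) ha3)
    (h.wit_crit hp tb le_rfl) (b - 1) (by omega) (fun i => p (1 + i)) (acons ν p)
    (hp.1.shift 1 (by omega)) (A1.mono (by omega))
    (by simp only [add_zero, acons_zero, t1, tb_of_adj hν ha])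
  have g0 : g • p 1 = ν := hg 0 (by omega)
  have g1 : g • p b = p (b - 2) := by
    have := hg (b - 1) le_rfl
    rwa [show 1 + (b - 1) = b by omega, show b - 1 = b - 2 + 1 by omega, acons_succ] at this
  have y1 : g * ⁅w, a⁆ * g⁻¹ ∈ vZ ν := g0 ▸ conj_mem_vZ.2 r1
  have y2 : g * ⁅w, a⁆ * g⁻¹ ∈ vZ (p (b - 2)) := g1 ▸ conj_mem_vZ.2 r2
  have y3 : g * ⁅w, a⁆ * g⁻¹ ∈ vQ ε := by
    have q4 : q 3 = p (b - 2) := rfl
    rw [← q4] at y2
    have := h.ZB_le (A.adj (i := 2) (j := 3) rfl (by omega))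
      (by rw [A.tb (by omega)]; simp only [hqdef, acons_zero, ntb_of_adj hε tb, false_iff]; omega)
      y2
    exact h.arc_ZQ A (i := 2) (j := 0) (by omega) (by omega) (by omega) (by omega) this
  have := h.Z_disj a1 hν hν1 ha (A0 _ (h.ZB_le hν (tb_of_adj hν ha) y1) y3) y1
  exact r3 (by simpa using this)

theorem nle_of (ho : cb M₁ M₂ % 2 = 1) {c : ℕ} (hc : cb M₁ M₂ = c + 1)
    {q : ℕ → CosetVertex M₁ M₂} (hq : Arc q c) {δ : CosetVertex M₁ M₂} (hδ : q 0 ∼ δ)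
    (hn : ¬ vZ δ ≤ vQ (q c)) {ε : CosetVertex M₁ M₂} (hε : q c ∼ ε) (hne : q (c - 1) ≠ ε) :
    ¬ vZ ε ≤ vQ (q 0) := by
  have hb := h.one_lt_cb
  have hδ1 : q 1 ≠ δ := fun e => hn (e ▸ h.arc_ZQ hq (by omega) le_rfl (by omega) (by omega))
  have hp : Crit (acons δ q) := ⟨hc ▸ hq.cons hδ hδ1, by rw [hc]; exact hn⟩
  have := (h.odd_A ho hp (ε := ε) (by rw [hc]; exact hε) (by
    rw [hc, show c + 1 - 1 = c - 1 + 1 by omega]; exact hne)).2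
  rw [hc] at this
  simpa using this

theorem gd_of (ho : cb M₁ M₂ % 2 = 1) {c : ℕ} (hc : cb M₁ M₂ = c + 1)
    {q : ℕ → CosetVertex M₁ M₂} (hq : Arc q c) (ht : TB (q 0)) {δ : CosetVertex M₁ M₂}
    (hδ : q 0 ∼ δ) (hn : ¬ vZ δ ≤ vQ (q c)) : Gd (q 0) (q 1) (q (c - 1)) (q c) := by
  have hb := h.one_lt_cb
  have a2 : q c ∼ q (c - 1) := (hq.adj (by omega) le_rfl).symm
  have k1 := fun ε => h.nle_of ho hc hq hδ hn (ε := ε)
  obtain ⟨ε, hε, hne⟩ := h.exists_ne a2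
  refine ⟨ht, by rw [hq.tb le_rfl]; simp only [ht, true_iff]; omega, hq.adj rfl (by omega), a2,
    fun δ' h1 h2 => ?_, k1, h.arc_VQ hq (by omega) (by omega) (by omega) (by omega),
    h.arc_VQ hq (by omega) (by omega) (by omega) (by omega),
    h.arc_ZQ hq (by omega) (by omega) (by omega) (by omega),
    h.arc_ZQ hq (by omega) (by omega) (by omega) (by omega)⟩
  have := h.nle_of ho hc hq.rev (δ := ε) (by simpa using hε) (by simpa using k1 ε hε hne)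
    (ε := δ') (by simpa using h1) (by rwa [show c - (c - 1) = 1 by omega])
  simpa using this

theorem gd_crit (ho : cb M₁ M₂ % 2 = 1) {p : ℕ → CosetVertex M₁ M₂} (hp : Crit p) :
    Gd (p 1) (p 2) (p (cb M₁ M₂ - 1)) (p (cb M₁ M₂)) := by
  have hb := h.one_lt_cb
  have a1 : p 0 ∼ p 1 := hp.1.adj rfl (by omega)
  have := h.gd_of ho (c := cb M₁ M₂ - 1) (by omega) (hp.1.shift 1 (by omega))
    (tb_of_adj a1 (h.ntb_of_crit hp.1 hp.2)) (δ := p 0) a1.symm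
    (by rw [show 1 + (cb M₁ M₂ - 1) = cb M₁ M₂ by omega]; exact hp.2)
  rwa [show 1 + (cb M₁ M₂ - 1) = cb M₁ M₂ by omega,
    show 1 + (cb M₁ M₂ - 1 - 1) = cb M₁ M₂ - 1 by omega] at this

theorem all_gd (ho : cb M₁ M₂ % 2 = 1) {c : ℕ} (hc : cb M₁ M₂ = c + 1)
    (hW : Wit (fun v : CosetVertex M₁ M₂ => ¬ TB v) (c - 1)) {q : ℕ → CosetVertex M₁ M₂}
    (hq : Arc q c) (ht : TB (q 0)) : Gd (q 0) (q 1) (q (c - 1)) (q c) := by
  have hb := h.one_lt_cb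
  obtain ⟨p, hp⟩ : ∃ p : ℕ → CosetVertex M₁ M₂, Crit p := h.exists_crit_arc
  have hg := h.gd_crit ho hp
  obtain ⟨g, e⟩ := h.arc_trans hW (h.wit_crit hp (h.odd_tb ho hp) (by omega)) c (by omega)
    (fun i => p (1 + i)) q (hp.1.shift 1 (by omega)) hq (by simp only [add_zero, hg.tb, ht])
  rw [← e 0 (by omega), ← e 1 (by omega), ← e (c - 1) (by omega), ← e c le_rfl,
    show 1 + (c - 1) = cb M₁ M₂ - 1 by omega, show 1 + c = cb M₁ M₂ by omega]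
  exact hg.smul g

theorem gd_not_Q (k : K1 M₁ M₂) {β l l' β' δ : CosetVertex M₁ M₂} (g : Gd β l l' β') (hδ : β ∼ δ)
    (hne : l ≠ δ) {z : G} (hz : z ∈ vZ δ) (hz' : z ∉ vZ β) : z ∉ vQ β' := fun e =>
  g.nle δ hδ hne fun v hv => by
    by_cases hv' : v ∈ vZ β
    · exact g.Z_le hv'
    · exact (Subgroup.mul_mem_cancel_right _ e).1 (g.Z_le (h.two k hδ.symm g.tb hv hz hv' hz'))

/-- The commutator of the two ends of a good arc. -/
theorem gd_comm (k : K1 M₁ M₂) {β l l' β' δ ε : CosetVertex M₁ M₂} (g : Gd β l l' β') (hδ : β ∼ δ)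
    (hne : l ≠ δ) (hε : β' ∼ ε) (hne' : l' ≠ ε) {z z' : G} (hz : z ∈ vZ δ) (nz : z ∉ vZ β)
    (hz' : z' ∈ vZ ε) (nz' : z' ∉ vZ β') : ∃ δ' x, β ∼ δ' ∧ l ≠ δ' ∧ δ ≠ δ' ∧ x ∈ vZ δ' ∧
      x ∉ vZ β ∧ ⁅z, z'⁆ = z * x ∧ ⁅z, z'⁆ ∉ vZ β := by
  have h1 := h.gd_not_Q k g.symm hε hne' hz' nz'
  have h2 := g.le' (le_vV hε hz')
  have h3 := h.Q_le g.adj.symm h2
  obtain ⟨n1, n2⟩ := h.smul_ne g.adj hδ hne h3 (vQ_le _ h2) h1
  have e : ⁅z, z'⁆ = z * (z' * z * z'⁻¹) := by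
    rw [commutatorElement_def, h.Z_inv hz]; group
  have m := (conj_mem_vZ (g := z')).2 hz
  refine ⟨z' • δ, z' * z * z'⁻¹, adj_smul_of_mem h3 hδ, n2.symm, n1.symm, m,
    fun e => nz (by rwa [← smul_of_mem h3, conj_mem_vZ] at e), e, fun e' => nz ?_⟩
  rw [e] at e'
  exact h.Z_inf k g.tb hδ (adj_smul_of_mem h3 hδ) n1.symm hz ((Subgroup.mul_mem_cancel_right _ m).1
    (h.ZB_le (adj_smul_of_mem h3 hδ).symm g.tb e'))

theorem gd_comm8 (k : K1 M₁ M₂) (p8 : P8 M₁ M₂) {β l l' β' δ ε : CosetVertex M₁ M₂}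
    (g : Gd β l l' β') (hδ : β ∼ δ) (hne : l ≠ δ) (hε : β' ∼ ε) (hne' : l' ≠ ε) {z z' : G}
    (hz : z ∈ vZ δ) (nz : z ∉ vZ β) (hz' : z' ∈ vZ ε) (nz' : z' ∉ vZ β') :
    ⁅z, z'⁆ ∈ vZ l ∧ ⁅z, z'⁆ ∉ vZ β ∧ ⁅z, z'⁆ ∈ vZ l' ∧ ⁅z, z'⁆ ∉ vZ β' := by
  obtain ⟨δ', x, a1, a2, a3, a4, a5, a6, a7⟩ := h.gd_comm k g hδ hne hε hne' hz nz hz' nz'
  obtain ⟨ε', x', b1, b2, b3, b4, b5, b6, b7⟩ := h.gd_comm k g.symm hε hne' hδ hne hz' nz' hz nz
  refine ⟨a6 ▸ p8 _ _ _ _ g.tb g.adj hδ a1 hne a2 a3 _ _ hz nz a4 a5, a7, ?_, ?_⟩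
  · rw [← commutatorElement_inv, inv_mem_iff, b6]
    exact p8 _ _ _ _ g.tb' g.adj' hε b1 hne' b2 b3 _ _ hz' nz' b4 b5
  · rwa [← commutatorElement_inv, inv_mem_iff]

theorem prod_sq (hb2 : 2 < cb M₁ M₂) {b a c : CosetVertex M₁ M₂} (ha : b ∼ a) (hc : b ∼ c)
    {x y : G} (hx : x ∈ vZ a) (hy : y ∈ vZ c) : x * y * (x * y) = 1 := by
  calc x * y * (x * y) = x * (y * x) * y := by group
    _ = (x * x) * (y * y) := by rw [← h.V_comm hb2 ha hc hx hy]; group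
    _ = 1 := by rw [h.Z_sq hx, h.Z_sq hy, one_mul]

theorem V_le_Q_adj (hb2 : 2 < cb M₁ M₂) {b a : CosetVertex M₁ M₂} (ha : b ∼ a) : vV b ≤ vQ a :=
  vV_le fun x hx => Z_le_Q_of_lt (by
    have := h.dst_adj hx.symm a
    rw [dst_of_adj ha] at this
    omega)

theorem bound_three (hb : cb M₁ M₂ = 3) : ∃ a : CosetVertex M₁ M₂, Nat.card (vQ a) ≤ 64 := by
  have ho : cb M₁ M₂ % 2 = 1 := by omega
  have k := h.odd_k1 ho
  obtain ⟨p, hp⟩ : ∃ p : ℕ → CosetVertex M₁ M₂, Crit p := h.exists_crit_arc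
  have g0 := h.gd_crit ho hp
  have n0 : p 1 ≠ p 3 := hp.1.ne rfl (by omega)
  rw [hb] at g0
  have all : ∀ l β β' : CosetVertex M₁ M₂, ¬ TB l → l ∼ β → l ∼ β' → β ≠ β' → Gd β l l β' := by
    intro l β β' hl h1 h2 h3
    obtain ⟨g, rfl⟩ := conj_of_tb (a := p 2) (b := l) (by simp only [hl, ntb_of_adj g0.adj g0.tb])
    have g1 := g0.smul g
    obtain ⟨s, hs, rfl, rfl⟩ := h.two_trans g1.adj.symm g1.adj'.symm h1 h2
      (fun e => n0 (MulAction.injective g e)) h3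
    have := g1.smul s
    rwa [smul_of_mem hs] at this
  have p8 : P8 M₁ M₂ := by
    obtain ⟨δ, hδ, hne⟩ := h.exists_ne g0.adj
    obtain ⟨ε, hε, hne'⟩ := h.exists_ne g0.adj'
    obtain ⟨z, hz, nz⟩ := h.exists_Z_not hδ.symm g0.tb
    obtain ⟨z', hz', nz'⟩ := h.exists_Z_not hε.symm g0.tb'
    obtain ⟨δ', x, a1, a2, a3, a4, a5, a6, -⟩ := h.gd_comm k g0 hδ hne hε hne' hz nz hz' nz'
    obtain ⟨ε', x', b1, b2, b3, b4, b5, b6, -⟩ :=
      h.gd_comm k g0.symm hε hne' hδ hne hz' nz' hz nz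
    have hl := ntb_of_adj g0.adj g0.tb
    refine h.p8_of k g0.tb g0.adj hδ a1 hne a2 a3 hz nz a4 a5 (h.mem_Z_of_cent hl
      (h.V_le_Q_adj (by omega) g0.adj (mul_mem (le_vV hδ hz) (le_vV a1 a4)))
      (h.prod_sq (by omega) hδ a1 hz a4) fun q hq => (comm_eq_one.1 ?_).symm)
    refine h.Z_disj g0.adj.symm g0.adj'.symm n0 hl (h.comm_prod k (by omega) g0.tb g0.adj hδ a1
      hne a2 a3 hz nz a4 a5 (h.Q_le g0.adj.symm hq) (vQ_le _ hq)) ?_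
    have := h.comm_prod k (by omega) g0.tb' g0.adj' hε b1 hne' b2 b3 hz' nz' b4 b5
      (h.Q_le g0.adj'.symm hq) (vQ_le _ hq)
    have e : z' * x' = z * x := by
      rw [← b6, ← commutatorElement_inv, a6]
      exact inv_eq_of_mul_self (h.prod_sq (by omega) hδ a1 hz a4)
    rwa [e] at this
  -- the bound
  obtain ⟨α, hα, -⟩ := h.exists_ne g0.adj
  have tβ := g0.tb
  generalize p 1 = β at hα tβ
  clear g0 n0 hp
  have tα := ntb_of_adj hα tβ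
  obtain ⟨δ, hδ, n1⟩ := h.exists_ne hα
  obtain ⟨δ', hδ', n2, n3⟩ := h.exists_third hα hδ n1
  have tδ := ntb_of_adj hδ tβ
  obtain ⟨ν, hν, m1⟩ := h.exists_ne hδ.symm
  obtain ⟨ν', hν', m2, m3⟩ := h.exists_third hδ.symm hν m1
  obtain ⟨a, ha, na⟩ := h.exists_ne hν.symm
  obtain ⟨a', ha', na'⟩ := h.exists_ne hν'.symm
  have tν := tb_of_adj hν tδ
  have tν' := tb_of_adj hν' tδ
  obtain ⟨v, hv, nv⟩ := h.exists_Z_not ha.symm tν
  obtain ⟨v', hv', nv'⟩ := h.exists_Z_not ha'.symm tν'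
  obtain ⟨x₀, hx₀, nx₀⟩ := h.exists_Z_not hα.symm tβ
  obtain ⟨x, hx, nx⟩ := h.exists_Z_not hδ.symm tβ
  have G1 := all δ β ν tδ hδ.symm hν m1
  have G2 := all δ β ν' tδ hδ.symm hν' m2
  have G3 := all δ ν ν' tδ hν hν' m3
  have vQδ : v ∈ vQ δ := G1.le' (le_vV ha hv)
  have vQδ' : v' ∈ vQ δ := G2.le' (le_vV ha' hv')
  have yβ : v * v' ∈ vQ β := h.mul_mem_Q hδ (h.Q_le hδ.symm vQδ) (vQ_le _ vQδ)
    (h.Q_le hδ.symm vQδ') (vQ_le _ vQδ') (h.gd_not_Q k G1.symm ha na hv nv)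
    (h.gd_not_Q k G2.symm ha' na' hv' nv')
  have c3 := (h.gd_comm8 k p8 G3 ha na ha' na' hv nv hv' nv').1
  have yα : v * v' ∉ vQ α := by
    intro e
    obtain ⟨b1, b2, -, b4⟩ := h.gd_comm8 k p8 G1 hα n1.symm ha na hx₀ nx₀ hv nv
    obtain ⟨d1, d2, -, d4⟩ := h.gd_comm8 k p8 G2 hα n1.symm ha' na' hx₀ nx₀ hv' nv'
    have e1 := comm_eq_one.2 (h.Z_comm hx₀ e)
    have e2 : ⁅x₀, v⁆ * ⁅x₀, v'⁆ = 1 := by
      have c := h.Z_comm d1 vQδ
      calc ⁅x₀, v⁆ * ⁅x₀, v'⁆ = ⁅x₀, v⁆ * (⁅x₀, v'⁆ * v) * v⁻¹ := by group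
        _ = ⁅x₀, v * v'⁆ := by rw [c]; simp only [commutatorElement_def]; group
        _ = 1 := e1
    exact d4 (by
      rw [eq_inv_of_mul_eq_one_right e2, inv_mem_iff]
      exact h.mem_third k tδ hδ.symm hν hν' m1 m2 m3 b1 b2 b4)
  -- general comparison of elements of `V_ν` modulo `Z_δ`
  have cmp : ∀ {n l a b : CosetVertex M₁ M₂}, TB n → n ∼ l → n ∼ a → n ∼ b → l ≠ a → l ≠ b →
      ∀ {u w : G}, u ∈ vZ a → u ∉ vZ n → w ∈ vZ b → w ∉ vZ n → u * w ∈ vZ l := by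
    intro n l a b tn h1 h2 h3 h4 h5 u w hu nu hw nw
    by_cases e : a = b
    · subst e; exact h.ZB_le h1.symm tn (h.two k h2.symm tn hu hw nu nw)
    · exact p8 _ _ _ _ tn h1 h2 h3 h4 h5 e _ _ hu nu hw nw
  have cj1 : ∀ {n l a n' a' : CosetVertex M₁ M₂}, TB n' → n ∼ a → l ≠ a → n' ∼ l → n' ∼ a' →
      l ≠ a' → ∀ {u w q : G}, q ∈ vG l → q • n = n' → u ∈ vZ a → u ∉ vZ n → w ∈ vZ a' →
      w ∉ vZ n' → q * u * q⁻¹ * w ∈ vZ l := by
    intro n l a n' a' tn' h2 h3 h4 h5 h6 u w q hq e hu nu hw nw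
    refine cmp tn' h4 (e ▸ cg_adj_smul q h2) h5 (fun e' => h3 ?_) h6 (conj_mem_vZ.2 hu)
      (by rw [← e, conj_mem_vZ]; exact nu) hw nw
    rw [← smul_of_mem hq] at e'
    exact MulAction.injective q e'
  have iv := h.Z_inv hv
  have iv' := h.Z_inv hv'
  have key : ∀ q ∈ vQ β, ⁅q, v * v'⁆ ∈ vZ δ := by
    intro q hq
    have qδ := h.Q_le hδ hq
    have N := le_norm_vZ δ
    by_cases hqδ : q ∈ vQ δ
    · have z1 := cj1 tν ha na hν.symm ha na qδ (smul_of_mem (h.Q_le hν hqδ)) hv nv hv nv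
      have z2 := cj1 tν' ha' na' hν'.symm ha' na' qδ (smul_of_mem (h.Q_le hν' hqδ)) hv' nv' hv' nv'
      have := mul_mem z1 (mem_norm_conj (N (vQ_le _ vQδ)) z2)
      convert this using 1
      calc ⁅q, v * v'⁆ = q * v * q⁻¹ * (q * v' * q⁻¹ * v'⁻¹) * v⁻¹ := by
            simp only [commutatorElement_def]; group
        _ = q * v * q⁻¹ * (v * v) * (q * v' * q⁻¹ * v') * v⁻¹ := by rw [h.Z_sq hv, iv']; group
        _ = _ := by group
    · have z1 := cj1 tν' ha na hν'.symm ha' na' qδ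
        (h.swap hδ.symm hν hν' m1 m2 m3 qδ (vQ_le _ hq) hqδ) hv nv hv' nv'
      have z2 := cj1 tν ha' na' hν.symm ha na qδ
        (h.swap hδ.symm hν' hν m2 m1 m3.symm qδ (vQ_le _ hq) hqδ) hv' nv' hv nv
      have := mul_mem (mul_mem z1 (mem_norm_conj (N (vQ_le _ vQδ')) z2)) (inv_mem c3)
      convert this using 1
      calc ⁅q, v * v'⁆ = q * v * q⁻¹ * (q * v' * q⁻¹) * v'⁻¹ * v⁻¹ := by
            simp only [commutatorElement_def]; group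
        _ = q * v * q⁻¹ * (v' * v') * (q * v' * q⁻¹) * (v * v) * v'⁻¹ * v⁻¹ := by
            rw [h.Z_sq hv, h.Z_sq hv']; group
        _ = q * v * q⁻¹ * v' * (v' * (q * v' * q⁻¹ * v) * v'⁻¹) * (v' * v * v'⁻¹ * v⁻¹) := by group
        _ = _ := by simp only [commutatorElement_def]; group
  have xQ : x ∈ vQ α := h.V_le_Q_adj (by omega) hα (le_vV hδ hx)
  refine ⟨α, h.card_Q_le k hα.symm tα (y := v * v') (v := x) (h.Q_le hα yβ) (vQ_le _ yβ) yα xQ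
    (by rw [h.Z_sq hx]; exact one_mem _) (fun t ht ht' => ?_) fun K hK hK' hKN q hq => ?_⟩
  · have := cj1 tβ hδ n1 hα hδ n1 ht (smul_of_mem ht') hx nx hx nx
    rwa [commutatorElement_def, h.Z_inv hx]
  · have ZK : vZ δ ≤ K := fun z hz => by
      by_cases e : z ∈ vZ β
      · exact hK (h.ZB_le hα.symm tβ e)
      · have x1 : x ∈ K := by simpa using hK' 1 (one_mem _)
        exact (Subgroup.mul_mem_cancel_right _ x1).1
          (hK (h.ZB_le hα.symm tβ (h.two k hδ.symm tβ hz hx e nx)))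
    by_cases hqβ : q ∈ vQ β
    · exact ZK (key q hqβ)
    · obtain ⟨β', hβ', nβ⟩ := h.exists_ne hα.symm
      obtain ⟨g, hg, rfl⟩ := cg_neighbours_transitive hα.symm hβ'
      have G4 := all α _ β tα hβ' hα.symm nβ.symm
      have x1 : g * x * g⁻¹ ∉ vQ β := h.gd_not_Q k G4 (cg_adj_smul g hδ)
        (fun e => n1 (MulAction.injective g ((smul_of_mem hg).trans e))) (conj_mem_vZ.2 hx)
        (by rw [conj_mem_vZ]; exact nx)
      have x2 : g * x * g⁻¹ ∈ vQ α := mem_norm_conj (le_norm_vQ α hg) xQ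
      have x3 := hK' g hg
      generalize g * x * g⁻¹ = x' at x1 x2 x3
      have q1 : x'⁻¹ * q ∈ vQ β := h.mul_mem_Q hα (inv_mem (h.Q_le hα.symm x2))
        (inv_mem (vQ_le _ x2)) (h.Q_le hα.symm hq) (vQ_le _ hq) (by simpa using x1) hqβ
      have := mul_mem (mem_norm_conj (hKN (vQ_le _ x2)) (ZK (key _ q1)))
        (comm_mem_left x3 (hKN (h.Q_le hα yβ)))
      convert this using 1
      simp only [commutatorElement_def]; group

end CII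

end Cfsg.Lib.Push
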