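import Cfsg.Agent.Lib.Push.GoE

/-! Cubic amalgams with one central `Z_δ`: odd critical distance at least five is impossible. -/

set_option autoImplicit false
set_option linter.unusedSectionVars false

namespace Cfsg.Lib.Push

open Subgroup MulAction Cfsg.Lib.Amalg
open scoped commutatorElement

variable {G : Type*} [Group G] {M₁ M₂ : Subgroup G}

/-- The join of `V_ν` over the neighbours `ν`. -/
def vW (a : CosetVertex M₁ M₂) : Subgroup G := ⨆ (x) (_ : a ∼ x), vV x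

theorem le_vW {a x : CosetVertex M₁ M₂} (h : a ∼ x) : vV x ≤ vW a :=
  le_iSup₂_of_le (f := fun x (_ : a ∼ x) => vV x) x h le_rfl

theorem vW_le {a : CosetVertex M₁ M₂} {K : Subgroup G} (h : ∀ x, a ∼ x → vV x ≤ K) : vW a ≤ K :=
  iSup₂_le h

namespace CII

variable (h : CII M₁ M₂)
include h

theorem exists_gd (ho : cb M₁ M₂ % 2 = 1) (hb : 4 < cb M₁ M₂) {p : ℕ → CosetVertex M₁ M₂}
    (hp : Crit p) : ∃ ν, p 0 ∼ ν ∧ p 1 ≠ ν ∧
      Gd ν (p 0) (p (cb M₁ M₂ - 3)) (p (cb M₁ M₂ - 2)) := by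
  have k := h.odd_k1 ho
  have g0 := h.gd_crit ho hp
  have ha := h.ntb_of_crit hp.1 hp.2
  by_contra H
  push Not at H
  set b := cb M₁ M₂ with hbdef
  have a1 : p 0 ∼ p 1 := hp.1.adj rfl (by omega)
  have e1 : ∀ ν, acons ν p (b - 1) = p (b - 2) := fun ν => by
    rw [show b - 1 = b - 2 + 1 by omega, acons_succ]
  have e2 : ∀ ν, acons ν p (b - 1 - 1) = p (b - 3) := fun ν => by
    rw [show b - 1 - 1 = b - 3 + 1 by omega, acons_succ]
  have nW : ¬ Wit (fun v : CosetVertex M₁ M₂ => ¬ TB v) (b - 1 - 1) := fun hW => by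
    obtain ⟨ν, hν, hν1⟩ := h.exists_ne a1
    have := h.all_gd ho (c := b - 1) (by omega) hW ((hp.1.cons hν hν1).mono (by omega))
      (tb_of_adj hν ha)
    rw [e1, e2] at this
    exact H ν hν hν1 this
  have a3 : p (b - 2) ∼ p (b - 1) := hp.1.adj (by omega) (by omega)
  have a4 : p (b - 1) ∼ p b := hp.1.adj (by omega) (by omega)
  have t4 : ¬ TB (p (b - 1)) := ntb_of_adj a4.symm g0.tb'
  obtain ⟨ε, hε, hne⟩ := h.exists_ne a4.symm
  obtain ⟨z, hz, nz⟩ := h.exists_Z_not a1 g0.tb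
  obtain ⟨z', hz', nz'⟩ := h.exists_Z_not hε.symm g0.tb'
  have n02 : p 2 ≠ p 0 := (hp.1.ne rfl (by omega)).symm
  have zq := h.gd_not_Q k g0 a1.symm n02 hz nz
  have zq' := h.gd_not_Q k g0.symm hε hne hz' nz'
  have z'2 : z' ∈ vQ (p 2) := g0.le' (le_vV hε hz')
  have z'1 : z' ∈ vG (p 1) := h.Q_le g0.adj.symm z'2
  have key : ∀ ν, p 0 ∼ ν → ∀ w ∈ vV ν, z' * w * z'⁻¹ ∈ vW (p 0) := by
    intro ν hν w hw
    by_cases hν1 : p 1 = ν
    · subst hν1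
      exact le_vW a1 (mem_norm_conj (le_norm_vV _ z'1) hw)
    have hV : vV ν ≤ vQ (p (b - 2)) := vV_le fun δ hδ => by
      by_contra hc
      have := h.gd_of ho (c := b - 1) (by omega) ((hp.1.cons hν hν1).mono (by omega))
        (tb_of_adj hν ha) (δ := δ) hδ (by rw [e1]; exact hc)
      rw [e1, e2] at this
      exact H ν hν hν1 this
    have hVG : ∀ i, i ≤ b - 1 → vV ν ≤ vG (p i) := fun i hi => by
      by_cases e : i = b - 1
      · rw [e]; exact hV.trans (h.Q_le a3)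
      · refine vV_le fun γ hγ => h.Z_le_G ?_
        have := h.dst_adj hγ.symm (p i)
        have := h.dst_adj hν.symm (p i)
        have := h.arc_dst hp.1 (i := 0) (j := i) (by omega) (by omega)
        omega
    have hV' : vV ν ≤ vQ (p (b - 1)) := fun x hx => by
      by_contra hxq
      exact nW ⟨p, b - 1, x, by omega, hp.1.mono (by omega), t4, fun i hi => hVG i hi hx, hxq⟩
    have c0 : ∀ w ∈ vV ν, w ∈ vQ (p b) → z' * w = w * z' := fun w hw hw' => by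
      refine h.Z_comm hz' ?_
      by_contra hwq
      refine nW (wit_rev (h.arc_back hp.1 hε hne) (by omega) (ntb_of_adj hε g0.tb') (x := w)
        (fun i hi => ?_) hwq)
      rcases i with _ | i
      · exact h.Q_le hε hw'
      · rw [acons_succ]
        by_cases e : i = 0
        · rw [e]; exact vQ_le _ hw'
        · exact hVG _ (by omega) hw
    have zV : z ∈ vV ν := le_vV hν.symm hz
    by_cases hwq : w ∈ vQ (p b)
    · rw [c0 w hw hwq, mul_inv_cancel_right]; exact le_vW hν hw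
    · have m := c0 _ (mul_mem hw zV) (h.mul_mem_Q a4.symm (h.Q_le a4 (hV' hw)) (vQ_le _ (hV' hw))
        (h.Q_le a4 (hV' zV)) (vQ_le _ (hV' zV)) hwq zq)
      have := mul_mem (le_vW hν (mul_mem hw zV))
        (le_vW a1 (inv_mem (mem_norm_conj (le_norm_vV _ z'1) (le_vV a1.symm hz))))
      convert this using 1
      calc z' * w * z'⁻¹ = (z' * (w * z)) * z⁻¹ * z'⁻¹ := by group
        _ = _ := by rw [m]; group
  have hWle : vW (p 0) ≤ vG (p 0) ⊓ vG (p 1) := vW_le fun ν hν => vV_le fun δ hδ => by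
    have := h.dst_adj hδ.symm (p 0)
    have := h.dst_adj hδ.symm (p 1)
    have := h.dst_adj hν.symm (p 1)
    have := dst_of_adj hν.symm
    have := dst_of_adj a1
    exact le_inf (h.Z_le_G (by omega)) (h.Z_le_G (by omega))
  haveI := h.fin (p 0)
  haveI : Finite (vW (p 0)) := finite_of_le (hWle.trans inf_le_left)
  have N0 : vG (p 0) ≤ 𝐍 (vW (p 0)) := fun g hg => by
    refine mem_normalizer_of_cj_le ?_
    rw [cj_le_iff]
    refine vW_le fun x hx => ?_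
    rw [← cj_le_iff]
    exact (cj_vV_le g x).trans (le_vW (adj_smul_of_mem hg hx))
  have Nz : z' ∈ 𝐍 (vW (p 0)) := by
    refine mem_normalizer_of_cj_le ?_
    rw [cj_le_iff]
    refine vW_le fun x hx => ?_
    rw [← cj_le_iff, cj_le_iff']
    exact key x hx
  have := h.eq_bot a1 hWle N0 (h.vG_le a1.symm (inf_le_right.trans N0) z'1
    (h.not_mem_of_not_Q g0.adj a1.symm n02 z'1 (vQ_le _ z'2) zq') Nz)
  exact h.vV_ne_bot (p 1) (eq_bot_iff.2 (this ▸ le_vW a1))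

/-- An element of `Q_α` lies in the subgroup generated by `Q_α ∩ Q_β` and one more element. -/
theorem Q_le_of {a b : CosetVertex M₁ M₂} (hab : a ∼ b) {K : Subgroup G}
    (hK : ∀ q ∈ vQ a, q ∈ vQ b → q ∈ K) {s : G} (hs : s ∈ vQ a) (hs' : s ∉ vQ b) (hsK : s ∈ K) :
    vQ a ≤ K := fun q hq => by
  by_cases e : q ∈ vQ b
  · exact hK q hq e
  · exact (Subgroup.mul_mem_cancel_right _ hsK).1 (hK _ (mul_mem hq hs)
      (h.mul_mem_Q hab.symm (h.Q_le hab hq) (vQ_le _ hq) (h.Q_le hab hs) (vQ_le _ hs) e hs'))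

theorem mem_Z_prod (k : K1 M₁ M₂) (hb : 3 < cb M₁ M₂) {α β ν l γ γ' : CosetVertex M₁ M₂}
    (ha : ¬ TB α) (hβ : α ∼ β) (hν : α ∼ ν) (n0 : β ≠ ν) (hl : β ∼ l) (n1 : α ≠ l) (hγ : ν ∼ γ)
    (hγ' : ν ∼ γ') (m1 : α ≠ γ) (m2 : α ≠ γ') (m3 : γ ≠ γ') {y y' t : G} (hy : y ∈ vZ γ)
    (ny : y ∉ vZ ν) (hy' : y' ∈ vZ γ') (ny' : y' ∉ vZ ν) (ht : t ∈ vG β) (ht' : t ∈ vG l)
    (htq : t ∉ vQ β) (hc : y * y' * t = t * (y * y')) : y * y' ∈ vZ α := by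
  have tβ := tb_of_adj hβ ha
  have tν := tb_of_adj hν ha
  have f1 : ∀ q ∈ vQ α, ⁅q, y * y'⁆ ∈ vZ ν := fun q hq =>
    h.comm_prod k (by omega) tν hν.symm hγ hγ' m1 m2 m3 hy ny hy' ny' (h.Q_le hν hq) (vQ_le _ hq)
  have rV : y * y' ∈ vV ν := mul_mem (le_vV hγ hy) (le_vV hγ' hy')
  have r2 := h.prod_sq (by omega) hγ hγ' hy hy'
  have rα : y * y' ∈ vQ α := h.V_le_Q_adj (by omega) hν.symm rV
  have rβ : y * y' ∈ vQ β := (show vV ν ≤ vQ β from vV_le fun δ hδ => Z_le_Q_of_lt (by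
    have := h.dst_adj hδ.symm β
    have := h.dst_adj hν.symm β
    have := dst_of_adj hβ
    omega)) rV
  -- `Q_α ∩ Q_ν` centralizes the product if the intersections at `ν` agree
  have f2 : (∀ q ∈ vQ α, q ∈ vQ γ → q ∈ vQ γ') → (∀ q ∈ vQ α, q ∈ vQ γ' → q ∈ vQ γ) →
      ∀ q ∈ vQ α, q ∈ vQ ν → y * y' * q = q * (y * y') := by
    intro E1 E2 q h1 h2
    by_cases e : q ∈ vQ γ
    · exact (Commute.mul_left (h.Z_comm hy e) (h.Z_comm hy' (E1 q h1 e)) :)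
    · have z1 := h.commZ' hγ.symm tν hy (h.Q_le hγ h2) (vQ_le _ h2)
      have e' := k ν tν _ _ z1 (h.commZ' hγ'.symm tν hy' (h.Q_le hγ' h2) (vQ_le _ h2))
        (h.comm_ne hγ.symm tν hy ny (h.Q_le hγ h2) (vQ_le _ h2) e)
        (h.comm_ne hγ'.symm tν hy' ny' (h.Q_le hγ' h2) (vQ_le _ h2) fun e'' => e (E2 q h1 e''))
      have c := h.ZB_comm tν z1 (h.Z_le_G_adj hγ.symm hy)
      refine (comm_eq_one.1 ?_).symm
      calc ⁅q, y * y'⁆ = ⁅q, y⁆ * (y * ⁅q, y'⁆) * y⁻¹ := by simp only [commutatorElement_def]; group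
        _ = 1 := by rw [← e', ← c, ← mul_assoc, h.Z_sq z1]; group
  generalize y * y' = r at *
  by_contra nr
  have nC : ¬ vQ α ≤ centralizer {r} := fun H =>
    nr (h.mem_Z_of_cent ha rα r2 fun q hq => mem_cent_singleton.1 (H hq))
  -- the centralizer of `r` in `Q_α` has index two
  have f3 : ∀ q ∈ vQ α, ∀ q' ∈ vQ α, q ∉ centralizer {r} → q' ∉ centralizer {r} →
      q * q' ∈ centralizer {r} := by
    intro q hq q' hq' n n'
    have e := k ν tν _ _ (f1 q hq) (f1 q' hq')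
      (fun e => n (mem_cent_singleton.2 (comm_eq_one.1 e).symm))
      (fun e => n' (mem_cent_singleton.2 (comm_eq_one.1 e).symm))
    have c := h.ZB_comm tν (f1 q hq) (h.Q_le hν hq)
    refine mem_cent_singleton.2 (comm_eq_one.1 ?_).symm
    calc ⁅q * q', r⁆ = (q * ⁅q', r⁆) * q⁻¹ * ⁅q, r⁆ := by simp only [commutatorElement_def]; group
      _ = 1 := by rw [← e, ← c, mul_inv_cancel_right, h.Z_sq (f1 q hq)]
  obtain ⟨k1, k2⟩ := h.smul_ne hl hβ.symm n1.symm ht ht' htq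
  have hμ : β ∼ t • α := adj_smul_of_mem ht hβ.symm
  have tC : t ∈ centralizer {r} := mem_cent_singleton.2 hc
  have f4 : ∀ q ∈ vQ α, q ∈ vQ (t • α) → q ∈ centralizer {r} := by
    intro q h1 h2
    obtain ⟨q', rfl⟩ : ∃ q', q = t * q' * t⁻¹ := ⟨t⁻¹ * q * t, by group⟩
    have z2 : ⁅t * q' * t⁻¹, r⁆ ∈ vZ (t • ν) := by
      have := (conj_mem_vZ (g := t)).2 (f1 q' (conj_mem_vQ.1 h2))
      convert this using 1
      calc ⁅t * q' * t⁻¹, r⁆ = t * q' * t⁻¹ * (r * t) * q'⁻¹ * t⁻¹ * r⁻¹ := by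
            simp only [commutatorElement_def]; group
        _ = t * q' * r * q'⁻¹ * (r * t)⁻¹ := by
            have : r * t * q'⁻¹ = t * r * q'⁻¹ := by rw [hc]
            calc _ = t * q' * t⁻¹ * (r * t * q'⁻¹) * (r * t)⁻¹ := by group
              _ = _ := by rw [this]; group
        _ = _ := by rw [hc]; simp only [commutatorElement_def]; group
    have z1 := f1 _ h1
    have := h.Z_disj hβ hν n0 ha (h.Z_inf k tβ hβ.symm hμ k1.symm (h.ZB_le hν tν z1)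
      (h.ZB_le (cg_adj_smul t hν) ((tb_smul _ _).2 tν) z2)) z1
    exact mem_cent_singleton.2 (comm_eq_one.1 this).symm
  by_cases hC : ∀ c ∈ vQ α, c ∈ centralizer {r} → c ∈ vQ β
  · obtain ⟨s, hs, hsq⟩ := h.exists_Q_not_Q hβ
    have c1 : ∀ q ∈ vQ α, q ∈ vQ β → q ∈ centralizer {r} := fun q h1 h2 => by
      by_contra n
      exact hsq ((Subgroup.mul_mem_cancel_left _ h2).1
        (hC _ (mul_mem h1 hs) (f3 q h1 s hs n fun e => hsq (hC s hs e))))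
    obtain ⟨q, q1, q2, q3⟩ := h.exists_Q_Q (by omega) tβ hμ hβ.symm k1
    obtain ⟨q', rfl⟩ : ∃ q', q = t * q' * t⁻¹ := ⟨t⁻¹ * q * t, by group⟩
    have q4 : t * q' * t⁻¹ ∈ centralizer {r} := mul_mem (mul_mem tC (c1 q' (conj_mem_vQ.1 q1)
      (by rwa [← smul_of_mem ht, conj_mem_vQ] at q2))) (inv_mem tC)
    have c2 := h.edge_le hl (h.Q_le_of hβ.symm (fun q h1 h2 => c1 q h2 h1) q2 q3 q4) ht ht' htq tC
    refine nr (h.ZB_le hβ tβ ?_)
    rw [h.ZB hl.symm tβ, inf_comm]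
    exact mem_omZ_iff.2 ⟨h.Q_le_edge hl rβ, mem_centralizer_comm.2 fun s hs =>
      (mem_cent_singleton.1 (c2 hs)).symm, by rwa [sq]⟩
  push Not at hC
  obtain ⟨c, hc1, hc2, hc3⟩ := hC
  have ec : c • l = t • α := h.swap hβ.symm hl hμ n1 k1.symm k2.symm (h.Q_le hβ hc1)
    (vQ_le _ hc1) hc3
  -- `C ∩ Q_β = Q_α ∩ Q_μ`
  have f5 : ∀ q ∈ vQ α, q ∈ vQ β → q ∈ centralizer {r} → q ∈ vQ (t • α) := by
    intro q h1 h2 h3
    by_contra n
    refine nC (h.Q_le_of hβ (fun x x1 x2 => ?_) hc1 hc3 hc2)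
    by_cases e : x ∈ vQ (t • α)
    · exact f4 x x1 e
    · exact (Subgroup.mul_mem_cancel_right _ h3).1 (f4 _ (mul_mem x1 h1) (h.mul_mem_Q hμ.symm
        (h.Q_le hμ x2) (vQ_le _ x2) (h.Q_le hμ h2) (vQ_le _ h2) e n))
  have f6 : ∀ q ∈ vQ α, q ∈ vQ l → q ∈ vQ (t • α) := fun q h1 h2 => by
    have h3 : c * q * c⁻¹ ∈ centralizer {r} :=
      f4 _ (mem_norm_conj (le_norm_vQ α (vQ_le _ hc1)) h1) (ec ▸ conj_mem_vQ.2 h2)
    refine f5 q h1 (h.mem_Q hβ.symm hl n1 (h.Q_le hβ h1) (vQ_le _ h1) (vQ_le _ h2)) ?_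
    have := mul_mem (mul_mem (inv_mem hc2) h3) hc2
    rwa [show c⁻¹ * (c * q * c⁻¹) * c = q by group] at this
  have EV : ∀ b x y z : CosetVertex M₁ M₂, TB b → b ∼ x → b ∼ y → b ∼ z → x ≠ y →
      ∀ q ∈ vQ x, q ∈ vQ y → q ∈ vQ z := by
    intro b x y z tb hx hy hz hxy q h1 h2
    obtain ⟨g₀, rfl⟩ := conj_of_tb (a := β) (b := b) (by tauto)
    obtain ⟨g₁, hg₁, e1, e2⟩ := h.two_trans (cg_adj_smul g₀ hβ.symm) (cg_adj_smul g₀ hl) hx hy
      (fun e => n1 (MulAction.injective g₀ e)) hxy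
    have eb : (g₁ * g₀) • β = g₀ • β := by rw [mul_smul, smul_of_mem hg₁]
    rw [← mul_smul] at e1 e2
    generalize g₁ * g₀ = g at eb e1 e2
    generalize g₀ • β = b₁ at *
    subst eb e1 e2
    obtain ⟨q', rfl⟩ : ∃ q', q = g * q' * g⁻¹ := ⟨g⁻¹ * q * g, by group⟩
    rcases h.three hx hy (cg_adj_smul g hμ) hz hxy (fun e => k1.symm (MulAction.injective g e))
      (fun e => k2.symm (MulAction.injective g e)) with rfl | rfl | rfl
    · exact h1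
    · exact h2
    · exact conj_mem_vQ.2 (f6 q' (conj_mem_vQ.1 h1) (conj_mem_vQ.1 h2))
  have f7 := f2 (EV ν α γ γ' tν hν.symm hγ hγ' m1) (EV ν α γ' γ tν hν.symm hγ' hγ m2)
  have NB : vG β ≤ 𝐍 (vQ α ⊓ vQ l) := fun g hg => by
    haveI := h.fin α
    haveI : Finite (vQ α ⊓ vQ l : Subgroup G) := finite_of_le (inf_le_left.trans (vQ_le α))
    refine inv_mem_iff.1 (mem_normalizer_of_cj_le (cj_le_iff'.2 fun x hx => ?_))
    have e : ∀ z, β ∼ z → g⁻¹ * x * g⁻¹⁻¹ ∈ vQ z := fun z hz => by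
      rw [← inv_smul_smul g z, conj_mem_vQ]
      exact EV β α l _ tβ hβ.symm hl (adj_smul_of_mem hg hz) n1 x hx.1 hx.2
    exact ⟨e α hβ.symm, e l hl⟩
  have D1 : ∀ x ∈ vQ α ⊓ vQ l, ∀ n, α ∼ n → x ∈ vQ n := by
    have D0 : ∀ x ∈ vQ α ⊓ vQ l, x ∈ vQ ν := fun x hx => by
      by_contra n
      exact nC (h.Q_le_of hν (fun q h1 h2 => mem_cent_singleton.2 (f7 q h1 h2)) hx.1 n
        (f4 x hx.1 (f6 x hx.1 hx.2)))
    intro x hx n hn
    by_cases e : β = n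
    · exact e ▸ h.mem_Q hβ.symm hl n1 (h.Q_le hβ hx.1) (vQ_le _ hx.1) (vQ_le _ hx.2)
    · obtain ⟨s, -, hs', rfl⟩ := h.exists_smul_fix hβ hν hn n0 e
      have := (conj_mem_vQ (g := s)).2 (D0 _ (mem_norm_conj (NB (inv_mem hs')) hx))
      rwa [show s * (s⁻¹ * x * s⁻¹⁻¹) * s⁻¹ = x by group] at this
  have NA : vG α ≤ 𝐍 (vQ α ⊓ vQ l) := fun g hg => by
    haveI := h.fin α
    haveI : Finite (vQ α ⊓ vQ l : Subgroup G) := finite_of_le (inf_le_left.trans (vQ_le α))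
    refine inv_mem_iff.1 (mem_normalizer_of_cj_le (cj_le_iff'.2 fun x hx => ?_))
    have e : ∀ z, α ∼ z → g⁻¹ * x * g⁻¹⁻¹ ∈ vQ z := fun z hz => by
      rw [← inv_smul_smul g z, conj_mem_vQ]
      exact D1 x hx _ (adj_smul_of_mem hg hz)
    have e0 := mem_norm_conj (le_norm_vQ α (inv_mem hg)) hx.1
    exact ⟨e0, EV β α (t • α) l tβ hβ.symm hμ hl k1.symm _ e0
      (f5 _ e0 (e β hβ) (mem_cent_singleton.2 (f7 _ e0 (e ν hν))))⟩
  have := h.eq_bot hβ (inf_le_left.trans (h.Q_le_edge hβ)) NA NB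
  refine h.Z_ne_bot β (eq_bot_iff.2 (this ▸ le_inf ?_ ?_))
  · exact (h.ZB_le hβ tβ).trans (h.Z_le_Q α)
  · exact (h.ZB_le hl.symm tβ).trans (h.Z_le_Q l)

theorem p8_big (ho : cb M₁ M₂ % 2 = 1) (hb : 4 < cb M₁ M₂) : P8 M₁ M₂ := by
  have k := h.odd_k1 ho
  obtain ⟨p, hp⟩ : ∃ p : ℕ → CosetVertex M₁ M₂, Crit p := h.exists_crit_arc
  have g0 := h.gd_crit ho hp
  have ha := h.ntb_of_crit hp.1 hp.2
  obtain ⟨ν, hν, hν1, g1⟩ := h.exists_gd ho hb hp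
  set b := cb M₁ M₂ with hbdef
  have a1 : p 0 ∼ p 1 := hp.1.adj rfl (by omega)
  have a3 : p (b - 2) ∼ p (b - 1) := hp.1.adj (by omega) (by omega)
  have n3 : p (b - 3) ≠ p (b - 1) := hp.1.ne (by omega) (by omega)
  obtain ⟨ε, hε, hne⟩ := h.exists_ne g0.adj'
  obtain ⟨z', hz', nz'⟩ := h.exists_Z_not hε.symm g0.tb'
  have z'2 : z' ∈ vQ (p 2) := g0.le' (le_vV hε hz')
  obtain ⟨γ, hγ, m1⟩ := h.exists_ne hν.symm
  obtain ⟨y, hy, ny⟩ := h.exists_Z_not hγ.symm g1.tb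
  obtain ⟨y', hy', ny'⟩ := h.exists_Z_not a3.symm g1.tb'
  obtain ⟨γ', x, c1, c2, c3, c4, c5, c6, -⟩ := h.gd_comm k g1 hγ m1 a3 n3 hy ny hy' ny'
  obtain ⟨δ', x', d1, -, -, d4, -, d6, -⟩ := h.gd_comm k g1.symm a3 n3 hγ m1 hy' ny' hy ny
  have rV : y * x ∈ vV (p (b - 2)) := by
    rw [← c6, ← commutatorElement_inv, inv_mem_iff, d6]
    exact mul_mem (le_vV a3 hy') (le_vV d1 d4)
  have rQ : y * x ∈ vQ ε := (show vV (p (b - 2)) ≤ vQ ε from vV_le fun δ hδ => Z_le_Q_of_lt (by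
    have := h.dst_adj hδ.symm ε
    have := h.dst_adj' hε.symm (p (b - 2))
    have := h.arc_dst hp.1 (i := b - 2) (j := b) (by omega) le_rfl
    omega)) rV
  exact h.p8_of k g1.tb hν.symm hγ c1 m1 c2 c3 hy ny c4 c5 (h.mem_Z_prod k (by omega) ha a1 hν hν1
    g0.adj (hp.1.ne rfl (by omega)) hγ c1 m1 c2 c3 hy ny c4 c5 (h.Q_le g0.adj.symm z'2)
    (vQ_le _ z'2) (h.gd_not_Q k g0.symm hε hne hz' nz') (h.Z_comm hz' rQ).symm)

theorem odd_seven (ho : cb M₁ M₂ % 2 = 1) (hb : 5 < cb M₁ M₂) : False := by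
  have k := h.odd_k1 ho
  have p8 := h.p8_big ho (by omega)
  obtain ⟨p, hp⟩ : ∃ p : ℕ → CosetVertex M₁ M₂, Crit p := h.exists_crit_arc
  have ha := h.ntb_of_crit hp.1 hp.2
  obtain ⟨ν, hν, hν1, g1⟩ := h.exists_gd ho (by omega) hp
  obtain ⟨γ, hγ, m1⟩ := h.exists_ne hν.symm
  have A := (hp.1.cons hν hν1).cons hγ m1
  have hp' : Crit (acons γ (acons ν p)) := ⟨A.mono (by omega), by
    rw [show cb M₁ M₂ = cb M₁ M₂ - 2 + 1 + 1 by omega]
    exact g1.nle γ hγ m1⟩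
  obtain ⟨ν₁, hν₁, n1, g2⟩ := h.exists_gd ho (by omega) hp'
  set b := cb M₁ M₂ with hbdef
  rw [show b - 3 = b - 5 + 1 + 1 by omega, show b - 2 = b - 4 + 1 + 1 by omega] at g2
  simp only [acons_succ, acons_zero] at g2 hν₁ n1
  have a3 : p (b - 2) ∼ p (b - 1) := hp.1.adj (by omega) (by omega)
  have n3 : p (b - 3) ≠ p (b - 1) := hp.1.ne (by omega) (by omega)
  have a4 : p (b - 4) ∼ p (b - 3) := hp.1.adj (by omega) (by omega)
  have n4 : p (b - 5) ≠ p (b - 3) := hp.1.ne (by omega) (by omega)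
  obtain ⟨y, hy, ny⟩ := h.exists_Z_not hγ.symm g1.tb
  obtain ⟨y', hy', ny'⟩ := h.exists_Z_not a3.symm g1.tb'
  obtain ⟨c1, c2, c3, -⟩ := h.gd_comm8 k p8 g1 hγ m1 a3 n3 hy ny hy' ny'
  obtain ⟨γ₁, hγ₁, m2⟩ := h.exists_ne hν₁.symm
  obtain ⟨x, hx, nx⟩ := h.exists_Z_not hγ₁.symm g2.tb
  obtain ⟨x', hx', nx'⟩ := h.exists_Z_not a4.symm g2.tb'
  obtain ⟨d1, d2, d3, -⟩ := h.gd_comm8 k p8 g2 hγ₁ m2 a4 n4 hx nx hx' nx'
  have e1 : ⁅x, x'⁆ ∈ vZ ν := by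
    by_contra n
    exact h.gd_not_Q k g1 hγ m1 d1 n
      (h.arc_ZQ hp.1 (by omega) (by omega) (by omega) (by omega) d3)
  have e2 : ⁅y, y'⁆ ∈ vZ (p (b - 4)) := by
    by_contra n
    refine h.gd_not_Q k g2.symm a4 n4 c3 n (Z_le_Q_of_lt ?_ c1)
    have := h.dst_adj hν ν₁
    have := h.dst_adj hγ ν₁
    have := dst_of_adj hν₁
    omega
  have e3 := h.ZB_le g2.adj'.symm g2.tb' e2
  have e4 := h.ZB_le_of k g1.tb e1 (fun e => d2 (e ▸ one_mem _)) d3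
  refine hp.2 (le_trans (fun v hv => ?_)
    (h.arc_ZQ hp.1 (i := b - 5) (by omega) le_rfl (by omega) (by omega)))
  by_cases e : v ∈ vZ ν
  · exact e4 e
  · exact (Subgroup.mul_mem_cancel_right _ e3).1 (e4 (h.two k hν g1.tb hv c1 e c2))

theorem odd_five (hb : cb M₁ M₂ = 5) : False := by
  have ho : cb M₁ M₂ % 2 = 1 := by omega
  have k := h.odd_k1 ho
  have p8 := h.p8_big ho (by omega)
  have arc4 : ∀ {a b c d e : CosetVertex M₁ M₂}, a ∼ b → b ∼ c → c ∼ d → d ∼ e → a ≠ c → b ≠ d →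
      c ≠ e → Arc (acons a (acons b (acons c (acons d fun _ => e)))) 4 := by
    intro a b c d e h1 h2 h3 h4 n1 n2 n3
    refine ⟨fun i hi => ?_, fun i hi => ?_⟩
    · interval_cases i <;> assumption
    · obtain rfl | rfl | rfl : i = 0 ∨ i = 1 ∨ i = 2 := by omega
      all_goals assumption
  obtain ⟨p, hp⟩ : ∃ p : ℕ → CosetVertex M₁ M₂, Crit p := h.exists_crit_arc
  have g0 := h.gd_crit ho hp
  obtain ⟨l, β₁, h1, tl⟩ : ∃ l β₁ : CosetVertex M₁ M₂, l ∼ β₁ ∧ ¬ TB l :=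
    ⟨_, _, g0.adj.symm, ntb_of_adj g0.adj g0.tb⟩
  clear g0 hp p
  obtain ⟨β₂, h2, n12⟩ := h.exists_ne h1
  have t1 := tb_of_adj h1 tl
  have t2 := tb_of_adj h2 tl
  obtain ⟨δ₁, hδ₁, nδ₁⟩ := h.exists_ne h1.symm
  obtain ⟨δ₂, hδ₂, nδ₂⟩ := h.exists_ne h2.symm
  obtain ⟨ν₁, hν₁, nν₁⟩ := h.exists_ne hδ₁.symm
  obtain ⟨ν₂, hν₂, nν₂⟩ := h.exists_ne hδ₂.symm
  have all : ∀ {a b c d e : CosetVertex M₁ M₂}, TB a → a ∼ b → b ∼ c → c ∼ d → d ∼ e → a ≠ c →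
      b ≠ d → c ≠ e → Gd a b d e := by
    intro a b c d e ta a1 a2 a3 a4 n1 n2 n3
    obtain ⟨q, q1, q2, q3⟩ := h.exists_Q_Q (by omega) t1 hδ₁ h1.symm nδ₁.symm
    refine h.all_gd ho (c := 4) (by omega) ⟨_, 3, q, by omega,
      (arc4 hν₁.symm hδ₁.symm h1.symm h2 nν₁.symm nδ₁.symm n12).mono (by omega), tl,
      fun i hi => ?_, q3⟩ (arc4 a1 a2 a3 a4 n1 n2 n3) ta
    interval_cases i
    exacts [h.Q_le hν₁ q1, vQ_le _ q1, vQ_le _ q2, h.Q_le h1.symm q2]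
  have key : ∀ {β β' δ δ' ν ν' a a' : CosetVertex M₁ M₂} {x x' : G}, l ∼ β → l ∼ β' → β ≠ β' →
      β ∼ δ → l ≠ δ → β' ∼ δ' → l ≠ δ' → δ ∼ ν → β ≠ ν → δ' ∼ ν' → β' ≠ ν' → ν ∼ a → δ ≠ a →
      ν' ∼ a' → δ' ≠ a' → x ∈ vZ a → x ∉ vZ ν → x' ∈ vZ a' → x' ∉ vZ ν' →
      ⁅x', x * x' * x⁻¹⁆ ∈ vZ β' ∧ ⁅x', x * x' * x⁻¹⁆ ≠ 1 := by
    intro β β' δ δ' ν ν' a a' x x' b1 b2 b3 b4 b5 b6 b7 b8 b9 c1 c2 c3 c4 c5 c6 hx nx hx' nx'
    have tβ := tb_of_adj b1 tl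
    have tβ' := tb_of_adj b2 tl
    have G1 := all (tb_of_adj b8 (ntb_of_adj b4 tβ)) b8.symm b4.symm b1.symm b2 b9.symm b5.symm b3
    have x1 := h.gd_not_Q k G1 c3 c4 hx nx
    have x2 : x ∈ vQ l := G1.le (le_vV c3 hx)
    have x3 := h.Q_le b2 x2
    obtain ⟨k1, -⟩ := h.smul_ne b2.symm b6 b7 x3 (vQ_le _ x2) x1
    have hδ := adj_smul_of_mem x3 b6
    have G2 := all (tb_of_adj c1 (ntb_of_adj b6 tβ')) c1.symm b6.symm hδ (cg_adj_smul x c1)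
      c2.symm k1.symm fun e => c2 (MulAction.injective x ((smul_of_mem x3).trans e))
    obtain ⟨d1, d2, d3, -⟩ := h.gd_comm8 k p8 G2 c5 c6 (cg_adj_smul x c5)
      (fun e => c6 (MulAction.injective x e)) hx' nx' (conj_mem_vZ.2 hx')
      (by rw [conj_mem_vZ]; exact nx')
    exact ⟨h.Z_inf k tβ' b6 hδ k1.symm d1 d3, fun e => d2 (e ▸ one_mem _)⟩
  obtain ⟨a₁, ha₁, na₁⟩ := h.exists_ne hν₁.symm
  obtain ⟨a₂, ha₂, na₂⟩ := h.exists_ne hν₂.symm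
  obtain ⟨x₁, hx₁, nx₁⟩ := h.exists_Z_not ha₁.symm (tb_of_adj hν₁ (ntb_of_adj hδ₁ t1))
  obtain ⟨x₂, hx₂, nx₂⟩ := h.exists_Z_not ha₂.symm (tb_of_adj hν₂ (ntb_of_adj hδ₂ t2))
  obtain ⟨r1, r2⟩ := key h1 h2 n12 hδ₁ nδ₁ hδ₂ nδ₂ hν₁ nν₁ hν₂ nν₂ ha₁ na₁ ha₂ na₂ hx₁ nx₁ hx₂ nx₂
  obtain ⟨r3, -⟩ :=
    key h2 h1 n12.symm hδ₂ nδ₂ hδ₁ nδ₁ hν₂ nν₂ hν₁ nν₁ ha₂ na₂ ha₁ na₁ hx₂ nx₂ hx₁ nx₁
  refine r2 (h.Z_disj h1 h2 n12 tl ?_ r1)
  have := inv_mem r3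
  convert this using 1
  simp only [commutatorElement_def, mul_inv_rev, h.Z_inv hx₁, h.Z_inv hx₂, mul_assoc]

/-- The bound on the order of the core of a vertex stabilizer. -/
theorem bound : ∃ a : CosetVertex M₁ M₂, Nat.card (vQ a) ≤ 64 := by
  have := h.one_lt_cb
  by_cases e : cb M₁ M₂ % 2 = 0
  · by_cases e' : cb M₁ M₂ = 2
    · exact h.bound_two e'
    · exact (h.even_big e (by omega)).elim
  · by_cases e' : cb M₁ M₂ = 3
    · exact h.bound_three e'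
    · by_cases e'' : cb M₁ M₂ = 5
      · exact (h.odd_five e'').elim
      · exact (h.odd_seven (by omega) (by omega)).elim

end CII

end Cfsg.Lib.Push
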