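import Cfsg.Agent.Lib.Push.GoF

/-! Goldschmidt's bound for cubic amalgams. -/

set_option autoImplicit false
set_option linter.unusedSectionVars false

namespace Cfsg.Lib.Push

open Subgroup MulAction Cfsg.Lib.Amalg
open scoped commutatorElement

variable {G : Type*} [Group G] {M₁ M₂ : Subgroup G}

namespace Cubic

variable (h : Cubic M₁ M₂)
include h

theorem card_edge {a b : CosetVertex M₁ M₂} (hab : a ∼ b) :
    Nat.card (vG a ⊓ vG b : Subgroup G) = Nat.card (M₁ ⊓ M₂ : Subgroup G) := by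
  obtain ⟨x, ⟨rfl, rfl⟩ | ⟨rfl, rfl⟩⟩ := cg_adj_iff.1 hab
  · rw [vG, vG, cg_stabilizer_inl, cg_stabilizer_inr, ← cj_inf, card_cj]
  · rw [vG, vG, cg_stabilizer_inl, cg_stabilizer_inr, ← cj_inf, card_cj, inf_comm]

theorem card_T (a : CosetVertex M₁ M₂) :
    Nat.card (M₁ ⊓ M₂ : Subgroup G) = 2 * Nat.card (vQ a) := by
  obtain ⟨b, hab⟩ := cg_exists_adj a
  rw [← h.card_edge hab, h.card_Q hab]

theorem card_of_not_charP {δ : CosetVertex M₁ M₂} (hc : ¬ CharP 2 (vG δ)) :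
    Nat.card (M₁ ⊓ M₂ : Subgroup G) ≤ 16 := by
  obtain ⟨μ, hμ⟩ := cg_exists_adj δ
  obtain ⟨x, ⟨hx, hxc⟩, hxq⟩ := SetLike.not_le_iff_exists.1 hc
  obtain ⟨w, hw, hwc, hw'⟩ : ∃ w ∈ vG δ, w ∈ 𝐂 (vQ δ) ∧ w ∉ vG μ := by
    by_cases e : x ∈ vG μ
    · obtain ⟨ν, hν, hne⟩ := h.exists_ne hμ
      obtain ⟨g, hg, rfl⟩ := cg_neighbours_transitive hμ hν
      refine ⟨g * x * g⁻¹, mul_mem (mul_mem hg hx) (inv_mem hg), ?_, ?_⟩
      · have : vQ δ = cj g (vQ δ) := (cj_of_mem_normalizer (le_norm_vQ δ hg)).symm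
        rw [this, ← cj_centralizer]
        exact conj_mem_cj g hxc
      · exact h.not_mem_of_not_Q hν hμ hne.symm (mul_mem (mul_mem hg hx) (inv_mem hg))
          (conj_mem_vG.2 e) (by rw [← smul_of_mem hg, conj_mem_vQ]; exact hxq)
    · exact ⟨x, hx, hxc, e⟩
  obtain ⟨ν, hν, n1⟩ := h.exists_ne hμ.symm
  obtain ⟨ρ, hρ, n2, n3⟩ := h.exists_third hμ.symm hν n1
  have hN : vG μ ≤ 𝐍 (vQ δ ⊓ (vQ ν ⊓ (vQ ρ ⊓ vQ μ))) := fun g hg => by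
    haveI := h.fin δ
    haveI : Finite (vQ δ ⊓ (vQ ν ⊓ (vQ ρ ⊓ vQ μ)) : Subgroup G) :=
      finite_of_le (inf_le_left.trans (vQ_le δ))
    refine inv_mem_iff.1 (mem_normalizer_of_cj_le (cj_le_iff'.2 fun x hx => ?_))
    have e : ∀ z, μ ∼ z → g⁻¹ * x * g⁻¹⁻¹ ∈ vQ z := fun z hz => by
      rw [← inv_smul_smul g z, conj_mem_vQ]
      rcases h.three hμ.symm hν hρ (adj_smul_of_mem hg hz) n1 n2 n3 with e | e | e <;> rw [e]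
      exacts [hx.1, hx.2.1, hx.2.2.1]
    exact ⟨e δ hμ.symm, e ν hν, e ρ hρ, mem_norm_conj (le_norm_vQ μ (inv_mem hg)) hx.2.2.2⟩
  have hb := h.eq_bot hμ (inf_le_left.trans (h.Q_le_edge hμ)) (h.vG_le hμ (inf_le_right.trans hN)
    hw hw' (cent_le_norm _ (centralizer_le (SetLike.coe_subset_coe.2 inf_le_left) hwc))) hN
  have c1 := h.card_le_Q hρ.symm (h.Q_le_edge' hρ.symm)
  have c2 := h.card_le_Q hν.symm (K := vQ ρ ⊓ vQ μ) (inf_le_right.trans (h.Q_le_edge' hν.symm))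
  have c3 := h.card_le_Q hμ (K := vQ ν ⊓ (vQ ρ ⊓ vQ μ))
    ((inf_le_right.trans inf_le_right).trans (h.Q_le_edge' hμ))
  rw [hb, card_bot] at c3
  have := h.card_T μ
  omega

end Cubic

theorem goldschmidt_gen {P₁ P₂ : Subgroup G} [Finite P₁] [Finite P₂] (hgen : P₁ ⊔ P₂ = ⊤)
    (s₁ : Syl 2 (P₁ ⊓ P₂) P₁) (s₂ : Syl 2 (P₁ ⊓ P₂) P₂) (i₁ : (pCoreOf 2 P₁).relIndex P₁ = 6)
    (i₂ : (pCoreOf 2 P₂).relIndex P₂ = 6) (h₃ : ∀ N : Subgroup G, N.Normal → N ≤ P₁ ⊓ P₂ → N = ⊥) :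
    Nat.card (P₁ ⊓ P₂ : Subgroup G) ≤ 128 := by
  have h := cubic_mk hgen s₁ s₂ i₁ i₂ h₃
  by_cases c₁ : CharP 2 P₁
  swap
  · have := h.card_of_not_charP (δ := base₁ P₁ P₂) (by rwa [vG_base₁]); omega
  by_cases c₂ : CharP 2 P₂
  swap
  · have := h.card_of_not_charP (δ := base₂ P₁ P₂) (by rwa [vG_base₂]); omega
  by_cases n₂ : P₂ ≤ 𝐂 (omegaOneCenter 2 (P₁ ⊓ P₂))
  · obtain ⟨a, ha⟩ := CII.bound (M₁ := P₁) (M₂ := P₂) ⟨⟨h, c₁, c₂⟩, n₂⟩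
    have := h.card_T a
    omega
  by_cases n₁ : P₁ ≤ 𝐂 (omegaOneCenter 2 (P₁ ⊓ P₂))
  · rw [inf_comm] at s₁ s₂ h₃ n₁ ⊢
    have h' := cubic_mk (sup_comm P₁ P₂ ▸ hgen) s₂ s₁ i₂ i₁ h₃
    obtain ⟨a, ha⟩ := CII.bound (M₁ := P₂) (M₂ := P₁) ⟨⟨h', c₂, c₁⟩, n₁⟩
    have := h'.card_T a
    omega
  have e := h.card_T (base₁ P₁ P₂)
  rw [show vQ (base₁ P₁ P₂) = pCoreOf 2 P₁ from congrArg (pCoreOf 2) vG_base₁] at e
  obtain ⟨-, -, -, h | h⟩ := tri_amalgam hgen s₁ s₂ i₁ i₂ h₃ c₁ c₂ n₁ n₂ <;> omega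

/-- Goldschmidt's bound. -/
theorem goldschmidt_bound {P₁ P₂ : Subgroup G} [Finite P₁] [Finite P₂]
    (s₁ : Syl 2 (P₁ ⊓ P₂) P₁) (s₂ : Syl 2 (P₁ ⊓ P₂) P₂) (i₁ : (pCoreOf 2 P₁).relIndex P₁ = 6)
    (i₂ : (pCoreOf 2 P₂).relIndex P₂ = 6)
    (h₃ : ∀ N : Subgroup G, N ≤ P₁ ⊓ P₂ → P₁ ≤ 𝐍 N → P₂ ≤ 𝐍 N → N = ⊥) :
    Nat.card (P₁ ⊓ P₂ : Subgroup G) ≤ 128 := by
  set L := P₁ ⊔ P₂ with hL
  have l₁ : P₁ ≤ L := le_sup_left
  have l₂ : P₂ ≤ L := le_sup_right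
  haveI : Finite (P₁.subgroupOf L) := Finite.of_equiv _ (subgroupOfEquivOfLe l₁).symm.toEquiv
  haveI : Finite (P₂.subgroupOf L) := Finite.of_equiv _ (subgroupOfEquivOfLe l₂).symm.toEquiv
  have := goldschmidt_gen (P₁ := P₁.subgroupOf L) (P₂ := P₂.subgroupOf L)
    (by rw [← subgroupOf_sup l₁ l₂, subgroupOf_self]) (s₁.subgroupOf l₁)
    (s₂.subgroupOf l₂)
    (by rw [op_subgroupOf l₁, relIndex_subgroupOf l₁, i₁])
    (by rw [op_subgroupOf l₂, relIndex_subgroupOf l₂, i₂]) fun N hN hle => by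
      have hn : L ≤ 𝐍 (N.map L.subtype) := fun g hg => by
        have := le_normalizer_map (H := N) L.subtype
        rw [normalizer_eq_top] at this
        exact this ⟨⟨g, hg⟩, trivial, rfl⟩
      have := h₃ (N.map L.subtype) (by rintro _ ⟨x, hx, rfl⟩; exact hle hx) (l₁.trans hn)
        (l₂.trans hn)
      exact (map_eq_bot_iff_of_injective _ L.subtype_injective).1 this
  rwa [← Nat.card_congr (subgroupOfEquivOfLe (H := P₁ ⊓ P₂) (inf_le_left.trans l₁)).toEquiv]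

end Cfsg.Lib.Push
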