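import Cfsg.Agent.Lib.Push.LXa
import Cfsg.Agent.Lib.Invol.Transfer2
import Cfsg.Agent.Lib.Fus.SylowMod

/-! A class of involutions with large extraspecial subgroups and subgroups of index two in the centralizers:
the maximal configurations given by transfer. -/

set_option autoImplicit false

namespace Cfsg.Lib.Known2

open Subgroup Cfsg.Lib.Amalg

variable {G : Type*} [Group G] [Finite G] {X : Set G} {E K : G → Subgroup G} {s t f : G} {D : Subgroup G}

/-- a class of involutions with large extraspecial subgroups and subgroups of index two -/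
structure Fam (X : Set G) (E K : G → Subgroup G) : Prop where
  ls : ∀ t ∈ X, LS (E t) t
  idx : ∀ t ∈ X, (K t).relIndex (centralizer {t}) = 2
  conj : ∀ t ∈ X, ∀ g, g * t * g⁻¹ ∈ X
  cE : ∀ t ∈ X, ∀ g, E (g * t * g⁻¹) = cj g (E t)
  cK : ∀ t ∈ X, ∀ g, K (g * t * g⁻¹) = cj g (K t)

/-- two members of the class whose characters differ on the 2-group `D` -/
structure Bad (X : Set G) (K : G → Subgroup G) (s t : G) (D : Subgroup G) : Prop where
  hs : s ∈ X
  ht : t ∈ X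
  two : IsPGroup 2 D
  cs : D ≤ centralizer {s}
  ct : D ≤ centralizer {t}
  ne : ∃ d ∈ D, ¬ (d ∈ K s ↔ d ∈ K t)

/-- maximal configurations -/
structure Mx (X : Set G) (K : G → Subgroup G) (s t : G) (D : Subgroup G) : Prop extends Bad X K s t D where
  max : ∀ s' t' D', Bad X K s' t' D' → Nat.card D' ≤ Nat.card D

omit [Finite G] in
theorem Mx.symm (m : Mx X K s t D) : Mx X K t s D :=
  ⟨⟨m.ht, m.hs, m.two, m.ct, m.cs, m.ne.imp fun _ h => ⟨h.1, fun e => h.2 e.symm⟩⟩, m.max⟩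

omit [Finite G] in
theorem Mx.ne' (m : Mx X K s t D) : s ≠ t := by
  rintro rfl
  obtain ⟨d, -, h⟩ := m.ne
  exact h Iff.rfl

theorem Fam.exists_mx (F : Fam X E K) (one : ∀ t ∈ X, ∀ t' ∈ X, ∃ g, g * t * g⁻¹ = t') (hG : ∀ K : Subgroup G, K.index ≠ 2)
    (hs : s ∈ X) : ∃ t D, Mx X K s t D := by
  haveI := Invol.fact_two
  have h0 : ∃ s t D, Bad X K s t D := by
    by_contra! h
    obtain ⟨T, hT, -, hz⟩ := (F.ls s hs).exists_syl
    obtain ⟨x, hx, hxK⟩ : ∃ x ∈ T, x ∉ K s := SetLike.not_le_iff_exists.1 fun e =>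
      (hT.of_le hz le_top).not_dvd_relIndex_of_le e (F.idx s hs ▸ dvd_rfl)
    obtain ⟨M, hM, -⟩ := Invol.exists_index_two_not_mem (F.ls s hs).odd_index (F.idx s hs) (x := x) fun k g h0 hg => by
      have h1 : (x ^ k ∈ K s ↔ x ^ k ∈ K (g⁻¹ * s * g⁻¹⁻¹)) := by
        by_contra h1
        refine h s _ (zpowers (x ^ k)) ⟨hs, F.conj s hs g⁻¹, hT.isPGroup.to_le (zpowers_le.2 (pow_mem hx k)),
          zpowers_le.2 (pow_mem (hz hx) k), zpowers_le.2 (mem_cent_single.2 ?_), _, mem_zpowers _, h1⟩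
        calc _ = g⁻¹ * (g * x ^ k * g⁻¹ * s) * g := by group
          _ = _ := by rw [mem_cent_single.1 hg]; group
      rw [F.cK s hs, mem_cj, inv_inv] at h1
      rw [← h1]
      clear h1 hg h0
      induction k with
      | zero => simp
      | succ k ih => rw [pow_succ, mul_mem_two (F.idx s hs) (pow_mem (hz hx) k) (hz hx), Nat.even_add_one]; tauto
    exact hG M hM
  obtain ⟨s₀, t₀, D₀, h₀⟩ := h0
  obtain ⟨D, ⟨s₁, t₁, h⟩, hm⟩ := Set.exists_max_image {D : Subgroup G | ∃ s t, Bad X K s t D} (fun D => Nat.card D)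
    (Set.toFinite _) ⟨D₀, s₀, t₀, h₀⟩
  obtain ⟨g, rfl⟩ := one s₁ h.hs s hs
  obtain ⟨d, hd, hd'⟩ := h.ne
  refine ⟨g * t₁ * g⁻¹, cj g D, ⟨hs, F.conj _ h.ht g, isPGroup_cj_iff.2 h.two, ?_, ?_, _, conj_mem_cj g hd, ?_⟩,
    fun s' t' D' h' => (card_cj g D).symm ▸ hm D' ⟨s', t', h'⟩⟩
  · rw [← cj_centralizer_singleton]; exact cj_mono g h.cs
  · rw [← cj_centralizer_singleton]; exact cj_mono g h.ct
  · rwa [F.cK _ h.hs, F.cK _ h.ht, conj_mem_cj_iff, conj_mem_cj_iff]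

theorem Mx.eqv (m : Mx X K s t D) {P : Subgroup G} (hP : IsPGroup 2 P) (hD : D ≤ P) {x s' t' : G} (hx : x ∈ P) (hxD : x ∉ D)
    (hs : s' ∈ X) (ht : t' ∈ X) (h1 : D ≤ centralizer {s'}) (h2 : x ∈ centralizer {s'}) (h3 : D ≤ centralizer {t'})
    (h4 : x ∈ centralizer {t'}) {d : G} (hd : d ∈ D) : d ∈ K s' ↔ d ∈ K t' := by
  by_contra h
  exact hxD ((eq_of_le_of_card_ge le_sup_left (m.max s' t' (D ⊔ zpowers x) ⟨hs, ht, hP.to_le (sup_le hD (zpowers_le.2 hx)),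
    sup_le h1 (zpowers_le.2 h2), sup_le h3 (zpowers_le.2 h4), d, mem_sup_left hd, h⟩)).ge (mem_sup_right (mem_zpowers x)))

theorem Mx.le (F : Fam X E K) (m : Mx X K s t D) {x : G} (hx : x ∈ E s) (hxt : x * t = t * x) : x ∈ D := by
  have h := F.ls s m.hs
  by_contra hn
  obtain ⟨d, hd, h1⟩ := m.ne
  exact h1 (m.eqv (isPGroup_sup_of_le_normalizer m.two h.toES.isPGroup (m.cs.trans h.cent_le_norm)) le_sup_left
    (mem_sup_right hx) hn m.hs m.ht m.cs (h.toES.le_cent hx) m.ct (mem_cent_single.2 hxt) hd)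

theorem Mx.exists_e (F : Fam X E K) (m : Mx X K s t D) : ∃ e ∈ E s, e ∈ 𝐍 D ∧ e ∉ D ∧ e * e ∈ D := by
  haveI := Invol.fact_two
  have h := F.ls s m.hs
  by_cases hs : s ∈ D
  swap
  · exact ⟨s, h.mem, cent_le_norm D (mem_centralizer_comm.2 fun d hd => mem_cent_single.1 (m.cs hd)), hs, h.sq ▸ one_mem D⟩
  have hn := m.cs.trans h.cent_le_norm
  obtain ⟨g, hg, hg1, hg2⟩ := Fus.exists_mem_normalizer_of_lt (isPGroup_sup_of_le_normalizer m.two h.toES.isPGroup hn)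
    (lt_of_le_of_ne le_sup_left fun e => by
      rcases h.selfc t fun x hx => (mem_cent_single.1 (m.ct (e.ge (mem_sup_right hx)))).symm with e1 | e1
      · exact (F.ls t m.ht).ne e1
      · exact m.ne' e1.symm)
  rw [← SetLike.mem_coe, coe_mul_of_left_le_normalizer_right _ _ hn] at hg
  obtain ⟨d, hd, e, he, rfl⟩ := hg
  refine ⟨e, he, (mul_mem_cancel_left (le_normalizer hd)).1 hg2, fun h1 => hg1 (mul_mem hd h1), ?_⟩
  rcases h.sq_mem e he with e1 | e1 <;> rw [e1]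
  exacts [one_mem D, hs]

theorem Fam.exists_fix (F : Fam X E K) (hs : s ∈ X) {P : Subgroup G} (hP : IsPGroup 2 P) : ∃ y ∈ X, P ≤ centralizer {y} := by
  haveI := Invol.fact_two
  obtain ⟨T, hT, -, hz⟩ := (F.ls s hs).exists_syl
  obtain ⟨g, -, hg⟩ := hT.exists_le_conj hP le_top
  exact ⟨_, F.conj s hs g, hg.trans (by rw [← cj_centralizer_singleton]; exact cj_mono g hz)⟩

theorem Mx.key (F : Fam X E K) (m : Mx X K s t D) (hf : f ∈ E t) (hn : f ∈ 𝐍 D) (hfD : f ∉ D) (h2 : f * f ∈ D) :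
    ∃ d ∈ D, ¬ (d ∈ K s ↔ f⁻¹ * d * f ∈ K s) := by
  haveI := Invol.fact_two
  by_contra! hinv
  obtain ⟨e, he, hen, heD, he2⟩ := m.exists_e F
  obtain ⟨d, hd, hne⟩ := m.ne
  have hes := (F.ls s m.hs).toES.le_cent he
  have hft := (F.ls t m.ht).toES.le_cent hf
  let π := QuotientGroup.mk' (D.subgroupOf (𝐍 D))
  have h1 : ∀ x : 𝐍 D, π x = 1 ↔ (x : G) ∈ D := fun x => QuotientGroup.eq_one_iff x
  let pre : Subgroup _ → Subgroup G := fun Y => (Y.comap π).map (𝐍 D).subtype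
  have hp : ∀ Y : Subgroup (_ ⧸ D.subgroupOf (𝐍 D)), IsPGroup 2 Y → IsPGroup 2 (pre Y) := fun Y hY =>
    (Core.isPGroup_comap_mk' _ (Core.isPGroup_subgroupOf m.two _) hY).map _
  have hm : ∀ Y (x : 𝐍 D), π x ∈ Y → (x : G) ∈ pre Y := fun Y x hx => ⟨x, hx, rfl⟩
  have hD : ∀ Y, D ≤ pre Y := fun Y x hx => hm Y ⟨x, le_normalizer hx⟩ (((h1 ⟨x, le_normalizer hx⟩).2 hx).symm ▸ one_mem Y)
  set a : 𝐍 D := ⟨e, hen⟩
  set b : 𝐍 D := ⟨f, hn⟩
  have ha : π a * π a = 1 := by rw [← map_mul, h1]; exact he2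
  have hb : π b * π b = 1 := by rw [← map_mul, h1]; exact h2
  have hz : ∀ x : _ ⧸ D.subgroupOf (𝐍 D), x * x = 1 → IsPGroup 2 (zpowers x) := fun x hx =>
    Core.isPGroup_zpowers_of_pow_eq_one (k := 1) (by rwa [pow_one, sq])
  rcases Nat.even_or_odd (orderOf (π a * π b)) with h | h
  · obtain ⟨c1, c2, c3⟩ := Invol.exists_central_of_even ha hb h
    rw [← map_mul, ← map_pow] at c1 c2 c3
    set c := (a * b) ^ (orderOf (π (a * b)) / 2)
    have hc : (c : G) ∉ D := fun e => Invol.ne_one_of_two c1 ((h1 c).2 e)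
    have hq : ∀ x, x * x = 1 → Commute (π c) x → IsPGroup 2 (pre (zpowers (π c) ⊔ zpowers x)) := fun x hx h =>
      hp _ (isPGroup_sup_of_le_normalizer (hz _ (Invol.mul_self_of_two c1)) (hz x hx)
        (zpowers_le.2 (cent_le_norm _ (mem_cent_zpowers.2 h))))
    obtain ⟨y, hy, hy'⟩ := F.exists_fix m.hs (hq _ ha c2)
    obtain ⟨y', hy1, hy1'⟩ := F.exists_fix m.hs (hq _ hb c3)
    have m1 := hm _ a (mem_sup_right (S := zpowers (π c)) (mem_zpowers _))
    have m2 := hm _ c (mem_sup_left (T := zpowers (π a)) (mem_zpowers _))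
    have m3 := hm _ c (mem_sup_left (T := zpowers (π b)) (mem_zpowers _))
    have m4 := hm _ b (mem_sup_right (S := zpowers (π c)) (mem_zpowers _))
    exact hne ((m.eqv (hq _ ha c2) (hD _) m1 heD m.hs hy m.cs hes ((hD _).trans hy') (hy' m1) hd).trans
      ((m.eqv (hq _ ha c2) (hD _) m2 hc hy hy1 ((hD _).trans hy') (hy' m2) ((hD _).trans hy1') (hy1' m3) hd).trans
        (m.eqv (hq _ hb c3) (hD _) m4 hfD hy1 m.ht ((hD _).trans hy1') (hy1' m4) m.ct hft hd)))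
  · obtain ⟨k, hk⟩ := Invol.exists_conj_of_odd ha hb h
    rw [← map_mul, ← map_pow, ← map_inv, ← map_mul, ← map_mul, ← inv_mul_eq_one, ← map_inv, ← map_mul, h1] at hk
    have hg : ∀ k : ℕ, ∀ d ∈ D, (d ∈ K s ↔ ((e * f) ^ k)⁻¹ * d * (e * f) ^ k ∈ K s) := fun k => by
      induction k with
      | zero => simp
      | succ k ih =>
        intro d hd
        have h3 := Core.conj_inv_mem_of_mem_normalizer (pow_mem (mul_mem hen hn) k) hd
        rw [ih d hd, show ((e * f) ^ (k + 1))⁻¹ * d * (e * f) ^ (k + 1) =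
          f⁻¹ * (e⁻¹ * (((e * f) ^ k)⁻¹ * d * (e * f) ^ k) * e) * f by rw [pow_succ]; group,
          ← hinv _ (Core.conj_inv_mem_of_mem_normalizer hen h3), mul_mem_two (F.idx s m.hs) (mul_mem (inv_mem hes) (m.cs h3)) hes,
          mul_mem_two (F.idx s m.hs) (inv_mem hes) (m.cs h3), inv_mem_iff]
        tauto
    have hgn : (e * f) ^ k ∈ 𝐍 D := pow_mem (mul_mem hen hn) k
    have h3 : D ≤ centralizer {(e * f) ^ k * s * ((e * f) ^ k)⁻¹} := by
      rw [← cj_centralizer_singleton, ← cj_of_mem_normalizer hgn]; exact cj_mono _ m.cs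
    refine hne (((hg k d hd).trans ?_).trans (m.eqv (hp _ (hz _ hb)) (hD _) (hm _ b (mem_zpowers _)) hfD
      (F.conj s m.hs ((e * f) ^ k)) m.ht h3 ?_ m.ct hft hd))
    · rw [F.cK s m.hs, mem_cj]
    · refine (mul_mem_cancel_left (y := (b : G)) (inv_mem ?_)).1 (h3 hk)
      rw [← cj_centralizer_singleton]; exact conj_mem_cj ((e * f) ^ k) hes

theorem Mx.mem (F : Fam X E K) (m : Mx X K s t D) : t ∈ D := by
  by_contra h
  have h1 := F.ls t m.ht
  obtain ⟨d, hd, h2⟩ := m.key F h1.mem (cent_le_norm D (mem_centralizer_comm.2 fun d hd => mem_cent_single.1 (m.ct hd))) h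
    (h1.sq ▸ one_mem D)
  exact h2 (by rw [mul_assoc, mem_cent_single.1 (m.ct hd), inv_mul_cancel_left])

theorem Mx.comm (F : Fam X E K) (m : Mx X K s t D) : t * s = s * t := mem_cent_single.1 (m.cs (m.mem F))

theorem Mx.key' (F : Fam X E K) (m : Mx X K s t D) (hf : f ∈ E t) (hn : f ∈ 𝐍 D) (hfD : f ∉ D) :
    Mx X K s (f * s * f⁻¹) D := by
  obtain ⟨d, hd, h⟩ := m.key F hf hn hfD (by
    rcases (F.ls t m.ht).sq_mem f hf with e | e <;> rw [e]
    exacts [one_mem D, m.mem F])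
  refine ⟨⟨m.hs, F.conj s m.hs f, m.two, m.cs, ?_, d, hd, by rwa [F.cK s m.hs, mem_cj]⟩, m.max⟩
  rw [← cj_centralizer_singleton, ← cj_of_mem_normalizer hn]; exact cj_mono _ m.cs

theorem Mx.exists_u (F : Fam X E K) (m : Mx X K s t D) : ∃ u ∈ E t, u * s = s * u ∧ u ∉ K s := by
  obtain ⟨f, hf, hn, hfD, h2⟩ := m.symm.exists_e F
  obtain ⟨d, hd, h⟩ := m.key F hf hn hfD h2
  have h1 := Core.conj_inv_mem_of_mem_normalizer hn hd
  refine ⟨d⁻¹ * (f⁻¹ * d * f), ?_, mem_cent_single.1 (m.cs (mul_mem (inv_mem hd) h1)), fun e => h ?_⟩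
  · simpa [mul_assoc] using mul_mem ((F.ls t m.ht).norm _ (mem_cent_single.1 (m.ct (inv_mem hd))) _ (inv_mem hf)) hf
  · rwa [mul_mem_two (F.idx s m.hs) (m.cs (inv_mem hd)) (m.cs h1), inv_mem_iff] at e

/-- the family attached to `z` -/
theorem exists_fam {z : G} (h : LS (pCoreOf 2 (centralizer {z})) z) {M : Subgroup G} (hM : M.relIndex (centralizer {z}) = 2) :
    ∃ K : G → Subgroup G, (∀ g, K (g * z * g⁻¹) = cj g (M ⊓ centralizer {z})) ∧
      Fam {t | ∃ g, g * z * g⁻¹ = t} (fun t => pCoreOf 2 (centralizer {t})) K := by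
  classical
  let K : G → Subgroup G := fun t => if h : ∃ g, g * z * g⁻¹ = t then cj h.choose (M ⊓ centralizer {z}) else ⊥
  have h1 : ∀ g, K (g * z * g⁻¹) = cj g (M ⊓ centralizer {z}) := fun g => by
    have h2 : ∃ g', g' * z * g'⁻¹ = g * z * g⁻¹ := ⟨g, rfl⟩
    have h3 : g⁻¹ * h2.choose ∈ centralizer {z} := mem_cent_single.2 (by
      calc _ = g⁻¹ * (h2.choose * z * h2.choose⁻¹) * h2.choose := by group
        _ = _ := by rw [h2.choose_spec]; group)
    simp only [K, dif_pos h2]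
    rw [← mul_inv_cancel_left g h2.choose, cj_mul, cj_of_mem_normalizer (mem_normalizer_fintype fun x hx => mem_inf.2
      ⟨?_, mul_mem (mul_mem h3 hx.2) (inv_mem h3)⟩)]
    rw [mul_mem_two hM (mul_mem h3 hx.2) (inv_mem h3), mul_mem_two hM h3 hx.2, inv_mem_iff]
    have : x ∈ M := hx.1
    tauto
  refine ⟨K, h1, ?_, ?_, ?_, ?_, ?_⟩
  · rintro _ ⟨g, rfl⟩; rw [← cj_Qc]; exact h.conj g
  · rintro _ ⟨g, rfl⟩
    rw [h1, ← cj_centralizer_singleton, relIndex_map_map_of_injective _ _ (MulAut.conj g).injective, inf_relIndex_right, hM]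
  · rintro _ ⟨g, rfl⟩ k; exact ⟨k * g, by group⟩
  · rintro _ ⟨g, rfl⟩ k; exact (cj_Qc _ _).symm
  · rintro _ ⟨g, rfl⟩ k
    rw [h1, ← cj_mul, ← h1]; congr 1; group

end Cfsg.Lib.Known2
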