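import Cfsg.Agent.Lib.Push.LXb
import Cfsg.Agent.Lib.KS9.Plane
import Cfsg.Agent.Lib.PGrp.MaxClass

/-! An involution acting on a large extraspecial group. -/

set_option autoImplicit false

namespace Cfsg.Lib.Known2

open Subgroup Cfsg.Lib.Amalg
open scoped commutatorElement Pointwise

variable {G : Type*} [Group G] {Q : Subgroup G} {z t u x y a w : G}

theorem cm_mul (u x y : G) : ⁅u, x * y⁆ = ⁅u, x⁆ * (x * ⁅u, y⁆ * x⁻¹) := by simp only [commutatorElement_def]; group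

theorem cm_conj (ht : t * t = 1) (x : G) : x * t * x⁻¹ = t * ⁅t, x⁆ := by
  rw [commutatorElement_def, inv_eq_of_mul_eq_one_left ht, ← mul_assoc, ← mul_assoc, ← mul_assoc, ht, one_mul]

theorem cm_one : ⁅t, x⁆ = 1 ↔ Commute t x := commutatorElement_eq_one_iff_commute

namespace LS
variable (h : LS Q z)
include h

theorem cm_mem (hu : Commute u z) (hx : x ∈ Q) : ⁅u, x⁆ ∈ Q := mul_mem (h.norm u hu x hx) (inv_mem hx)

theorem cmul (ha : a ∈ Q) (hx : x ∈ Q) (hy : y ∈ Q) : Commute a (x * y) ↔ (Commute a x ↔ Commute a y) :=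
  h.toES.mul_comm_iff ha hx hy

theorem dual (hu : Commute u z) (hx : x ∈ Q) (hy : y ∈ Q) : Commute ⁅u, x⁆ y ↔ Commute x ⁅u⁻¹, y⁆ := by
  rw [Commute.symm_iff, commutatorElement_def, commutatorElement_def, h.cmul hy (h.norm u hu x hx) (inv_mem hx),
    h.cmul hx (h.norm _ hu.inv_left y hy) (inv_mem hy), Commute.inv_right_iff, Commute.inv_right_iff, Commute.symm_iff (a := y),
    Commute.symm_iff (a := y), ← Commute.conj_iff u⁻¹]
  simp [mul_assoc]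

theorem cm_z (hu : Commute u z) (x : G) : ⁅u, x * z⁆ = ⁅u, x⁆ := by rw [cm_mul, cm_one.2 hu]; simp

theorem cm_cm (ht : t * t = 1) (hx : x ∈ Q) (hz : Commute t z) : ⁅t, ⁅t, x⁆⁆ = ⁅t, x⁆ * ⁅t, x⁆ := by
  have h1 : ⁅t, ⁅t, x⁆⁆ = (⁅t, x⁆ * ⁅t, x⁆)⁻¹ := by
    simp only [commutatorElement_def, inv_eq_of_mul_eq_one_left ht, mul_inv_rev, inv_inv, ← mul_assoc, ht, one_mul]
  rcases h.sq_mem _ (h.cm_mem hz hx) with e | e <;> rw [h1, e]
  exacts [inv_one, h.toES.inv_z]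

theorem cm_sq (hu : Commute u z) (hx : x ∈ Q) : Commute ⁅u, x⁆ x ↔ ⁅u, x⁆ * ⁅u, x⁆ = 1 := by
  have h1 : ⁅u, x⁆ * x * (⁅u, x⁆ * x) = x * x := by
    rw [show ⁅u, x⁆ * x = u * x * u⁻¹ by simp [commutatorElement_def], conj_mul]
    rcases h.sq_mem x hx with e | e <;> rw [e]
    exacts [by simp, conj_eq_of_comm hu]
  rw [← mul_assoc, mul_left_inj] at h1
  refine ⟨fun e => ?_, fun e => mul_right_cancel (b := ⁅u, x⁆) (by rw [h1, mul_assoc, e, mul_one])⟩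
  rwa [e.eq, mul_assoc, mul_eq_left] at h1

theorem cm_mul_z (hx : x ∈ Q) (hy : ⁅t, y⁆ = z) : ⁅t, x * y⁆ = ⁅t, x⁆ * z := by
  rw [cm_mul, hy, conj_eq_of_comm (h.cen x hx)]

theorem perp' (ht : t * t = 1) (hz : Commute t z) (hx : x ∈ Q) (hy : y ∈ Q) (e : ⁅t, y⁆ = 1 ∨ ⁅t, y⁆ = z) : Commute ⁅t, x⁆ y := by
  rw [h.dual hz hx hy, inv_eq_of_mul_eq_one_left ht]
  rcases e with e | e <;> rw [e]
  exacts [Commute.one_right x, h.cen x hx]

variable [Finite G]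

theorem perp (ht : t * t = 1) (hz : Commute t z) (ha : a ∈ Q) (hc : ∀ y ∈ Q, ⁅t, y⁆ = 1 ∨ ⁅t, y⁆ = z → Commute a y) :
    ∃ x ∈ Q, a = ⁅t, x⁆ ∨ a = ⁅t, x⁆ * z := by
  have hm : ∀ x ∈ Q, ∀ y ∈ Q, ⁅t, x⁆ * ⁅t, y⁆ = ⁅t, x * y⁆ ∨ ⁅t, x⁆ * ⁅t, y⁆ = ⁅t, x * y⁆ * z := fun x hx y hy => by
    rw [cm_mul]
    rcases h.toES.conj_eq hx (h.cm_mem hz hy) with e | e <;> rw [e]
    · exact Or.inl rfl
    · right; rw [mul_assoc, mul_assoc, h.sq, mul_one]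
  have hS : ∀ {a b : G}, (∃ x ∈ Q, a = ⁅t, x⁆ ∨ a = ⁅t, x⁆ * z) → (∃ x ∈ Q, b = ⁅t, x⁆ ∨ b = ⁅t, x⁆ * z) →
      ∃ x ∈ Q, a * b = ⁅t, x⁆ ∨ a * b = ⁅t, x⁆ * z := by
    rintro _ _ ⟨x, hx, e⟩ ⟨y, hy, e'⟩
    have c1 : ∀ v, v * z * ⁅t, y⁆ = v * ⁅t, y⁆ * z := fun v => by rw [mul_assoc, ← h.cen _ (h.cm_mem hz hy), mul_assoc]
    have c2 : ∀ v, v * z * z = v := fun v => by rw [mul_assoc, h.sq, mul_one]
    refine ⟨x * y, mul_mem hx hy, ?_⟩
    rcases e with rfl | rfl <;> rcases e' with rfl | rfl <;> rcases hm x hx y hy with e | e <;>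
      simp [← mul_assoc, c1, e, c2]
  let A : Subgroup G :=
    { carrier := {a | ∃ x ∈ Q, a = ⁅t, x⁆ ∨ a = ⁅t, x⁆ * z}
      one_mem' := ⟨1, one_mem Q, Or.inl (by simp)⟩
      mul_mem' := hS
      inv_mem' := fun {a} ha => by
        obtain ⟨k, hk⟩ : ∃ k : ℕ, a⁻¹ = a ^ (k + 1) := ⟨2 * orderOf a - 2, inv_eq_of_mul_eq_one_right (by
          have := orderOf_pos a
          rw [← pow_succ', show 2 * orderOf a - 2 + 1 + 1 = orderOf a * 2 by omega, pow_mul, pow_orderOf_eq_one, one_pow])⟩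
        rw [hk]; clear hk
        induction k with
        | zero => simpa using ha
        | succ k ih => rw [pow_succ]; exact hS ih ha }
  by_contra hn
  obtain ⟨g, hg, h1, h2⟩ := h.toES.exists_sep (A := A) (by
    rintro _ ⟨x, hx, rfl | rfl⟩
    exacts [h.cm_mem hz hx, mul_mem (h.cm_mem hz hx) h.mem]) ⟨1, one_mem Q, Or.inr (by simp)⟩ ha hn
  refine h2 (hc g hg (h.of_cen _ (h.cm_mem hz hg) fun y hy => ?_)).symm
  refine (h.dual hz hg hy).2 ?_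
  rw [inv_eq_of_mul_eq_one_left ht]
  exact h1 _ ⟨y, hy, Or.inl rfl⟩

theorem perp0 (ht : t * t = 1) (hz : Commute t z) (ha : a ∈ Q) (hy : y ∈ Q) (hy' : ⁅t, y⁆ = z)
    (hc : ∀ w ∈ Q, Commute t w → Commute a w) (hay : Commute a y) : ∃ x ∈ Q, a = ⁅t, x⁆ := by
  obtain ⟨x, hx, e | e⟩ := h.perp ht hz ha fun y' hy1 e => e.elim (fun e => hc _ hy1 (cm_one.1 e)) fun e =>
    ((h.cmul ha hy hy1).1 (hc _ (mul_mem hy hy1) (cm_one.1 (by rw [h.cm_mul_z hy e, hy', h.sq])))).1 hay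
  exacts [⟨x, hx, e⟩, ⟨x * y, mul_mem hx hy, by rw [h.cm_mul_z hx hy', e]⟩]

section
variable (ht : t * t = 1) (hz : Commute t z) (hab : ∀ a ∈ Q, ∀ b ∈ Q, Commute t a → Commute t b → Commute a b)
  (hw : w ∈ Q) (hwt : Commute t w) (hww : w * w = z)
include ht hz hab hw hwt hww

theorem ab1 : ∃ y ∈ Q, ⁅t, y⁆ = z ∧ ¬ Commute w y := by
  by_contra! hn
  obtain ⟨x, hx, e⟩ := h.perp ht hz hw fun y hy e => e.elim (fun e => hab w hw y hy hwt (cm_one.1 e)) (hn y hy)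
  have h1 := h.cm_cm ht hx hz
  rcases e with rfl | rfl
  · exact h.ne (by rw [← hww, ← h1, cm_one.2 hwt])
  · rw [← h.cm_z hz, cm_one.2 hwt] at h1
    rw [mul_assoc, ← mul_assoc z, ← h.cen _ (h.cm_mem hz hx), mul_assoc, h.sq, mul_one, ← h1] at hww
    exact h.ne hww.symm

theorem ab2 (hx : x ∈ Q) (hc : ∀ b ∈ Q, Commute t b → Commute x b) : Commute t x := by
  obtain ⟨y, hy, h1, h2⟩ := h.ab1 ht hz hab hw hwt hww
  have key : ∀ x ∈ Q, (∀ b ∈ Q, Commute t b → Commute x b) → Commute x y → Commute t x := fun x hx hc h3 => by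
    obtain ⟨e, he, rfl⟩ := h.perp0 ht hz hx hy h1 hc h3
    refine cm_one.1 ((h.sq_mem _ hx).elim (h.cm_cm ht he hz).trans fun h4 => (h2 ?_).elim)
    exact ((h.cmul hw hx hy).1 (hab w hw _ (mul_mem hx hy) hwt (cm_one.1 (by
      rw [h.cm_mul_z hx h1, h.cm_cm ht he hz, h4, h.sq])))).1 (hc w hw hwt).symm
  by_cases h3 : Commute x y
  · exact key x hx hc h3
  · simpa using (key _ (mul_mem hx hw) (fun b hb hb' => (hc b hb hb').mul_left (hab w hw b hb hwt hb'))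
      ((h.cmul hy hx hw).2 (iff_of_false (fun e => h3 e.symm) fun e => h2 e.symm)).symm).mul_right hwt.inv_right

theorem ab3 (ha : a ∈ Q) (hat : Commute t a) (haa : a * a = 1) : ∃ x ∈ Q, a = ⁅t, x⁆ := by
  obtain ⟨y, hy, h1, h2⟩ := h.ab1 ht hz hab hw hwt hww
  refine h.perp0 ht hz ha hy h1 (fun b hb hb' => hab a ha b hb hat hb') (by_contra fun h3 => ?_)
  obtain ⟨x, hx, e⟩ := h.perp0 ht hz (mul_mem ha hw) hy h1 (fun b hb hb' => hab _ (mul_mem ha hw) b hb (hat.mul_right hwt) hb')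
    ((h.cmul hy ha hw).2 (iff_of_false (fun e => h3 e.symm) fun e => h2 e.symm)).symm
  have h4 := h.cm_cm ht hx hz
  rw [← e, cm_one.2 (hat.mul_right hwt), (hab a ha w hw hat hwt).symm.mul_mul_mul_comm, haa, hww, one_mul] at h4
  exact h.ne h4.symm

theorem ab4 (hu : Commute u z) (huu : u * u = t) (hc : ∀ b ∈ Q, Commute t b → Commute u b) : t ∈ Q := by
  refine h.mem_of_inner hz fun x hx => ?_
  have h1 := h.cm_mem hu hx
  have h2 := hc _ h1 (h.ab2 ht hz hab hw hwt hww h1 fun b hb hb' => by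
    rw [h.dual hu hx hb, cm_one.2 (hc b hb hb').inv_left]; exact Commute.one_right x)
  have h3 : t * x * t⁻¹ = ⁅u, x⁆ * ⁅u, x⁆ * x := by
    have : t * x * t⁻¹ = u * ⁅u, x⁆ * u⁻¹ * ⁅u, x⁆ * x := by rw [← huu]; simp only [commutatorElement_def]; group
    rw [this, conj_eq_of_comm h2]
  rcases h.sq_mem _ h1 with e | e <;> rw [h3, e]
  exacts [Or.inl (one_mul x), Or.inr (h.cen x hx).symm]

end

omit h in
theorem card_le_of (ht : t * t = 1) {S : Set G} (hS : ∀ x ∈ Q, ⁅t, x⁆ ∈ S) :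
    Nat.card Q ≤ S.ncard * Nat.card ↥(Q ⊓ centralizer {t}) := by
  classical
  obtain ⟨r, hr⟩ : ∃ r : G → G, ∀ x ∈ Q, r ⁅t, x⁆ ∈ Q ∧ ⁅t, r ⁅t, x⁆⁆ = ⁅t, x⁆ :=
    ⟨fun b => if h : ∃ x ∈ Q, ⁅t, x⁆ = b then h.choose else 1, fun x hx => by
      have h1 : ∃ x' ∈ Q, ⁅t, x'⁆ = ⁅t, x⁆ := ⟨x, hx, rfl⟩
      simpa only [dif_pos h1] using h1.choose_spec⟩
  refine le_trans (Set.ncard_le_ncard (t := r '' S * ((Q ⊓ centralizer {t} : Subgroup G) : Set G)) fun x hx => ?_)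
    (Set.natCard_mul_le.trans (Nat.mul_le_mul_right _ (Set.ncard_image_le (s := S))))
  obtain ⟨h1, h2⟩ := hr x hx
  refine ⟨_, ⟨_, hS x hx, rfl⟩, (r ⁅t, x⁆)⁻¹ * x, Subgroup.mem_inf.2 ⟨mul_mem (inv_mem h1) hx,
    mem_cent_single.2 (comm_of_conj_eq ?_)⟩, mul_inv_cancel_left _ _⟩
  generalize r ⁅t, x⁆ = y at *
  calc _ = y⁻¹ * (x * t * x⁻¹) * y := by group
    _ = _ := by rw [cm_conj ht, ← h2, ← cm_conj ht]; group

theorem card_mul_cent {Y : Subgroup G} (hY : Y ≤ Q) (hz : z ∈ Y) : Nat.card Y * Nat.card ↥(Q ⊓ 𝐂 Y) ≤ 2 * Nat.card Q := by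
  haveI := Invol.fact_two
  obtain ⟨A, h0, ⟨h1, h2⟩, hm⟩ := Finite.exists_le_maximal
    (p := fun A : Subgroup G => A ≤ Y ∧ Nat.card A * Nat.card ↥(Q ⊓ 𝐂 A) ≤ 2 * Nat.card Q) (a := zpowers z)
    ⟨zpowers_le.2 hz, by rw [card_zpowers_invol h.sq h.ne]; exact Nat.mul_le_mul_left _ (card_le_of_le inf_le_left)⟩
  rcases h1.eq_or_lt with rfl | e
  · exact h2
  have hn : ∀ B : Subgroup G, B ≤ Q → z ∈ B → Q ≤ 𝐍 B := fun B hB hz g hg => mem_normalizer_fintype fun x hx => by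
    rcases h.toES.conj_eq hg (hB hx) with e | e <;> rw [e]
    exacts [hx, mul_mem hx hz]
  have hzA := h0 (mem_zpowers z)
  obtain ⟨L, h3, h4, -, h5, -⟩ := PGrp.exists_card_eq_mul_of_normalizes h.toES.isPGroup e hY (hn A (h1.trans hY) hzA) (hn Y hY hz)
  have h6 : ¬ L ≤ A := fun e => by have := card_le_of_le e; have := Nat.card_pos (α := A); omega
  obtain ⟨x, hx, hx'⟩ := SetLike.not_le_iff_exists.1 h6
  obtain ⟨g, hg, h7, h8⟩ := h.toES.exists_sep (h1.trans hY) hzA (hY (h4 hx)) hx'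
  have h9 := KS9.mul_card_le_of_lt h.toES.isPGroup.to_inf_left (lt_of_le_of_ne
    (inf_le_inf_left Q (Core.centralizer_anti h3)) fun e =>
      h8 (mem_centralizer_comm.1 (e.ge ⟨hg, mem_centralizer_comm.2 fun a ha => (h7 a ha).symm⟩).2 x hx).symm)
  exact absurd (hm ⟨h4, by rw [h5]; nlinarith⟩ h3) h6

end LS
end Cfsg.Lib.Known2
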