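import Cfsg.Agent.Lib.Push.LXc
import Cfsg.Agent.Lib.Invol.Sylow2

/-! Large extraspecial subgroups: the Sylow 2-subgroup of `H / H'` is elementary abelian. -/

set_option autoImplicit false

namespace Cfsg.Lib.Known2

open Subgroup Cfsg.Lib.Amalg
open scoped commutatorElement

variable {G : Type*} [Group G] [Finite G] {X : Set G} {E K : G → Subgroup G} {s t f : G} {D : Subgroup G}

theorem Mx.sq (F : Fam X E K) (m : Mx X K s t D)
    (hP : ∀ t ∈ X, ∀ u ∈ centralizer {t}, u ∉ K t → u * u ∉ ⁅centralizer ({t} : Set G), centralizer ({t} : Set G)⁆) :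
    (∃ u ∈ E t, Commute s u ∧ u * u = t) ∧ (∀ a ∈ E t, ∀ b ∈ E t, Commute s a → Commute s b → Commute a b) ∧ s ∉ E t := by
  obtain ⟨u, hu, h1, h2⟩ := m.exists_u F
  have h := F.ls t m.ht
  have h3 := hP s m.hs u (mem_cent_single.2 h1) h2
  have h4 := (h.sq_mem u hu).resolve_left fun e => h3 (e ▸ one_mem _)
  have h5 : ∀ a ∈ E t, ∀ b ∈ E t, Commute s a → Commute s b → Commute a b := fun a ha b hb h6 h7 => by_contra fun h8 => h3 (by
    have := commutator_mem_commutator (mem_cent_single.2 h6.symm.eq) (mem_cent_single.2 h7.symm.eq)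
    rwa [commutatorElement_def, h.toES.conj_anti ha hb h8, h.cen b hb, mul_inv_cancel_right, ← h4] at this)
  refine ⟨⟨u, hu, h1.symm, h4⟩, h5, fun hs => h.ne ?_⟩
  have h6 := (F.ls s m.hs).sq
  rcases h.toES.double_perp hs hu fun y hy e => h5 u hu y hy h1.symm e with (e | e) | (e | e) <;> rw [← h4, e]
  exacts [mul_one 1, h.sq, h6, by rw [(show Commute t s from (h.cen s hs).symm).mul_mul_mul_comm, h6, h.sq, mul_one]]

theorem Fam.not_sq (F : Fam X E K) (one : ∀ t ∈ X, ∀ t' ∈ X, ∃ g, g * t * g⁻¹ = t') (hG : ∀ K : Subgroup G, K.index ≠ 2)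
    (hs : s ∈ X)
    (hP : ∀ t ∈ X, ∀ u ∈ centralizer {t}, u ∉ K t → u * u ∉ ⁅centralizer ({t} : Set G), centralizer ({t} : Set G)⁆) : False := by
  haveI := Invol.fact_two
  obtain ⟨t, D, m⟩ := F.exists_mx one hG hs
  obtain ⟨⟨u, hu, u1, u2⟩, hab, hsE⟩ := m.sq F hP
  obtain ⟨⟨w, hw, w1, w2⟩, hab', htE⟩ := m.symm.sq F hP
  have h := F.ls s hs
  have h' := F.ls t m.ht
  have hts : Commute t s := m.comm F
  by_cases h0 : E s ⊓ E t = ⊥
  · refine htE (h.ab4 h'.sq hts hab' hw w1 w2 u1.symm u2 fun b hb hb' => cm_one.1 (mem_bot.1 (h0.le (Subgroup.mem_inf.2 ⟨h.cm_mem u1.symm hb, ?_⟩))))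
    rw [← inv_mem_iff, commutatorElement_inv]
    exact h'.cm_mem hb'.symm hu
  obtain ⟨⟨δ, ⟨h1, h2⟩, h3⟩, h4⟩ := ne_bot_iff_exists_ne_one.1 (Core.inf_centralizer_ne_bot_of_isPGroup h.toES.isPGroup.to_inf_left
    m.two (Core.le_normalizer_inf (m.cs.trans h.cent_le_norm) (m.ct.trans h'.cent_le_norm)) h0)
  have h5 : δ * δ = 1 := (h.sq_mem δ h1).resolve_right fun e => hsE (e ▸ mul_mem h2 h2)
  obtain ⟨f, hf, h6⟩ := h'.ab3 h.sq hts.symm hab hu u1 u2 h2 (h.cen δ h1).symm h5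
  have h7 : f * s * f⁻¹ = s * δ := by rw [h6, cm_conj h.sq]
  have m' := m.key' F hf (inv_mem_iff.1 (mem_normalizer_fintype fun d hd => ?_)) fun e => h4 (Subtype.ext (by
    simpa [mem_cent_single.1 (m.cs e)] using h7.symm))
  · rcases h.cent_P h1 h5 (r := t) fun p hp e => (mem_cent_single.1 (m.ct (m'.le F hp (by
      rw [h7]; exact Commute.mul_right (h.cen p hp) e.symm)))).symm with (e | e) | (e | e) <;> refine htE ?_ <;> rw [e]
    exacts [one_mem _, h.mem, h1, mul_mem h1 h.mem]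
  · have h8 := h'.norm _ (mem_cent_single.1 (m.ct (inv_mem hd))) _ (inv_mem hf)
    have h9 : Commute s d := (mem_cent_single.1 (m.cs hd)).symm
    simpa [mul_assoc] using mul_mem hd (m.symm.le F (mul_mem h8 hf) (comm_of_conj_eq (by
      calc _ = d⁻¹ * f⁻¹ * (d * (f * s * f⁻¹) * d⁻¹) * f * d := by group
        _ = _ := by
          rw [h7, conj_eq_of_comm (h9.mul_left (mem_centralizer_comm.1 h3 d hd).symm).symm.eq, ← h7,
            show d⁻¹ * f⁻¹ * (f * s * f⁻¹) * f * d = d⁻¹ * (s * d) by group, h9.eq, inv_mul_cancel_left])))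

end Cfsg.Lib.Known2
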