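import Cfsg.Agent.Lib.Coprime.Action
import Cfsg.Agent.Lib.Amalg.Ops

/-! Representations over `ZMod p` as elementary abelian normal subgroups of an ambient group. -/

set_option autoImplicit false

namespace Cfsg.Lib.Push
open Subgroup Cfsg.Lib.Amalg Cfsg.Lib.Coprime

variable {G V : Type*} [Group G] [AddCommGroup V] {p : ℕ} [Module (ZMod p) V]

/-- the action on `Multiplicative V` given by a representation -/
def repAut (ρ : Representation (ZMod p) G V) : G →* MulAut (Multiplicative V) where
  toFun g :=
    { toFun := fun v => .ofAdd (ρ g v.toAdd)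
      invFun := fun v => .ofAdd (ρ g⁻¹ v.toAdd)
      left_inv := fun v => by simp
      right_inv := fun v => by simp
      map_mul' := fun v w => by simp }
  map_one' := by ext v; simp
  map_mul' g h := by ext v; simp

theorem repAut_eq_iff (ρ : Representation (ZMod p) G V) (g : G) (v : Multiplicative V) :
    repAut ρ g v = v ↔ ρ g v.toAdd = v.toAdd := Multiplicative.ofAdd.apply_eq_iff_eq_symm_apply

variable {Γ : Type*} [Group Γ] {ρ : Representation (ZMod p) G V} {i : Multiplicative V →* Γ} {j : G →* Γ}

theorem rep_elemAb (i : Multiplicative V →* Γ) : IsElementaryAbelian p ((⊤ : Subgroup (Multiplicative V)).map i) :=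
  elemAb_map ⟨inferInstance, fun v _ => by
    rw [← ofAdd_toAdd v, ← ofAdd_nsmul, ← Nat.cast_smul_eq_nsmul (ZMod p), CharP.cast_eq_zero, zero_smul,
      ofAdd_zero]⟩ i

theorem rep_card_fix (h : IsAmbient (repAut ρ) i j) (B : Subgroup G) :
    Nat.card ((⊤ : Subgroup (Multiplicative V)).map i ⊓ 𝐂 (B.map j) : Subgroup Γ) =
      Nat.card {v : V // ∀ b ∈ B, ρ b v = v} := by
  rw [← h.map_actFix, h.card_map_i]
  exact Nat.card_congr (Multiplicative.toAdd.subtypeEquiv fun v => forall₂_congr fun b _ => repAut_eq_iff ρ b v)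

theorem rep_faithful (h : IsAmbient (repAut ρ) i j) (hρ : Function.Injective ρ) {g : G}
    (hg : j g ∈ 𝐂 ((⊤ : Subgroup (Multiplicative V)).map i)) : g = 1 :=
  hρ (by
    ext v
    simpa using (repAut_eq_iff ρ g (.ofAdd v)).1 ((h.mul_comm_iff g _).1 (hg _ (mem_map_of_mem i trivial)).symm))

end Cfsg.Lib.Push
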