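import Cfsg.Agent.Lib.Push.MBF
import Cfsg.Agent.Lib.Push.RepAmb
import Cfsg.Agent.Lib.BS.Bro
import Cfsg.Agent.Lib.Coprime.Sylow

/-! Faithful `𝔽₂`-modules for groups with a strongly embedded subgroup. -/

set_option autoImplicit false
set_option linter.unusedSectionVars false

namespace Cfsg.Lib.Push.MB

open Subgroup Cfsg.Lib.Core Module Cfsg.Lib.Coprime Cfsg.Lib.Invol

variable {G : Type*} [Group G] [Finite G] {V : Type*} [AddCommGroup V]

section
variable {p : ℕ} [hp : Fact p.Prime] [Module (ZMod p) V] [Module.Finite (ZMod p) V]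
  {ρ : Representation (ZMod p) G V}

theorem Bd.rep (hρ : Function.Injective ρ) {s : G} {n a m : ℕ} (hb : Bd p (s ^ n) a m) :
    a ≤ finrank (ZMod p) (LinearMap.range (ρ s - 1)) ∧ m ≤ finrank (ZMod p) V := by
  haveI : Finite V := Module.finite_of_finite (ZMod p)
  obtain ⟨Γ, _, _, i, j, h, -, -⟩ := Coprime.exists_ambient (repAut ρ)
  obtain ⟨h1, h2⟩ := (hb.map_inj (MonoidHom.ofInjective h.inj_j).toMonoidHom
    (MonoidHom.ofInjective h.inj_j).injective).bound (rep_elemAb i)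
    (MonoidHom.range_eq_map j ▸ h.le_normalizer_top ⊤) (eq_bot_iff.2 (by
      rintro _ ⟨⟨g, rfl⟩, hg⟩
      rw [rep_faithful h hρ hg, map_one]; exact one_mem _))
  have hV : Nat.card ((⊤ : Subgroup (Multiplicative V)).map i) = p ^ finrank (ZMod p) V := by
    rw [h.card_map_i, card_top, Nat.card_congr Multiplicative.toAdd, Module.natCard_eq_pow_finrank (K := ZMod p),
      Nat.card_zmod]
  have h3 : ci ((⊤ : Subgroup (Multiplicative V)).map i) (j s) =
      p ^ finrank (ZMod p) (LinearMap.range (ρ s - 1)) := by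
    have e1 := card_mul_relIndex (inf_le_left : (⊤ : Subgroup (Multiplicative V)).map i ⊓ centralizer {j s} ≤ _)
    have e2 : Nat.card ((⊤ : Subgroup (Multiplicative V)).map i ⊓ centralizer {j s} : Subgroup Γ) =
        p ^ finrank (ZMod p) (LinearMap.ker (ρ s - 1)) := by
      have := rep_card_fix h (zpowers s)
      rw [MonoidHom.map_zpowers, zpowers_eq_closure, centralizer_closure] at this
      have e3 := Module.natCard_eq_pow_finrank (K := ZMod p) (V := LinearMap.ker (ρ s - 1))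
      rw [Nat.card_zmod] at e3
      rw [this, ← e3]
      refine Nat.card_congr (Equiv.subtypeEquivRight fun v => ?_)
      rw [LinearMap.mem_ker, LinearMap.sub_apply, sub_eq_zero]
      refine ⟨fun H => H s (mem_zpowers s), fun H b hb => ?_⟩
      exact (repAut_eq_iff ρ b (.ofAdd v)).1 ((mem_actFix_zpowers.2 ((repAut_eq_iff ρ s (.ofAdd v)).2 H)) b hb)
    rw [e2, hV, ← (ρ s - 1).finrank_range_add_finrank_ker, pow_add, mul_comm] at e1
    exact Nat.eq_of_mul_eq_mul_right (pow_pos hp.out.pos _) e1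
  rw [hV] at h2
  refine ⟨(Nat.pow_le_pow_iff_right hp.out.one_lt).1 (h3 ▸ h1.trans ?_),
    (Nat.pow_le_pow_iff_right hp.out.one_lt).1 h2⟩
  change ci _ (j (s ^ n)) ≤ _
  rw [map_pow]; exact ci_pow n

theorem card_dvd_GL (hρ : Function.Injective ρ) : Nat.card G ∣
    ∏ i ∈ Finset.range (finrank (ZMod p) V), (p ^ finrank (ZMod p) V - p ^ i) := by
  have h1 := Matrix.card_GL_field (𝔽 := ZMod p) (finrank (ZMod p) V)
  rw [ZMod.card, Fin.prod_univ_eq_prod_range (fun i => p ^ finrank (ZMod p) V - p ^ i)] at h1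
  rw [← h1, Nat.card_congr (Matrix.GeneralLinearGroup.toLin' (Module.finBasis (ZMod p) V)).toEquiv]
  haveI : Finite V := Module.finite_of_finite (ZMod p)
  exact card_dvd_of_injective (MonoidHom.toHomUnits ρ) fun a b e => hρ (congrArg Units.val e)

/-- A Frobenius complement which is a `p`-group has a regular orbit basis. -/
theorem card_le_finrank (hρ : Function.Injective ρ) {R S : Subgroup G} (hS : IsPGroup p S) (hf : Fpf R S)
    (hn : S ≤ normalizer (R : Set G)) (hR : R ≠ ⊥) (hS0 : S ≠ ⊥) : Nat.card S ≤ finrank (ZMod p) V := by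
  classical
  haveI : Finite V := Module.finite_of_finite (ZMod p)
  haveI := Fintype.ofFinite S
  haveI := Fintype.ofFinite R
  have hN : ∑ s : S, ρ s ≠ 0 := fun h0 => by
    have h1 : ∑ s : S, ∑ x : R, ρ (x * s * (x : G)⁻¹) = 0 := by
      rw [Finset.sum_comm]
      refine Finset.sum_eq_zero fun x _ => ?_
      simp only [map_mul]
      rw [← Finset.sum_mul, ← Finset.mul_sum, h0, mul_zero, zero_mul]
    have h2 : ∀ s : S, s ≠ 1 → ∑ x : R, ρ (x * s * (x : G)⁻¹) = (∑ x : R, ρ x) * ρ s := fun s hs => by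
      rw [Finset.sum_mul, ← (commMap_bijective (hn s.2) (hf s s.2 (by simpa using hs))).sum_comp
        (fun x : R => ρ x * ρ s)]
      refine Finset.sum_congr rfl fun x _ => ?_
      rw [← map_mul]; congr 1
      simp [commMap]
    rw [← Finset.add_sum_erase _ _ (Finset.mem_univ 1)] at h0 h1
    rw [Finset.sum_congr rfl fun s hs => h2 s (Finset.ne_of_mem_erase hs), ← Finset.mul_sum,
      ← neg_eq_of_add_eq_zero_right h0] at h1
    simp [add_neg_eq_zero] at h1
    have h3 : ((Fintype.card R : ℕ) : ZMod p) ≠ 0 := by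
      rw [Ne, ZMod.natCast_eq_zero_iff, ← Nat.card_eq_fintype_card]
      obtain ⟨k, hk⟩ := IsPGroup.iff_card.1 hS
      have hk0 : k ≠ 0 := by rintro rfl; exact hS0 (card_eq_one.1 (by simpa using hk))
      exact fun e => hp.out.one_lt.ne' (Nat.eq_one_of_dvd_coprimes (hf.coprime hn) (hk ▸ dvd_pow_self _ hk0) e)
    refine hR (eq_bot_iff.2 fun k hk => hρ ?_)
    have h4 : ρ k * ∑ x : R, ρ x = ∑ x : R, ρ x := by
      rw [Finset.mul_sum, ← Equiv.sum_comp (Equiv.mulLeft (⟨k, hk⟩ : R)) (fun x : R => ρ x)]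
      simp
    rw [← h1, ← Nat.cast_comm, ← nsmul_eq_mul, ← Nat.smul_one_eq_cast, ← Nat.cast_smul_eq_nsmul (ZMod p),
      ← Nat.cast_smul_eq_nsmul (ZMod p)] at h4
    rw [map_one]; exact smul_right_injective _ h3 h4
  obtain ⟨v, hv⟩ : ∃ v, (∑ s : S, ρ s) v ≠ 0 := by
    by_contra! H; exact hN (LinearMap.ext H)
  let φ : (S → ZMod p) →ₗ[ZMod p] V := Fintype.linearCombination (ZMod p) fun s : S => ρ s v
  have hφ : ∀ f, φ f = ∑ s : S, f s • ρ s v := fun f => Fintype.linearCombination_apply _ _ _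
  have hinj : Function.Injective φ := by
    rw [← LinearMap.ker_eq_bot]
    by_contra h0
    letI : MulAction S (LinearMap.ker φ) :=
      { smul := fun t f => ⟨fun s => f.1 (t⁻¹ * s), by
          have := congrArg (ρ t) (LinearMap.mem_ker.1 f.2)
          rw [hφ, map_sum, map_zero] at this
          rw [LinearMap.mem_ker, hφ, ← this, ← Equiv.sum_comp (Equiv.mulLeft t)]
          simp⟩
        one_smul := fun f => Subtype.ext (funext fun s => congrArg f.1 (by simp))
        mul_smul := fun a b f => Subtype.ext (funext fun s => congrArg f.1 (by simp [mul_assoc])) }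
    obtain ⟨f, hf1, hf2⟩ := hS.exists_fixed_point_of_prime_dvd_card_of_fixed_point (LinearMap.ker φ) (by
      rw [Module.natCard_eq_pow_finrank (K := ZMod p), Nat.card_zmod]
      exact dvd_pow_self _ fun e => h0 (Submodule.finrank_eq_zero.1 e)) (a := 0) fun _ => rfl
    have h3 : ∀ s, f.1 s = f.1 1 := fun s => by
      have := congrFun (congrArg Subtype.val (hf1 s)) s
      exact this.symm.trans (congrArg f.1 (inv_mul_cancel s))
    have h4 := LinearMap.mem_ker.1 f.2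
    rw [hφ, Finset.sum_congr rfl fun s _ => by rw [h3 s], ← Finset.smul_sum, ← LinearMap.sum_apply,
      smul_eq_zero] at h4
    exact hf2 (Subtype.ext (funext fun s => ((h3 s).trans (h4.resolve_right hv)).symm))
  simpa using LinearMap.finrank_le_finrank_of_injective hinj

end

variable [Module (ZMod 2) V] [Module.Finite (ZMod 2) V] {ρ : Representation (ZMod 2) G V}

theorem pow_eq_one_of_finrank (hρ : Function.Injective ρ) {g : G} {i j : ℕ} (hg : g ^ 2 ^ j = 1)
    (hi : finrank (ZMod 2) V ≤ 2 ^ i) : g ^ 2 ^ i = 1 := by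
  have h2 : ∀ x : Module.End (ZMod 2) V, x + x = 0 := fun x => by
    rw [← two_smul (ZMod 2), show (2 : ZMod 2) = 0 from rfl, zero_smul]
  have key : ∀ n : ℕ, (ρ g - 1) ^ 2 ^ n = ρ (g ^ 2 ^ n) - 1 := fun n => by
    induction n with
    | zero => simp
    | succ n ih =>
      rw [pow_succ, pow_mul, ih, pow_mul, map_pow _ _ 2]
      calc _ = ρ (g ^ 2 ^ n) ^ 2 - 1 - (ρ (g ^ 2 ^ n) + ρ (g ^ 2 ^ n)) + (1 + 1) := by noncomm_ring
        _ = _ := by rw [h2, h2]; simp
  have hn : IsNilpotent (ρ g - 1) := ⟨2 ^ j, by rw [key, hg, map_one, sub_self]⟩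
  have h3 := LinearMap.aeval_self_charpoly (ρ g - 1)
  rw [hn.charpoly_eq_X_pow_finrank, map_pow, Polynomial.aeval_X] at h3
  have h4 := pow_eq_zero_of_le hi h3
  rw [key, sub_eq_zero] at h4
  exact hρ (h4.trans (map_one ρ).symm)

theorem arith {k d r a : ℕ} (hr : r.Prime) (h2 : r ≠ 2) (ha : 0 < a) (hk : k < 6) (hd : d < 2 * k)
    (h1 : 2 ^ k ∣ r ^ a - 1) : ¬ r ^ (a + 1) ∣ ∏ i ∈ Finset.range d, (2 ^ d - 2 ^ i) := fun h => by
  have h3 : ∀ d < 10, ∏ i ∈ Finset.range d, (2 ^ d - 2 ^ i) ∣ 2 ^ 36 * 3 ^ 5 * 5 ^ 2 * 7 ^ 3 * 17 * 31 * 73 * 127 := by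
    decide +kernel
  have h4 := h.trans (h3 d (by omega))
  have h5 : r ∈ [3, 5, 7, 17, 31, 73, 127] := by
    have := (dvd_pow_self r (Nat.succ_ne_zero a)).trans h4
    simp only [Nat.Prime.dvd_mul hr] at this
    have k1 : ∀ {q n : ℕ}, q.Prime → r ∣ q ^ n → r = q := fun hq e =>
      (Nat.prime_dvd_prime_iff_eq hr hq).1 (hr.dvd_of_dvd_pow e)
    have k2 : ∀ {q : ℕ}, q.Prime → r ∣ q → r = q := fun hq e => (Nat.prime_dvd_prime_iff_eq hr hq).1 e
    rcases this with ((((((e | e) | e) | e) | e) | e) | e) | e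
    · exact absurd (k1 Nat.prime_two e) h2
    iterate 3 simp [k1 (by norm_num) e]
    all_goals simp [k2 (by norm_num) e]
  have h8 : a < 5 := by
    by_contra h9
    have h10 : ∀ r ∈ [3, 5, 7, 17, 31, 73, 127], ¬ r ^ 6 ∣ 2 ^ 36 * 3 ^ 5 * 5 ^ 2 * 7 ^ 3 * 17 * 31 * 73 * 127 := by
      decide +kernel
    exact h10 r h5 ((pow_dvd_pow r (by omega)).trans h4)
  have h11 : ∀ r ∈ [3, 5, 7, 17, 31, 73, 127], ∀ a < 5, ∀ k < 6, ∀ d < 2 * k, 0 < a → 2 ^ k ∣ r ^ a - 1 →
    ¬ r ^ (a + 1) ∣ ∏ i ∈ Finset.range d, (2 ^ d - 2 ^ i) := by decide +kernel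
  exact h11 r h5 a h8 k hk d hd ha h1 h

theorem rank_one (hρ : Function.Injective ρ) {H : Subgroup G} (hH : IsStronglyEmbedded H) (hU : Block.UniqInv G)
    (hO : ∀ t : G, orderOf t = 2 → pPrimeCore 2 G ⊔ centralizer {t} = ⊤) (S : Sylow 2 G) {k : ℕ}
    (hk : Nat.card S = 2 ^ k) : 2 * k ≤ finrank (ZMod 2) V := by
  by_contra! hd
  have hS0 : (S : Subgroup G) ≠ ⊥ := fun e => by
    rw [e, card_bot, eq_comm, Nat.pow_eq_one] at hk; omega
  have hk6 : k < 6 := by
    by_contra! h6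
    obtain ⟨g, hg⟩ : ∃ g : S, 2 ^ (k - 1) ∣ orderOf g := by
      rcases BS.cyc_or_quat hU S.isPGroup' with h | ⟨m, -, ⟨e⟩⟩
      · obtain ⟨g, hg⟩ := IsCyclic.exists_ofOrder_eq_natCard (α := S)
        exact ⟨g, by rw [hg, hk]; exact pow_dvd_pow _ (by omega)⟩
      · refine ⟨e.symm (QuaternionGroup.a 1), ?_⟩
        rw [MulEquiv.orderOf_eq, QuaternionGroup.orderOf_a_one, ← pow_succ']
        rw [Nat.card_congr e.toEquiv, Nat.card_eq_fintype_card, QuaternionGroup.card,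
          show 4 * 2 ^ m = 2 ^ (m + 2) by ring] at hk
        rw [← Nat.pow_right_injective le_rfl hk]; simp
    obtain ⟨j, hj⟩ := S.2 g
    have h3 := pow_eq_one_of_finrank hρ (g := g) (i := k - 2) (congrArg Subtype.val hj) (by
      obtain ⟨n, rfl⟩ := Nat.exists_eq_add_of_le' h6
      have := Nat.lt_two_pow_self (n := n)
      rw [show n + 6 - 2 = n + 4 by omega, pow_add]; omega)
    have := (Nat.pow_dvd_pow_iff_le_right one_lt_two).1
      (hg.trans (orderOf_dvd_of_pow_eq_one (Subtype.ext h3 : g ^ 2 ^ (k - 2) = 1)))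
    omega
  obtain ⟨⟨s, hs⟩, hs1⟩ := ne_bot_iff_exists_ne_one.1 hS0
  obtain ⟨j, h1, h2⟩ := exists_inv_pow S.2 hs (by simpa using hs1)
  have hz : orderOf (s ^ j) = 2 := orderOf_eq_prime (by rwa [sq]) h1
  have hzS := S.1.pow_mem hs j
  generalize s ^ j = z at hz hzS
  have hc : ∀ c ∈ (S : Subgroup G), c * z * c⁻¹ = z := fun c hc =>
    hU.eq_of_mem S.2 (mul_mem (mul_mem hc hzS) (inv_mem hc)) hzS ((orderOf_conj c z).trans hz) hz
  have hm : ∀ c ∈ (S : Subgroup G), c ≠ 1 → z ∈ zpowers c := fun c h h1 => by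
    obtain ⟨j, h1, h2⟩ := exists_inv_pow S.2 h h1
    rw [← hU.eq_of_mem S.2 (pow_mem h j) hzS (orderOf_eq_prime (by rwa [sq]) h1) hz]
    exact pow_mem (mem_zpowers c) j
  have h3 : ¬ pPrimeCore 2 G ≤ centralizer {z} := fun e => by
    have h4 := hO z hz
    rw [sup_eq_right.2 e] at h4
    obtain ⟨t, ht, ht2⟩ := se_exists_two hH
    have h5 : ∀ g, Commute g z := fun g => mem_centralizer_singleton_iff.1 (h4 ▸ mem_top g)
    obtain rfl := hU t z ht2 hz (h5 t)
    exact hH.1 (eq_top_iff.2 fun g _ => se_mem_of_commute hH ht2 ht (h5 g))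
  obtain ⟨r, hr, hrd, R, hR, hn, hRz⟩ : ∃ (r : ℕ) (_ : Fact r.Prime), r ∣ Nat.card (pPrimeCore 2 G) ∧
      ∃ R, Transfer.SylowIn r R (pPrimeCore 2 G) ∧ (S : Subgroup G) ≤ normalizer (R : Set G) ∧
        ¬ R ≤ centralizer {z} := by
    by_contra! H
    refine h3 (le_of_forall_sylowIn fun q _ hq => ?_)
    obtain ⟨P, h5, h6⟩ := exists_invariant_sylowIn (A := S) (K := pPrimeCore 2 G) (le_normalizer_of_normal)
      (by rw [hk]; exact (coprime_card_pPrimeCore 2 G).symm.pow_left _)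
      (Or.inl (haveI := S.2.isNilpotent; inferInstance)) q
    exact ⟨P, h5, H q inferInstance hq P h5 h6⟩
  have hr2 : r ≠ 2 := fun e => not_dvd_card_pPrimeCore Nat.prime_two (e ▸ hrd)
  letI : MulAction R G := MulAction.compHom G ((MulAut.conj (G := G)).comp R.subtype)
  have hst : MulAction.stabilizer R z = (centralizer {z}).subgroupOf R := by
    ext x; rw [MulAction.mem_stabilizer_iff, mem_subgroupOf, mem_centralizer_singleton_iff]
    exact mul_inv_eq_iff_eq_mul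
  obtain ⟨a, ha⟩ := hR.2.index (MulAction.stabilizer R z)
  have ha0 : a ≠ 0 := by
    rintro rfl
    rw [pow_zero, index_eq_one, hst, subgroupOf_eq_top] at ha
    exact hRz ha
  have h4 : 2 ^ k ∣ r ^ a - 1 := by
    rw [← ha, MulAction.index_stabilizer, ← Nat.card_coe_set_eq, ← hk]
    have := Forms.card_subtype_or_eq_zero z (· ∈ MulAction.orbit R z) (MulAction.mem_orbit_self z)
    erw [this, Nat.add_sub_cancel]
    refine BS.card_dvd_of_free (fun c h y ⟨h5, x, hx⟩ => ⟨fun e => h5 ?_, ⟨c * x * c⁻¹,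
      conj_mem_of_mem_normalizer (hn h) x.2⟩, ?_⟩) fun c h y ⟨h5, x, hx⟩ h6 => ?_
    · exact (MulAut.conj c).injective (e.trans (hc c h).symm)
    · change c * x * c⁻¹ * z * (c * x * c⁻¹)⁻¹ = _
      rw [← hx]
      change _ = c * (x * z * (x : G)⁻¹) * c⁻¹
      conv_lhs => rw [← hc c h]
      group
    · by_contra h7
      obtain ⟨i, hi⟩ := hm c h h7
      exact h5 (hU y z (hx ▸ (orderOf_conj (x : G) z).trans hz) hz (hi ▸ (h6.zpow_left i).symm))
  have h5 : MulAction.stabilizer R z = ⊥ := by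
    by_contra h6
    refine arith hr.out hr2 (Nat.pos_of_ne_zero ha0) hk6 hd h4
      (dvd_trans ?_ ((card_subgroup_dvd_card R).trans (card_dvd_GL hρ)))
    rw [← (MulAction.stabilizer R z).index_mul_card, ha, pow_succ]
    obtain ⟨b, hb⟩ := IsPGroup.iff_card.1 (hR.2.to_subgroup (MulAction.stabilizer R z))
    rw [hb]
    exact Nat.mul_dvd_mul_left _ (dvd_pow_self _ (by rintro rfl; exact h6 (card_eq_one.1 hb)))
  have h6 := card_le_finrank hρ S.2 (R := R) (fpf_iff.2 fun c h h7 x hx e => by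
    obtain ⟨i, hi⟩ := hm c h h7
    have : (⟨x, hx⟩ : R) ∈ MulAction.stabilizer R z := by
      rw [hst, mem_subgroupOf, mem_centralizer_singleton_iff, ← hi]
      exact ((show Commute c x from e).zpow_left i).symm
    rw [h5] at this
    exact congrArg Subtype.val (mem_bot.1 this)) hn (by rintro rfl; exact hRz bot_le) hS0
  rw [hk] at h6
  have : 2 * k ≤ 2 ^ k := by interval_cases k <;> norm_num
  omega

/-- the data extracted from a rank one group -/
def Fam (X : Type*) [Group X] (a m : ℕ) : Prop :=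
  (∀ t : X, t ≠ 1 → t * t = 1 → Bd 2 t a m) ∧ (∀ k, 2 ^ k ∣ Nat.card X → 2 * k ≤ m) ∧
    ∀ Z : Subgroup X, (∀ z ∈ Z, z * z = 1) → Nat.card Z ≤ 2 ^ a

theorem le_of_dvd_mul {k n c : ℕ} (hc : Odd c) (h : 2 ^ k ∣ 2 ^ n * c) : k ≤ n :=
  (Nat.pow_dvd_pow_iff_le_right one_lt_two).1
    (((Nat.coprime_two_left.2 hc).pow_left k).dvd_of_dvd_mul_right h)

theorem card_le_of_two {X : Type*} [Group X] [Finite X] {a : ℕ} (h : ∀ k, 2 ^ k ∣ Nat.card X → k ≤ a)
    (Z : Subgroup X) (hZ : ∀ z ∈ Z, z * z = 1) : Nat.card Z ≤ 2 ^ a := by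
  obtain ⟨k, hk⟩ := IsPGroup.iff_card.1 (show IsPGroup 2 Z from fun z => ⟨1, Subtype.ext (by
    simpa [sq] using hZ z z.2)⟩)
  rw [hk]; exact Nat.pow_le_pow_right two_pos (h k (hk ▸ card_subgroup_dvd_card Z))

theorem odd_add {n : ℕ} (hn : n ≠ 0) : Odd (2 ^ n + 1) := (Nat.even_pow.2 ⟨even_two, hn⟩).add_one

theorem odd_sub {n : ℕ} (hn : n ≠ 0) : Odd (2 ^ n - 1) :=
  Nat.Even.sub_odd Nat.one_le_two_pow (Nat.even_pow.2 ⟨even_two, hn⟩) odd_one

variable {F : Type*} [Field F] [Finite F]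

theorem fam_L2 {n : ℕ} (hF : Nat.card F = 2 ^ n) (hn : 2 ≤ n) : Fam (Linear.PSL2 F) n (n * 2) := by
  have h : ∀ k, 2 ^ k ∣ Nat.card (Linear.PSL2 F) → k ≤ n := fun k hk => by
    have := hk.trans Linear.card_PSL_two_dvd
    rw [hF, ← pow_mul] at this
    exact le_of_dvd_mul (odd_sub (by omega)) this
  haveI : Finite (Linear.PSL2 F) := Quotient.finite _
  exact ⟨fun t h1 h2 => bd_L2 (j := 1) hF hn h1 (by rwa [pow_one, sq]), fun k hk => by have := h k hk; omega,
    card_le_of_two h⟩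

theorem fam_Sz {m : ℕ} (hm : 1 ≤ m) (hF : Nat.card F = 2 ^ (2 * m + 1)) :
    Fam (Lie.Sz F (2 ^ (m + 1))) ((2 * m + 1) * 2) ((2 * m + 1) * 2 * 2) := by
  haveI : BN.Sz.SzField F m := ⟨inferInstance, hF, hm⟩
  have h : ∀ k, 2 ^ k ∣ Nat.card (Lie.Sz F (2 ^ (m + 1))) → k ≤ (2 * m + 1) * 2 := fun k hk => by
    rw [← Nat.card_congr (BN.Sz.szEquiv m).toEquiv, BN.Sz.card_Sz, ← pow_mul, mul_assoc] at hk
    exact le_of_dvd_mul ((odd_add (by omega)).mul (odd_sub (by omega))) hk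
  exact ⟨fun t h1 h2 => bd_Sz hm hF h1 h2, fun k hk => by have := h k hk; omega, card_le_of_two h⟩

theorem fam_U {n q : ℕ} (hF : Nat.card F = q ^ 2) (hq : q = 2 ^ n) (h2 : q ≠ 2) :
    Fam (Cfsg.PSU 3 F q) (n * 2) (n * 2 * 3) := by
  have h := Forms.isConj_frob hF
  obtain ⟨e⟩ := U3.nonempty_psu h
  have hn : n ≠ 0 := by rintro rfl; have := h.two_le; omega
  refine ⟨fun t h1 h3 => bd_U_inv hF hq h2 h1 h3, fun k hk => ?_, fun Z hZ => ?_⟩
  · have := (Nat.card_congr e.toEquiv ▸ hk).trans (Dvd.intro_left _ (U3.card_PSU3 h))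
    rw [hq, ← pow_mul, ← pow_mul] at this
    have := le_of_dvd_mul ((odd_add (by omega)).mul (odd_sub (by omega))) this
    omega
  · have h3 : ∀ z ∈ Z.map e.toMonoidHom, z * z = 1 := by
      rintro _ ⟨z, hz, rfl⟩; rw [← map_mul, hZ z hz, map_one]
    obtain ⟨S, hS⟩ := (show IsPGroup 2 (Z.map e.toMonoidHom) from fun z => ⟨1, by
      rw [pow_one, sq]; exact Subtype.ext (h3 z z.2)⟩).exists_le_sylow
    obtain ⟨g, hg⟩ := exists_transv_of_inv hq S
    choose x h4 h5 using fun z : Z.map e.toMonoidHom => hg z (hS z.2) (h3 z z.2)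
    rw [← card_map_of_injective (f := e.toMonoidHom) e.injective, pow_mul, ← hq, ← hF]
    refine Nat.card_le_card_of_injective (fun z => (x z).b) fun a b hab => Subtype.ext ?_
    have : x a = x b := U3.Heis.ext ((h4 a).trans (h4 b).symm) hab
    exact (MulAut.conj g).injective ((h5 a).symm.trans (this ▸ h5 b))

theorem Fam.main (hρ : Function.Injective ρ) {X : Type*} [Group X] {a m : ℕ} (h : Fam X a m)
    (e : pElementClosure 2 (⊤ : Subgroup (G ⧸ pPrimeCore 2 G)) ≃* X) (S : Sylow 2 G) :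
    (∀ k, Nat.card S = 2 ^ k → 2 * k ≤ finrank (ZMod 2) V) ∧ ∀ (n : ℕ) (Z : Subgroup G), Z ≤ S →
      (∀ z ∈ Z, z ^ 2 = 1) → Nat.card Z = 2 ^ n → ∀ s ∈ (S : Subgroup G), s ≠ 1 →
        n ≤ finrank (ZMod 2) (LinearMap.range (ρ s - 1)) := by
  let φ : S →* X := e.toMonoidHom.comp (((QuotientGroup.mk' (pPrimeCore 2 G)).comp S.1.subtype).codRestrict _
    fun s => subset_closure ⟨mem_top _, IsPGroup.iff_orderOf.1 (S.2.map (QuotientGroup.mk' (pPrimeCore 2 G))) ⟨_, s, s.2, rfl⟩ |>.imp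
      fun k hk => by rwa [← orderOf_coe] at hk⟩)
  have hφ : Function.Injective φ := (injective_iff_map_eq_one φ).2 fun s hs => by
    by_contra h1
    exact mk_ne_one S.2 s.2 (by simpa using h1) (congrArg Subtype.val (e.map_eq_one_iff.1 hs))
  have key : ∀ s ∈ (S : Subgroup G), s ≠ 1 → a ≤ finrank (ZMod 2) (LinearMap.range (ρ s - 1)) ∧
      m ≤ finrank (ZMod 2) V := fun s hs h1 => by
    obtain ⟨j, h2, h3⟩ := exists_inv_pow S.2 hs h1
    have := (h.1 (φ ⟨s ^ j, pow_mem hs j⟩) (fun e => h2 (congrArg Subtype.val ((map_eq_one_iff φ hφ).1 e)))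
      (by rw [← map_mul, ← map_one φ]; exact congrArg φ (Subtype.ext h3))).map_inj
      ((Subgroup.subtype _).comp e.symm.toMonoidHom) (Subtype.val_injective.comp e.symm.injective)
    refine Bd.rep hρ (n := j) (Bd.lift (QuotientGroup.mk' (pPrimeCore 2 G)) (QuotientGroup.mk'_surjective _) ?_)
    simp [φ] at this
    exact this
  refine ⟨fun k hk => ?_, fun n Z hZ h1 h2 s hs h3 => le_trans ?_ (key s hs h3).1⟩
  · rcases Nat.eq_zero_or_pos k with rfl | h0
    · simp
    · obtain ⟨⟨s, hs⟩, hs1⟩ := (ne_bot_iff_exists_ne_one (H := (S : Subgroup G))).1 fun e => by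
        rw [e, card_bot, eq_comm, Nat.pow_eq_one] at hk; omega
      exact (h.2.1 k (hk ▸ card_dvd_of_injective φ hφ)).trans (key s hs (by simpa using hs1)).2
  · have := h.2.2 ((Z.subgroupOf S).map φ) (by
      rintro _ ⟨z, hz, rfl⟩
      rw [← map_mul, ← map_one φ]; exact congrArg φ (Subtype.ext (by simpa [sq] using h1 z hz)))
    rwa [card_map_of_injective hφ, Nat.card_congr (subgroupOfEquivOfLe hZ).toEquiv, h2,
      Nat.pow_le_pow_iff_right one_lt_two] at this

end Cfsg.Lib.Push.MB
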