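import Cfsg.Agent.Lib.Push.Qd

/-! Coordinates for a faithful natural `SL₂(F)`-module adapted to a Sylow `p`-subgroup. -/

set_option autoImplicit false
set_option linter.unusedSectionVars false

namespace Cfsg.Lib.Push

open Subgroup Cfsg.Lib.Amalg Cfsg.Lib.Amalg.TV
open scoped MatrixGroups Matrix commutatorElement

variable {F : Type*} [Field F]

/-- the unipotent subgroup -/
def upH (F : Type*) [Field F] : Multiplicative F →* SL(2, F) :=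
  MonoidHom.mk' (fun c => up c.toAdd) fun _ _ => (up_mul _ _).symm

theorem upH_inj : Function.Injective (upH F) := fun _ _ h => up_inj (F := F) h

theorem up_pow (c : F) (n : ℕ) : up c ^ n = up (n * c) := by
  have := map_pow (upH F) (.ofAdd c) n
  rw [← ofAdd_nsmul, nsmul_eq_mul] at this
  exact this.symm

theorem exists_conj_up [Finite F] {p n : ℕ} [hp : Fact p.Prime] (hF : Nat.card F = p ^ n) (S : Sylow p SL(2, F)) :
    ∃ g : SL(2, F), ∀ s, s ∈ (S : Subgroup SL(2, F)) ↔ ∃ c, g * s * g⁻¹ = up c := by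
  have h1 : Nat.card (upH F).range = p ^ n := by
    rw [← hF]; exact (Nat.card_congr (MonoidHom.ofInjective upH_inj).toEquiv).symm
  have h2 : IsPGroup p (upH F).range := IsPGroup.of_card h1
  have h0 : 1 < p ^ n := hF ▸ Finite.one_lt_card
  have h3 : p ∣ p ^ n := dvd_pow_self p (by rintro rfl; simp at h0)
  have h4 : ¬ p ∣ (upH F).range.index := fun e => by
    have hc := (upH F).range.card_mul_index
    rw [h1, Linear.card_SL_two, hF, mul_assoc] at hc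
    rw [Nat.eq_of_mul_eq_mul_left (by omega) hc] at e
    rcases (Nat.Prime.dvd_mul hp.out).1 e with e | e
    · exact hp.out.not_dvd_one ((Nat.dvd_add_right e).1 (by rwa [Nat.sub_add_cancel h0.le]))
    · exact hp.out.not_dvd_one ((Nat.dvd_add_right h3).1 e)
  obtain ⟨g, hg⟩ := MulAction.exists_smul_eq SL(2, F) S (h2.toSylow h4)
  refine ⟨g, fun s => ?_⟩
  have : s ∈ (S : Subgroup SL(2, F)) ↔ g * s * g⁻¹ ∈ (upH F).range := by
    rw [← IsPGroup.toSylow_coe h2 h4, ← hg, Sylow.coe_subgroup_smul,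
      Subgroup.mem_pointwise_smul_iff_inv_smul_mem]
    simp [mul_assoc]
  exact this.trans ⟨fun ⟨c, h⟩ => ⟨c.toAdd, h.symm⟩, fun ⟨c, h⟩ => ⟨.ofAdd c, h.symm⟩⟩

variable {G : Type*} [Group G] {V L T : Subgroup G} {ρ : L →* SL(2, F)} {ψ : G → (Fin 2 → F)} {x y : G}

/-- adapted coordinates -/
structure NA (V L T : Subgroup G) (ρ : L →* SL(2, F)) (ψ : G → (Fin 2 → F)) : Prop where
  le : L ≤ 𝐍 V
  bij : Function.Bijective ρ
  mul : ∀ x ∈ V, ∀ y ∈ V, ψ (x * y) = ψ x + ψ y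
  surj : ∀ m, ∃ x ∈ V, ψ x = m
  inj : ∀ x ∈ V, ∀ y ∈ V, ψ x = ψ y → x = y
  eqv : ∀ (g : L), ∀ x ∈ V, ψ (g * x * (g : G)⁻¹) = ρ g • ψ x
  TL : T ≤ L
  memT : ∀ g : L, (g : G) ∈ T ↔ ∃ c, ρ g = up c

theorem exists_na [Finite G] [Finite F] {p n : ℕ} [Fact p.Prime] (hF : Nat.card F = p ^ n)
    (h : IsNaturalSL2Module F V L) (hf : L ⊓ 𝐂 V = ⊥) (S : Sylow p L) :
    ∃ (ρ : L →* SL(2, F)) (ψ : G → (Fin 2 → F)), NA V L ((S : Subgroup L).map L.subtype) ρ ψ := by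
  classical
  obtain ⟨hn, ρ, ψ, h1, h2, h3⟩ := h
  have hi : Function.Injective ρ := by
    rw [← MonoidHom.ker_eq_bot_iff, h2, subgroupOf_eq_bot, disjoint_iff, inf_comm, hf]
  obtain ⟨g, hg⟩ := exists_conj_up hF (S.mapSurjective h1)
  refine ⟨(MulAut.conj g).toMonoidHom.comp ρ, fun x => if hx : x ∈ V then g • ψ (.ofMul ⟨x, hx⟩) else 0, hn,
    (MulAut.conj g).bijective.comp ⟨hi, h1⟩, fun x hx y hy => ?_, fun m => ?_, fun x hx y hy e => ?_,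
    fun l x hx => ?_, map_subtype_le _, fun l => ?_⟩
  · simp only [dif_pos hx, dif_pos hy, dif_pos (V.mul_mem hx hy), ← smul_add, ← map_add]; rfl
  · obtain ⟨v, hv⟩ := ψ.surjective (g⁻¹ • m)
    exact ⟨v.toMul.1, v.toMul.2, by simp [hv]⟩
  · simp only [dif_pos hx, dif_pos hy, smul_left_cancel_iff, EmbeddingLike.apply_eq_iff_eq] at e
    exact congrArg Subtype.val e
  · obtain ⟨w, h4, h5⟩ := h3 l ⟨x, hx⟩
    rw [← h4]
    simp only [dif_pos hx, dif_pos w.2, Subtype.coe_eta, h5]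
    change g • ρ l • ψ (.ofMul ⟨x, hx⟩) = (g * ρ l * g⁻¹) • g • ψ (.ofMul ⟨x, hx⟩)
    rw [mul_smul, mul_smul, inv_smul_smul]
  · rw [← mem_subgroupOf, ← comap_subtype, comap_map_eq_self_of_injective L.subtype_injective,
      ← mem_map_iff_mem hi]
    exact hg _

namespace NA
variable (h : NA V L T ρ ψ)
include h

theorem one : ψ 1 = 0 := by simpa using h.mul 1 V.one_mem 1 V.one_mem

theorem inv (hx : x ∈ V) : ψ x⁻¹ = -ψ x :=
  eq_neg_of_add_eq_zero_left (by rw [← h.mul _ (V.inv_mem hx) _ hx, inv_mul_cancel, h.one])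

theorem comm (hx : x ∈ V) (hy : y ∈ V) : x * y = y * x :=
  h.inj _ (V.mul_mem hx hy) _ (V.mul_mem hy hx) (by rw [h.mul _ hx _ hy, h.mul _ hy _ hx, add_comm])

theorem cj_mem (g : L) (hx : x ∈ V) : g * x * (g : G)⁻¹ ∈ V := (mem_normalizer_iff.1 (h.le g.2) x).1 hx

theorem comm_iff (g : L) (hx : x ∈ V) : g * x = x * g ↔ ρ g • ψ x = ψ x := by
  rw [← h.eqv g x hx, ← mul_inv_eq_iff_eq_mul]
  exact ⟨fun e => by rw [e], h.inj _ (h.cj_mem g hx) _ hx⟩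

theorem ex_up (c : F) : ∃ g : L, (g : G) ∈ T ∧ ρ g = up c :=
  let ⟨g, hg⟩ := h.bij.2 (up c); ⟨g, (h.memT g).2 ⟨c, hg⟩, hg⟩

theorem comm_up {g : L} {c : F} (e : ρ g = up c) (hx : x ∈ V) : g * x = x * g ↔ c * ψ x 1 = 0 := by
  rw [h.comm_iff g hx, e, up_smul]
  exact ⟨fun e => by simpa using congrFun e 0, fun e => vec2_ext (by simp [e]) rfl⟩

theorem mem_C : x ∈ V ⊓ 𝐂 T ↔ x ∈ V ∧ ψ x 1 = 0 := by
  refine and_congr_right fun hx => ⟨fun e => ?_, fun e t ht => ?_⟩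
  · obtain ⟨g, h1, h2⟩ := h.ex_up 1
    simpa using (h.comm_up h2 hx).1 (e g h1)
  · obtain ⟨c, hc⟩ := (h.memT ⟨t, h.TL ht⟩).1 ht
    exact (h.comm_up hc hx).2 (by rw [e, mul_zero])

theorem psi_comm {g : L} {c : F} (e : ρ g = up c) (hx : x ∈ V) :
    x * g * x⁻¹ * (g : G)⁻¹ ∈ V ∧ ψ (x * g * x⁻¹ * (g : G)⁻¹) = ![-(c * ψ x 1), 0] := by
  rw [mul_assoc, mul_assoc, ← mul_assoc (g : G)]
  refine ⟨V.mul_mem hx (h.cj_mem g (V.inv_mem hx)), ?_⟩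
  rw [h.mul _ hx _ (h.cj_mem g (V.inv_mem hx)), h.eqv _ _ (V.inv_mem hx), h.inv hx, e, up_smul]
  exact vec2_ext (by simp) (by simp)

theorem comm_le : ⁅V, T⁆ ≤ V ⊓ 𝐂 T := commutator_le.2 fun v hv t ht => by
  obtain ⟨c, hc⟩ := (h.memT ⟨t, h.TL ht⟩).1 ht
  obtain ⟨h1, h2⟩ := h.psi_comm hc hv
  exact h.mem_C.2 ⟨h1, congrFun h2 1⟩

theorem up_ne {g : L} {c : F} (e : ρ g = up c) (h1 : (g : G) ≠ 1) : c ≠ 0 := by
  rintro rfl
  exact h1 (congrArg Subtype.val (h.bij.1 (e.trans (up_zero.trans (map_one ρ).symm))))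

theorem card_V : Nat.card V = Nat.card F ^ 2 := by
  rw [Nat.card_congr (Equiv.ofBijective (fun v : V => ψ v) ⟨fun a b e => Subtype.ext (h.inj _ a.2 _ b.2 e),
    fun m => let ⟨x, h1, h2⟩ := h.surj m; ⟨⟨x, h1⟩, h2⟩⟩), Nat.card_fun, Nat.card_fin]

theorem card_C : Nat.card (V ⊓ 𝐂 T : Subgroup G) = Nat.card F :=
  Nat.card_congr (Equiv.ofBijective (fun v => ψ v 0) ⟨fun a b e => Subtype.ext (h.inj _ a.2.1 _ b.2.1
    (vec2_ext e ((h.mem_C.1 a.2).2.trans (h.mem_C.1 b.2).2.symm))), fun m =>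
      let ⟨x, h1, h2⟩ := h.surj ![m, 0]; ⟨⟨x, h.mem_C.2 ⟨h1, congrFun h2 1⟩⟩, congrFun h2 0⟩⟩)

theorem mem_norm {g : L} [Finite G] (e : ρ g 1 0 = 0) : (g : G) ∈ 𝐍 T :=
  mem_normalizer_of_cj_le (cj_le_iff'.2 fun t ht => by
    obtain ⟨c, hc⟩ := (h.memT ⟨t, h.TL ht⟩).1 ht
    exact (h.memT (g * ⟨t, h.TL ht⟩ * g⁻¹)).2 ⟨_, by rw [map_mul, map_mul, map_inv, hc, conj_up_of_zero _ e]⟩)

theorem ex_dg [Finite G] {l : F} (hl : l ≠ 0) : ∃ g : L, (g : G) ∈ L ⊓ 𝐍 T ∧ ρ g = dg l hl :=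
  let ⟨g, hg⟩ := h.bij.2 (dg l hl); ⟨g, ⟨g.2, h.mem_norm (by rw [hg]; rfl)⟩, hg⟩

end NA

end Cfsg.Lib.Push
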