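import Cfsg.Agent.Lib.Push.NatM
import Cfsg.Agent.Lib.Amalg.TVBridge

/-! Recognition of the natural `SL₂(F)`-module among irreducible modules. -/

set_option autoImplicit false
set_option linter.unusedSectionVars false

namespace Cfsg.Lib.Push

open Subgroup Cfsg.Lib.Amalg Cfsg.Lib.Amalg.TV
open scoped MatrixGroups Matrix

variable {F : Type*} [Field F] {W : Type*} [AddCommGroup W] [DistribMulAction SL(2, F) W]

/-- fixed by the upper unipotent group -/
def F0 (F : Type*) [Field F] (W : Type*) [AddCommGroup W] [DistribMulAction SL(2, F) W] : AddSubgroup W :=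
  fx W (upH F).range

/-- fixed by the lower unipotent group -/
def F1 (F : Type*) [Field F] (W : Type*) [AddCommGroup W] [DistribMulAction SL(2, F) W] : AddSubgroup W :=
  fx W (cj (wy : SL(2, F)) (upH F).range)

theorem mem_F0 {v : W} : v ∈ F0 F W ↔ ∀ c : F, up c • v = v :=
  ⟨fun h c => h _ ⟨.ofAdd c, rfl⟩, fun h _ ⟨c, e⟩ => e ▸ h c.toAdd⟩

theorem wy_up (c : F) : wy * up c * wy⁻¹ = lo (-c) := by
  rw [conj_up_of_zero' _ rfl, show (wy : SL(2, F)) 1 0 = 1 from rfl]; simp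

theorem mem_F1 {v : W} : v ∈ F1 F W ↔ ∀ c : F, lo c • v = v :=
  ⟨fun h c => by rw [← neg_neg c, ← wy_up]; exact h _ ⟨_, ⟨.ofAdd (-c), rfl⟩, rfl⟩,
    fun h _ ⟨_, ⟨c, e⟩, e'⟩ => by
      rw [← e', ← e]; exact (congrArg (· • v) (wy_up c.toAdd)).trans (h _)⟩

theorem smul_F0 {M : SL(2, F)} (h : M 1 0 = 0) {v : W} (hv : v ∈ F0 F W) : M • v ∈ F0 F W := mem_F0.2 fun c => by
  have := conj_up_of_zero M⁻¹ (by simp [Matrix.SpecialLinearGroup.SL2_inv_expl, h]) c
  rw [← mul_smul, show up c * M = M * (M⁻¹ * up c * M⁻¹⁻¹) by group, this, mul_smul, mem_F0.1 hv]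

theorem smul_F1 {M : SL(2, F)} (h : M 1 1 = 0) {v : W} (hv : v ∈ F1 F W) : M • v ∈ F0 F W := mem_F0.2 fun c => by
  have := conj_up_of_zero' M⁻¹ (by simp [Matrix.SpecialLinearGroup.SL2_inv_expl, h]) c
  rw [← mul_smul, show up c * M = M * (M⁻¹ * up c * M⁻¹⁻¹) by group, this, mul_smul, mem_F1.1 hv]

theorem smul_F0' {M : SL(2, F)} (h : M 0 0 = 0) {v : W} (hv : v ∈ F0 F W) : M • v ∈ F1 F W := by
  refine mem_fx_cj.2 (show _ ∈ F0 F W from ?_)
  rw [← mul_smul]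
  refine smul_F0 ?_ hv
  have := congrFun (sl_smul (wy⁻¹ * M) ![1, 0]) 1
  rw [mul_smul, sl_inv_smul, sl_smul] at this
  simpa [h, show (wy : SL(2, F)) 0 0 = 0 from rfl] using this.symm

/-- the monomial element -/
def nt (t : F) (h : t ≠ 0) : SL(2, F) := mk2 0 t (-t⁻¹) 0 (by simp [h])

theorem nt_eq (t : F) (h : t ≠ 0) : nt t h = up t * lo (-t⁻¹) * up t := by
  refine Linear.sl_ext_smul fun v => ?_
  rw [mul_smul, mul_smul, nt, mk2_smul, up_smul, lo_smul, up_smul]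
  exact vec2_ext (by simp; field_simp; ring) (by simp; field_simp; ring)

theorem nt_dg (t c : F) (h : t ≠ 0) (hc : c ≠ 0) : nt t h * dg c hc = nt (t / c) (div_ne_zero h hc) := by
  refine Linear.sl_ext_smul fun v => ?_
  rw [mul_smul, nt, nt, mk2_smul, mk2_smul, dg_smul]
  exact vec2_ext (by simp; field_simp) (by simp; field_simp)

theorem bruhat {M : SL(2, F)} (h : M 1 1 ≠ 0) :
    M = up (M 0 1 / M 1 1) * dg (M 1 1)⁻¹ (inv_ne_zero h) * lo (M 1 0 / M 1 1) := by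
  refine Linear.sl_ext_smul fun v => ?_
  have := sl_det M
  rw [mul_smul, mul_smul, sl_smul, lo_smul, dg_smul, up_smul]
  exact vec2_ext (by simp; field_simp; linear_combination (v 0) * this) (by simp; field_simp; ring)

variable (hirr : ∀ U : AddSubgroup W, Inv (⊤ : Subgroup SL(2, F)) U → U = ⊥ ∨ U = ⊤)
  (hnt : fx W (⊤ : Subgroup SL(2, F)) ≠ ⊤)
include hirr hnt

theorem F01 {v : W} (h0 : v ∈ F0 F W) (h1 : v ∈ F1 F W) : v = 0 := by
  have h := (hirr _ (inv_fx le_normalizer)).resolve_right hnt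
  rw [← AddSubgroup.mem_bot, ← h, mem_fx_iff_le]
  exact (eq_top_of_up_lo (MulAction.stabilizer _ v) (mem_F0.1 h0) (mem_F1.1 h1)).ge

theorem quad_of_card [Finite W] {p : ℕ} [Fact p.Prime] [CharP F p] (hp : ∀ v : W, p • v = 0)
    (hc : Nat.card W ≤ Nat.card (F0 F W) ^ 2) : Quad W (upH F).range := by
  have hA : IsPGroup p (upH F).range := by
    rintro ⟨_, c, rfl⟩
    exact ⟨1, Subtype.ext (by rw [pow_one]; exact (up_pow _ p).trans (by simp [up_zero]))⟩
  have hs : F0 F W ⊔ F1 F W = ⊤ := by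
    have h1 : F0 F W ⊓ F1 F W = ⊥ := eq_bot_iff.2 fun v hv => F01 hirr hnt hv.1 hv.2
    refine AddSubgroup.eq_top_of_le_card _ (hc.trans ?_)
    rw [sq]; nth_rw 2 [F0]
    rw [← card_fx_cj _ wy, ← Nat.card_prod]
    refine Nat.card_le_card_of_injective (fun x : F0 F W × F1 F W => (⟨x.1 + x.2, AddSubgroup.add_mem_sup x.1.2 x.2.2⟩ :
      ↥(F0 F W ⊔ F1 F W))) fun x y e => ?_
    have e1 : (x.1 : W) - y.1 = y.2 - x.2 := by
      have := congrArg Subtype.val e; simp only at this; rw [sub_eq_sub_iff_add_eq_add, this, add_comm]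
    have := F01 hirr hnt (sub_mem x.1.2 y.1.2) (e1 ▸ sub_mem y.2.2 x.2.2)
    exact Prod.ext (Subtype.ext (sub_eq_zero.1 this)) (Subtype.ext (sub_eq_zero.1 (e1 ▸ this)).symm)
  by_cases h0 : ⊤ ≤ F0 F W
  · exact fun a _ v => h0 trivial
  obtain ⟨u, -, h1, h2⟩ := exists_fix_mod hA hp (inv_fx le_normalizer) (inv_top _) h0
  let U : AddSubgroup W := ⨅ c : F, (F0 F W).comap (dl W (up c))
  have hU : ∀ v, v ∈ U ↔ ∀ c : F, dl W (up c) v ∈ F0 F W := fun v => AddSubgroup.mem_iInf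
  have hU0 : F0 F W ≤ U := fun v hv => (hU v).2 fun c => by rw [dl_eq_zero.2 (mem_F0.1 hv c)]; exact zero_mem _
  have hUB : ∀ M : SL(2, F), M 1 0 = 0 → ∀ v ∈ U, M • v ∈ U := fun M h v hv => (hU _).2 fun c => by
    have := conj_up_of_zero M⁻¹ (by simp [Matrix.SpecialLinearGroup.SL2_inv_expl, h]) c
    rw [show up c = M * (M⁻¹ * up c * M⁻¹⁻¹) * M⁻¹ by group, dl_smul, this]
    exact smul_F0 h ((hU v).1 hv _)
  obtain ⟨y, hy, x, hx, rfl⟩ := AddSubgroup.mem_sup.1 (hs ▸ AddSubgroup.mem_top u)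
  have hxU : x ∈ U := (U.add_mem_cancel_left (hU0 hy)).1 ((hU _).2 fun c => h2 _ ⟨.ofAdd c, rfl⟩)
  let X : AddSubgroup W := ⨅ g : SL(2, F), U.comap (DistribSMul.toAddMonoidHom W g)
  have hX : ∀ v, v ∈ X ↔ ∀ g : SL(2, F), g • v ∈ U := fun v => by simp [X, AddSubgroup.mem_iInf]
  have h3 := (hirr X fun g _ v hv => (hX _).2 fun k => by rw [← mul_smul]; exact (hX v).1 hv _).resolve_left
    fun e => h1 (by
      have : x ∈ X := (hX x).2 fun M => by
        by_cases h : M 1 1 = 0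
        · exact hU0 (smul_F1 h hx)
        · rw [bruhat h, mul_smul, mul_smul, mem_F1.1 hx]
          exact hUB _ (by simpa [sl_smul] using congrFun (up_smul (M 0 1 / M 1 1) ![1, 0]) 1) _ (hUB _ rfl _ hxU)
      rw [show x = 0 from AddSubgroup.mem_bot.1 (e ▸ this), add_zero]; exact hy)
  rintro _ ⟨c, rfl⟩ v
  exact (hU v).1 (by simpa using (hX v).1 (h3 ▸ AddSubgroup.mem_top v) 1) _

theorem exists_nat [Finite W] {p : ℕ} [Fact p.Prime] [CharP F p] (hp : ∀ v : W, p • v = 0)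
    (hq : Quad W (upH F).range) : ∃ θ : (Fin 2 → F) ≃+ W, ∀ (g : SL(2, F)) v, θ (g • v) = g • θ v := by
  have hA : IsPGroup p (upH F).range := by
    rintro ⟨_, c, rfl⟩
    exact ⟨1, Subtype.ext (by rw [pow_one]; exact (up_pow _ p).trans (by simp [up_zero]))⟩
  have hu : ∀ c : F, up c ∈ (upH F).range := fun c => ⟨.ofAdd c, rfl⟩
  have hl : ∀ c : F, lo c ∈ cj (wy : SL(2, F)) (upH F).range := fun c => ⟨_, hu (-c), by simpa using wy_up (-c)⟩
  have lo_mul : ∀ c d : F, lo c * lo d = lo (c + d) := fun c d => by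
    rw [← neg_neg c, ← neg_neg d, ← wy_up, ← wy_up, conj_mul, up_mul, wy_up]; congr 1; ring
  obtain ⟨v, -, h0, hv⟩ := exists_fix_mod hA hp (inv_bot _) (inv_top _) (W := ⊥) (U := ⊤) fun h =>
    hnt (eq_top_iff.2 (h.trans bot_le))
  have hv0 : v ∈ F0 F W := fun a ha => dl_eq_zero.1 (hv a ha)
  have key : ∀ (t : F) (h : t ≠ 0), ∀ v ∈ F0 F W, nt t h • v = dl W (lo (-t⁻¹)) v ∧
      dl W (up t) (nt t h • v) = -v := fun t h v hv => by
    have h1 : nt t h • v = v + dl W (up t) (dl W (lo (-t⁻¹)) v) + dl W (lo (-t⁻¹)) v := by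
      rw [nt_eq, mul_smul, mul_smul, mem_F0.1 hv, smul_eq_add_dl (lo _), smul_add, mem_F0.1 hv,
        smul_eq_add_dl (up t) (dl _ _ _)]; abel
    have h2 := F01 hirr hnt (add_mem hv (hq _ (hu t) (dl W (lo (-t⁻¹)) v)))
      (((F1 F W).add_mem_cancel_right (hq.cj wy _ (hl _) v)).1 (h1 ▸ smul_F0' rfl hv))
    rw [h2, zero_add] at h1
    exact ⟨h1, by rw [h1]; exact eq_neg_of_add_eq_zero_right h2⟩
  let β : F →+ W := AddMonoidHom.mk' (fun y => dl W (lo y) v) fun a b => by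
    rw [← lo_mul, (hq.cj wy).dl_mul (hl a) (hl b)]
  let α : F →+ W := AddMonoidHom.mk' (fun x => dl W (up x) (β 1)) fun a b => by
    rw [← up_mul, hq.dl_mul (hu a) (hu b)]
  have hβ : ∀ (y : F) (h : y ≠ 0), β y = nt (-y⁻¹) (by simpa) • v := fun y h => by
    rw [(key _ _ v hv0).1]; simp [β]
  have h1 : ∀ (x y : F) (hx : x ≠ 0) (hy : y ≠ 0), dl W (up x) (β y) = -(dg (-(x * y)) (by simp [hx, hy]) • v) :=
    fun x y hx hy => by
      rw [← (key x hx _ (smul_F0 rfl hv0)).2, ← mul_smul, nt_dg, hβ y hy]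
      congr 3; field_simp
  have hα : ∀ (x : F) (h : x ≠ 0), α x = -(dg (-x) (by simpa) • v) := fun x h => by
    simpa [α] using h1 x 1 h one_ne_zero
  have h2 : ∀ x y : F, dl W (up x) (β y) = α (x * y) := fun x y => by
    by_cases hx : x = 0
    · simp [hx, up_zero]
    by_cases hy : y = 0
    · simp [hy]
    rw [h1 x y hx hy, hα _ (mul_ne_zero hx hy)]
  have h3 : ∀ x y : F, dl W (lo y) (α x) = β (y * x) := fun x y => by
    by_cases hx : x = 0
    · simp [hx]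
    by_cases hy : y = 0
    · rw [hy, ← neg_zero, ← wy_up, up_zero]; simp
    have := (key (-y⁻¹) (by simpa) _ (smul_F0 (M := dg (-x) (by simpa)) rfl hv0)).1
    rw [← mul_smul, nt_dg, inv_neg, neg_neg, inv_inv] at this
    rw [hα x hx, map_neg, ← this, ← neg_neg (y * x), map_neg, hβ _ (by simp [hx, hy])]
    congr 3; field_simp
  have a0 : ∀ x, α x ∈ F0 F W := fun x => hq _ (hu x) _
  have b1 : ∀ x, β x ∈ F1 F W := fun x => hq.cj wy _ (hl x) _
  let θ : (Fin 2 → F) →+ W := α.comp (Pi.evalAddMonoidHom _ 0) + β.comp (Pi.evalAddMonoidHom _ 1)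
  have hθ : ∀ m, θ m = α (m 0) + β (m 1) := fun _ => rfl
  let K : Subgroup SL(2, F) :=
    { carrier := {g | ∀ m, θ (g • m) = g • θ m}
      one_mem' := fun m => by simp
      mul_mem' := fun ha hb m => by rw [mul_smul, ha, hb, mul_smul]
      inv_mem' := fun {g} h m => by rw [eq_inv_smul_iff, ← h, smul_inv_smul] }
  have hK := eq_top_of_up_lo K (fun c m => by
    rw [hθ, hθ, up_smul, smul_add, mem_F0.1 (a0 _), smul_eq_add_dl (up c), h2]; simp; abel) fun c m => by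
    rw [hθ, hθ, lo_smul, smul_add, mem_F1.1 (b1 _), smul_eq_add_dl (lo c), h3]; simp; abel
  have h4 : ∀ (g : SL(2, F)) m, θ (g • m) = g • θ m := fun g => (hK ▸ mem_top g : g ∈ K)
  have hi : Function.Injective θ := (injective_iff_map_eq_zero θ).2 fun m hm => by
    rw [hθ] at hm
    have h5 := F01 hirr hnt (a0 (m 0)) (eq_neg_of_add_eq_zero_left hm ▸ neg_mem (b1 _))
    rw [h5, zero_add] at hm
    refine vec2_ext (by_contra fun h => h0 ?_) (by_contra fun h => h0 ?_)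
    · simpa [hα _ h, smul_eq_zero_iff_eq] using h5
    · simpa [hβ _ h, smul_eq_zero_iff_eq] using hm
  refine ⟨AddEquiv.ofBijective θ ⟨hi, AddMonoidHom.range_eq_top.1 ((hirr _ ?_).resolve_left fun e => ?_)⟩, h4⟩
  · rintro g - _ ⟨m, rfl⟩; exact ⟨_, h4 g m⟩
  · have : θ 1 = θ 0 := (AddSubgroup.mem_bot.1 (e ▸ ⟨1, rfl⟩)).trans (map_zero θ).symm
    exact one_ne_zero (hi this)

end Cfsg.Lib.Push
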