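import Cfsg.Agent.Lib.Push.ZC

/-! Two maximal `2`-local subgroups `S₄` or `S₄ × C₂` with a common Sylow `2`-subgroup. -/

set_option autoImplicit false
set_option linter.unusedSectionVars false

namespace Cfsg.Lib.Push.ZN
open Subgroup Cfsg.Lib.Core Cfsg.Lib.Amalg Cfsg.Lib.BG1 Cfsg.Lib.Layer Cfsg.Lib.SigC Cfsg.Lib.Push.ZC

local notation "S₄" => Equiv.Perm (Fin 4)

/-- the normal four-group of `S₄` -/
def K₄ : Subgroup S₄ where
  carrier := {σ | σ * σ = 1 ∧ (σ = 1 ∨ ∀ i, σ i ≠ i)}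
  mul_mem' := by
    intro a b
    simp only [Set.mem_ofPred_eq]
    revert a b
    decide +kernel
  one_mem' := ⟨mul_one 1, Or.inl rfl⟩
  inv_mem' := by
    intro a
    simp only [Set.mem_ofPred_eq]
    revert a
    decide +kernel

instance : DecidablePred (· ∈ K₄) := fun σ => inferInstanceAs (Decidable (σ * σ = 1 ∧ (σ = 1 ∨ ∀ i, σ i ≠ i)))

theorem K₄_card : Nat.card K₄ = 4 := by rw [Nat.card_eq_fintype_card]; decide +kernel

theorem K₄_norm : ∀ σ : S₄, ∀ τ ∈ K₄, σ * τ * σ⁻¹ ∈ K₄ := by decide +kernel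

theorem K₄_fuse : ∀ v ∈ K₄, ∀ w ∈ K₄, v ≠ 1 → w ≠ 1 → ∃ x : S₄, x ^ 3 = 1 ∧ x * v * x⁻¹ = w := by decide +kernel

theorem K₄_cent : ∀ x : S₄, (∀ v ∈ K₄, v * x = x * v) → x ∈ K₄ := by decide +kernel

variable {G : Type*} [Group G] [Finite G] {P Q R S T V X D N : Subgroup G} {c s : G}

/-- abstract properties of `P = S₄ × ⟨c⟩` with normal four-group `V` -/
structure A4 (P V : Subgroup G) (c : G) : Prop where
  klein : IsKleinFour V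
  le : V ≤ P
  norm : P ≤ 𝐍(V)
  cmem : c ∈ P
  csq : c * c = 1
  cent : P ≤ 𝐂[c]
  cV : ∀ x ∈ P, x ∈ 𝐂(V) → x ∈ V ∨ x * c ∈ V
  fuse : ∀ v ∈ V, ∀ w ∈ V, v ≠ 1 → w ≠ 1 → ∃ x ∈ P, x ^ 3 = 1 ∧ x * v * x⁻¹ = w
  ncomm : ∀ x ∈ P, ∀ y ∈ P, x * y * x⁻¹ * y⁻¹ = c → c = 1

/-- complements to `c` are `S₄` -/
def Cpl (P : Subgroup G) (c : G) : Prop :=
  ∀ M, M ≤ P → (c ∈ M → c = 1) → (∀ b ∈ P, b ∈ M ∨ b * c ∈ M) → Nonempty (M ≃* S₄)

theorem exists_A4 {A : Type*} [CommGroup A] (a₀ : A) (h2 : a₀ * a₀ = 1) (hA : ∀ x : A, x = 1 ∨ x = a₀)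
    (e : P ≃* S₄ × A) : ∃ V c, A4 P V c ∧ Cpl P c ∧ (c = 1 ↔ a₀ = 1) := by
  have mem : ∀ x : P, (x : G) ∈ ((K₄.prod ⊥).comap e.toMonoidHom).map P.subtype ↔ (e x).1 ∈ K₄ ∧ (e x).2 = 1 :=
    fun x => by rw [← coe_subtype, mem_map_iff_mem P.subtype_injective]; rfl
  have hle := map_subtype_le ((K₄.prod ⊥).comap e.toMonoidHom)
  have ext : ∀ x y : P, (e x).1 = (e y).1 → (e x).2 = (e y).2 → (x : G) = y := fun x y h1 h2 =>
    congrArg Subtype.val (e.injective (Prod.ext h1 h2))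
  have hc : (Nat.card ↥(((K₄.prod ⊥).comap e.toMonoidHom).map P.subtype)) = 4 := by
    rw [card_map_of_injective P.subtype_injective, comap_equiv_eq_map_symm', card_map_of_injective e.symm.injective,
      Nat.card_congr (prodEquiv _ _).toEquiv, Nat.card_prod, K₄_card, card_bot]
  generalize ((K₄.prod ⊥).comap e.toMonoidHom).map P.subtype = V at *
  set c := e.symm (1, a₀) with hc'
  have ec : e c = (1, a₀) := e.apply_symm_apply _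
  refine ⟨V, c, ⟨Invol.isKleinFour_of_card hc fun x hx => ?_, hle, fun x hx => ?_, c.2, ?_, fun x hx => ?_,
    fun x hx h => ?_, fun v hv w hw h1 h2 => ?_, fun x hx y hy h => ?_⟩, fun M hM h1 h2 => ?_, ?_⟩
  · have := (mem ⟨x, hle hx⟩).1 hx
    exact ext (⟨x, hle hx⟩ * ⟨x, hle hx⟩) 1 (by rw [map_mul, map_one]; exact this.1.1)
      (by rw [map_mul, map_one, Prod.snd_mul, this.2, mul_one]; rfl)
  · refine PGrp.mem_normalizer_of_conj_mem fun v hv => ?_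
    have := (mem ⟨v, hle hv⟩).1 hv
    refine (mem (⟨x, hx⟩ * ⟨v, hle hv⟩ * ⟨x, hx⟩⁻¹)).2 ⟨?_, ?_⟩
    · rw [map_mul, map_mul, map_inv]; exact K₄_norm _ _ this.1
    · rw [map_mul, map_mul, map_inv, Prod.snd_mul, Prod.snd_mul, this.2, Prod.snd_inv, mul_one, mul_inv_cancel]
  · exact ext (c * c) 1 (by rw [map_mul, map_one, ec]; rfl) (by rw [map_mul, map_one, ec]; exact h2)
  · exact ZC.cmem.2 (ext (⟨x, hx⟩ * c) (c * ⟨x, hx⟩) (by simp [ec]) (by simp [ec, mul_comm]))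
  · have h1 : (e ⟨x, hx⟩).1 ∈ K₄ := K₄_cent _ fun v hv => by
      have h3 : ((e.symm (v, 1) : P) : G) ∈ V := (mem _).2 (by rw [e.apply_symm_apply]; exact ⟨hv, rfl⟩)
      have h4 : e.symm (v, 1) * ⟨x, hx⟩ = ⟨x, hx⟩ * e.symm (v, 1) := Subtype.ext (h _ h3)
      simpa using congrArg (fun y => (e y).1) h4
    rcases hA (e ⟨x, hx⟩).2 with h3 | h3
    · exact Or.inl ((mem ⟨x, hx⟩).2 ⟨h1, h3⟩)
    · exact Or.inr ((mem (⟨x, hx⟩ * c)).2 ⟨by simpa [ec] using h1, by simpa [ec, h3] using h2⟩)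
  · have hv' := (mem ⟨v, hle hv⟩).1 hv
    have hw' := (mem ⟨w, hle hw⟩).1 hw
    obtain ⟨x, h3, h4⟩ := K₄_fuse _ hv'.1 _ hw'.1
      (fun e' => h1 (ext ⟨v, hle hv⟩ 1 (by simpa using e') (by simpa using hv'.2)))
      (fun e' => h2 (ext ⟨w, hle hw⟩ 1 (by simpa using e') (by simpa using hw'.2)))
    refine ⟨e.symm (x, 1), (e.symm (x, 1)).2, ext (e.symm (x, 1) ^ 3) 1 (by simpa using h3) (by simp),
      ext (e.symm (x, 1) * ⟨v, hle hv⟩ * (e.symm (x, 1))⁻¹) ⟨w, hle hw⟩ (by simpa using h4) ?_⟩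
    simp [hv'.2, hw'.2]
  · have h1 : ⟨x, hx⟩ * ⟨y, hy⟩ * ⟨x, hx⟩⁻¹ * ⟨y, hy⟩⁻¹ = c := Subtype.ext h
    have h3 := congrArg (fun y => (e y).2) h1
    simp only [map_mul, map_inv, ec, Prod.snd_mul, Prod.snd_inv, mul_inv_cancel_comm, mul_inv_cancel] at h3
    exact ext c 1 (by simp [ec]) (by simp [ec, ← h3])
  · refine ⟨MulEquiv.ofBijective (((MonoidHom.fst _ _).comp e.toMonoidHom).comp (inclusion hM))
      ⟨(injective_iff_map_eq_one _).2 fun x hx => ?_, fun σ => ?_⟩⟩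
    · replace hx : (e ⟨x, hM x.2⟩).1 = 1 := hx
      rcases hA (e ⟨x, hM x.2⟩).2 with h3 | h3
      · exact Subtype.ext (ext ⟨x, hM x.2⟩ 1 (by simpa using hx) (by simpa using h3))
      · have h4 : (x : G) = c := ext ⟨x, hM x.2⟩ c (by rw [hx, ec]) (by rw [h3, ec])
        exact Subtype.ext (h4.trans (h1 (h4 ▸ x.2)))
    · rcases h2 _ (e.symm (σ, 1)).2 with h3 | h3
      · exact ⟨⟨_, h3⟩, congrArg Prod.fst (e.apply_symm_apply (σ, 1))⟩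
      · refine ⟨⟨_, h3⟩, ?_⟩
        change (e (e.symm (σ, 1) * c)).1 = σ
        simp [ec]
  · exact ⟨fun h => by simpa [ec] using congrArg (fun y => (e y).2) (Subtype.ext h : c = 1),
      fun h => ext c 1 (by simp [ec]) (by simp [ec, h])⟩

theorem mem_sup_two (hn : s ∈ 𝐍(D)) (h2 : s * s ∈ D) {x : G} : x ∈ D ⊔ zpowers s ↔ x ∈ D ∨ s⁻¹ * x ∈ D := by
  have hc : ∀ d ∈ D, s⁻¹ * d * s ∈ D := fun d hd => by simpa using (mem_normalizer_iff.1 (inv_mem hn) d).1 hd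
  let K : Subgroup G :=
    { carrier := {x | x ∈ D ∨ s⁻¹ * x ∈ D}
      one_mem' := Or.inl D.one_mem
      mul_mem' := by
        rintro a b (ha | ha) (hb | hb)
        · exact Or.inl (D.mul_mem ha hb)
        · exact Or.inr (by simpa [mul_assoc] using D.mul_mem (hc a ha) hb)
        · exact Or.inr (by simpa [mul_assoc] using D.mul_mem ha hb)
        · exact Or.inl (by simpa [mul_assoc] using D.mul_mem h2 (D.mul_mem (hc _ ha) hb))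
      inv_mem' := by
        rintro a (ha | ha)
        · exact Or.inl (D.inv_mem ha)
        · exact Or.inr (by simpa [mul_assoc] using D.mul_mem (hc _ (D.inv_mem ha)) (D.inv_mem h2)) }
  refine ⟨fun h => (sup_le (fun d hd => Or.inl hd) (zpowers_le.2 (Or.inr ?_)) : D ⊔ zpowers s ≤ K) h, ?_⟩
  · rw [inv_mul_cancel]; exact D.one_mem
  · rintro (h | h)
    · exact mem_sup_left h
    · exact (mul_mem_cancel_left (inv_mem (mem_sup_right (mem_zpowers s)))).1 (mem_sup_left h)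

theorem mem_res_three {x : G} (h : x ^ 3 = 1) : x ∈ pResidual 2 G :=
  subset_closure ((by norm_num : Nat.Coprime 3 2).coprime_dvd_left (orderOf_dvd_of_pow_eq_one h))

/-- `P` is maximal among the `2`-local subgroups -/
def MX (P : Subgroup G) : Prop := ∀ R : Subgroup G, IsPGroup 2 R → R ≠ ⊥ → P ≤ 𝐍(R) → 𝐍(R) = P

theorem MX.cent (h : MX P) (h2 : orderOf c = 2) (hc : P ≤ 𝐂[c]) : 𝐂[c] = P :=
  le_antisymm ((cent_zpowers c).ge.trans ((cent_le_norm _).trans (h _ (Invol.isPGroup_zpowers_two h2)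
    (by simpa using Invol.ne_one_of_two h2) ((zp_le_cent hc).trans (cent_le_norm _))).le)) hc

namespace A4
variable (h : A4 P V c)
include h

theorem conj (g : G) : A4 (cj g P) (cj g V) (g * c * g⁻¹) where
  klein := Invol.isKleinFour_map_conj h.klein g
  le := cj_mono g h.le
  norm := by rw [← cj_normalizer]; exact cj_mono g h.norm
  cmem := conj_mem_cj g h.cmem
  csq := by rw [conj_mul, h.csq]; group
  cent := by rw [← cj_centralizer_singleton]; exact cj_mono g h.cent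
  cV := fun x hx h1 => by
    obtain ⟨y, hy, rfl⟩ := mem_cj'.1 hx
    rw [← cj_centralizer, conj_mem_cj_iff] at h1
    rw [conj_mul, conj_mem_cj_iff, conj_mem_cj_iff]
    exact h.cV y hy h1
  fuse := fun v hv w hw h1 h2 => by
    obtain ⟨v, hv', rfl⟩ := mem_cj'.1 hv
    obtain ⟨w, hw', rfl⟩ := mem_cj'.1 hw
    obtain ⟨x, hx, h3, rfl⟩ := h.fuse v hv' w hw' (by simpa using h1) (by simpa using h2)
    exact ⟨_, conj_mem_cj g hx, by rw [conj_pow, h3]; group, by group⟩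
  ncomm := fun x hx y hy e => by
    obtain ⟨x, hx', rfl⟩ := mem_cj'.1 hx
    obtain ⟨y, hy', rfl⟩ := mem_cj'.1 hy
    rw [h.ncomm x hx' y hy' ((MulAut.conj g).injective (by simpa [mul_assoc] using e))]
    group

theorem pg : IsPGroup 2 V := Invol.klein_isPGroup h.klein

theorem ne_bot : V ≠ ⊥ := fun e => by simpa [e] using h.klein.card_four

theorem sq {v : G} (hv : v ∈ V) : v * v = 1 := Invol.klein_mul_self h.klein hv

theorem le_cent : V ≤ 𝐂(V) := fun _ hx _ hy => Invol.klein_commute h.klein hy hx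

theorem exists_comm {v : G} (hv : v ∈ V) : ∃ w ∈ V, ∃ x ∈ P, x ^ 3 = 1 ∧ v = x * w * x⁻¹ * w⁻¹ := by
  by_cases h1 : v = 1
  · exact ⟨1, one_mem _, 1, one_mem _, one_pow _, by simp [h1]⟩
  obtain ⟨w, hw, hw1, hwv⟩ := Invol.klein_exists_ne h.klein v
  obtain ⟨x, hx, h3, e⟩ := h.fuse w hw _ (V.mul_mem hv hw) hw1
    fun e => hwv (by rw [← mul_left_cancel_iff (a := v), e, h.sq hv])
  exact ⟨w, hw, x, hx, h3, by rw [e, mul_inv_cancel_right]⟩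

theorem le_res : V ≤ pResidual 2 G := fun v hv => by
  obtain ⟨w, -, x, -, h3, rfl⟩ := h.exists_comm hv
  rw [mul_assoc, mul_assoc, ← mul_assoc w]
  exact mul_mem (mem_res_three h3) ((pResidual_normal' 2 G).conj_mem _ (inv_mem (mem_res_three h3)) w)

theorem le_of_mem (hn : ∀ x ∈ P, x ^ 3 = 1 → x ∈ 𝐍(X)) {v : G} (hv : v ∈ V) (h1 : v ≠ 1) (hX : v ∈ X) : V ≤ X :=
  fun w hw => by
    by_cases h2 : w = 1
    · exact h2 ▸ one_mem _
    obtain ⟨x, hx, h3, rfl⟩ := h.fuse v hv w hw h1 h2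
    exact (mem_normalizer_iff.1 (hn x hx h3) v).1 hX

theorem cent_of (hR : IsPGroup 2 R) (hle : R ≤ P) (hn : ∀ x ∈ P, x ^ 3 = 1 → x ∈ 𝐍(R)) : R ≤ 𝐂(V) := by
  obtain ⟨v, hv, h1⟩ := (Subgroup.bot_or_exists_ne_one _).resolve_left (inf_center_ne_bot
    (isPGroup_sup_of_le_normalizer hR h.pg (hle.trans h.norm)) le_sup_right
    (sup_le (hle.trans h.norm) le_normalizer) h.ne_bot)
  exact BG1.le_cent_symm (h.le_of_mem (fun x hx h3 => normalizer_le_normalizer_centralizer _ (hn x hx h3)) hv.1 h1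
    (centralizer_le (le_sup_left : R ≤ R ⊔ V) hv.2))

theorem unique_le {V' : Subgroup G} {c' : G} (h' : A4 P V' c') : V' ≤ V := fun v hv => by
  obtain ⟨w, hw, x, hx, -, rfl⟩ := h'.exists_comm hv
  have hx' := mem_normalizer_iff.1 (h.norm hx)
  rcases h.cV w (h'.le hw) (h.cent_of h'.pg h'.le (fun x hx _ => h'.norm hx) hw) with h1 | h1
  · exact mul_mem ((hx' w).1 h1) (inv_mem h1)
  · have : x * w * x⁻¹ * w⁻¹ = x * (w * c) * x⁻¹ * (w * c)⁻¹ := by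
      calc _ = x * w * (x⁻¹ * c) * (w * c)⁻¹ := by group
        _ = _ := by rw [ZC.cmem.1 (h.cent (inv_mem hx))]; group
    rw [this]
    exact mul_mem ((hx' _).1 h1) (inv_mem h1)

theorem unique {V' : Subgroup G} {c' : G} (h' : A4 P V' c') : V' = V := le_antisymm (h.unique_le h') (h'.unique_le h)

theorem le_syl (hT : Syl 2 T P) : V ≤ T := hT.le_of_normal h.pg h.le h.norm

theorem mem_syl (hT : Syl 2 T P) : c ∈ T :=
  zpowers_le.1 (hT.le_of_normal (isPGroup_zpowers_of_pow (k := 1) (by rw [pow_one, pow_two, h.csq]))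
    (zpowers_le.2 h.cmem) ((zp_le_cent h.cent).trans (cent_le_norm _)))

theorem le_of_res (hc : c ∈ pResidual 2 G → c = 1) {x : G} (hx : x ∈ P) (hH : x ∈ pResidual 2 G)
    (h1 : x ∈ 𝐂(V)) : x ∈ V :=
  (h.cV x hx h1).elim id fun h2 => by rwa [hc ((mul_mem_cancel_left hH).1 (h.le_res h2)), mul_one] at h2

/-- the only nontrivial `2`-subgroup of `O²(G)` normalized by `P ∩ O²(G)` is `V` -/
theorem eq_of_norm (hm : MX P) (hc : c ∈ pResidual 2 G → c = 1) (hR : IsPGroup 2 R) (hne : R ≠ ⊥)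
    (hH : R ≤ pResidual 2 G) (hn : P ⊓ pResidual 2 G ≤ 𝐍(R)) : R = V := by
  have hN := hm V h.pg h.ne_bot h.norm
  have h3 : ∀ x ∈ P, x ^ 3 = 1 → x ∈ 𝐍(R) := fun x hx h3 => hn ⟨hx, mem_res_three h3⟩
  have hVR : V ≤ 𝐍(R) := (le_inf h.le h.le_res).trans hn
  have h1 : R ⊓ P ≤ V := fun x hx => h.le_of_res hc hx.2 (hH hx.1)
    (h.cent_of (hR.to_le inf_le_left) inf_le_right (fun y hy h4 => le_normalizer_inf (A := zpowers y)
      (zpowers_le.2 (h3 y hy h4)) ((zpowers_le.2 hy).trans le_normalizer) (mem_zpowers y)) hx)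
  have h2 : R ≤ V := le_sup_right.trans (eq_of_inf_normalizer_le (isPGroup_sup_of_le_normalizer h.pg hR hVR)
    le_sup_left (by rw [hN, sup_inf_of_le_normalizer h.le hVR]; exact sup_le le_rfl h1)).ge
  obtain ⟨v, hv, h4⟩ := R.bot_or_exists_ne_one.resolve_left hne
  exact le_antisymm h2 (h.le_of_mem h3 (h2 hv) h4 hv)

theorem maxLocal (hm : MX P) (hc : c ∈ pResidual 2 G → c = 1) :
    IsMaximalTwoLocal (P.subgroupOf (pResidual 2 G)) := by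
  have hN := hm V h.pg h.ne_bot h.norm
  refine ⟨⟨V.subgroupOf _, Amalg.isPGroup_subgroupOf h.pg _, fun e => h.ne_bot ?_, by
    rw [normalizer_subgroupOf h.le_res, hN]⟩, ?_⟩
  · rw [← map_subgroupOf_of_le h.le_res, e, Subgroup.map_bot]
  rintro _ ⟨R, hR, hne, rfl⟩ hle
  rw [← map_subtype_subgroupOf R, normalizer_subgroupOf (map_subtype_le R)] at hle ⊢
  rw [h.eq_of_norm hm hc (Amalg.isPGroup_map_subtype_iff.2 hR)
    (by rwa [Ne, Subgroup.map_eq_bot_iff_of_injective _ (subtype_injective _)]) (map_subtype_le R)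
    (fun x hx => hle (x := ⟨x, hx.2⟩) hx.1), hN]

end A4

/-- the configuration of two maximal `2`-locals -/
structure Cf (P₁ P₂ V₁ V₂ T : Subgroup G) (c₁ c₂ : G) : Prop where
  h₁ : A4 P₁ V₁ c₁
  h₂ : A4 P₂ V₂ c₂
  m₁ : MX P₁
  m₂ : MX P₂
  s₁ : Syl 2 T P₁
  s₂ : Syl 2 T P₂
  ne : P₁ ≠ P₂

variable {P₁ P₂ V₁ V₂ : Subgroup G} {c₁ c₂ a b z : G}

/-- the configuration with generators -/
structure El (P₁ P₂ V₁ V₂ T : Subgroup G) (c₁ c₂ a b z : G) : Prop extends Cf P₁ P₂ V₁ V₂ T c₁ c₂ where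
  ha : a ∈ V₁
  hb : b ∈ V₂
  z₁ : z ∈ V₁
  z₂ : z ∈ V₂
  z1 : z ≠ 1
  ba : b * a = z * (a * b)

theorem Cf.symm (h : Cf P₁ P₂ V₁ V₂ T c₁ c₂) : Cf P₂ P₁ V₂ V₁ T c₂ c₁ :=
  ⟨h.h₂, h.h₁, h.m₂, h.m₁, h.s₂, h.s₁, h.ne.symm⟩

theorem Cf.inf_le (h : Cf P₁ P₂ V₁ V₂ T c₁ c₂) (hc : V₂ ≤ 𝐂(V₁)) : P₂ ⊓ 𝐂(V₂) ≤ P₁ ⊓ 𝐂(V₁) := fun x hx => by
  have h1 : V₂ ≤ P₁ ⊓ 𝐂(V₁) := le_inf ((h.h₂.le_syl h.s₂).trans h.s₁.le) hc
  refine (h.h₂.cV x hx.1 hx.2).elim (fun h' => h1 h') fun h' => (mul_mem_cancel_right ?_).1 (h1 h')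
  exact ⟨h.s₁.le (h.h₂.mem_syl h.s₂), zpowers_le.1 (BG1.le_cent_symm (zp_le_cent
    ((h.h₁.le_syl h.s₁).trans (h.s₂.le.trans h.h₂.cent))))⟩

theorem A4.norm_Q (h : A4 P V c) (hm : MX P) : 𝐍(P ⊓ 𝐂(V)) = P := by
  refine hm _ (isPGroup_iff_mem.2 fun x hx => ⟨1, ?_⟩) (fun e => h.ne_bot (le_bot_iff.1 (e ▸ le_inf h.le h.le_cent)))
    (le_normalizer_inf le_normalizer (h.norm.trans (normalizer_le_normalizer_centralizer _)))
  rw [pow_one, pow_two]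
  refine (h.cV x hx.1 hx.2).elim h.sq fun h1 => ?_
  have := h.sq h1
  rwa [mul_assoc, ← mul_assoc c, ← ZC.cmem.1 (h.cent hx.1), mul_assoc, h.csq, mul_one] at this

theorem Cf.exists_el (h : Cf P₁ P₂ V₁ V₂ T c₁ c₂) : ∃ a b z, El P₁ P₂ V₁ V₂ T c₁ c₂ a b z := by
  have hn : ¬ V₂ ≤ 𝐂(V₁) := fun hc => h.ne (by
    rw [← h.h₁.norm_Q h.m₁, ← h.h₂.norm_Q h.m₂, le_antisymm (h.inf_le hc) (h.symm.inf_le (BG1.le_cent_symm hc))])
  obtain ⟨b, hb, hn⟩ := SetLike.not_le_iff_exists.1 hn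
  rw [mem_centralizer_iff] at hn
  push Not at hn
  obtain ⟨a, ha, hab⟩ := hn
  refine ⟨a, b, b * a * b⁻¹ * a⁻¹, h, ha, hb, mul_mem ((mem_normalizer_iff.1
    (h.h₁.norm (h.s₁.le (h.h₂.le_syl h.s₂ hb))) a).1 ha) (inv_mem ha), ?_, fun e => hab ?_, by group⟩
  · rw [mul_assoc, mul_assoc, ← mul_assoc a]
    exact mul_mem hb ((mem_normalizer_iff.1 (h.h₂.norm (h.s₂.le (h.h₁.le_syl h.s₁ ha))) _).1 (inv_mem hb))
  · rw [mul_inv_eq_one, mul_inv_eq_iff_eq_mul] at e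
    exact e.symm

namespace El
variable (h : El P₁ P₂ V₁ V₂ T c₁ c₂ a b z)
include h

theorem aa : a * a = 1 := h.h₁.sq h.ha
theorem bb : b * b = 1 := h.h₂.sq h.hb
theorem zz : z * z = 1 := h.h₁.sq h.z₁
theorem zz' (x : G) : z * (z * x) = x := by rw [← mul_assoc, h.zz, one_mul]
theorem az : a * z = z * a := Invol.klein_commute h.h₁.klein h.ha h.z₁
theorem bz : b * z = z * b := Invol.klein_commute h.h₂.klein h.hb h.z₂

theorem symm : El P₂ P₁ V₂ V₁ T c₂ c₁ b a z :=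
  ⟨h.toCf.symm, h.hb, h.ha, h.z₂, h.z₁, h.z1, by rw [h.ba, h.zz']⟩

theorem nc : b * a ≠ a * b := fun e => h.z1 (by simpa [e] using h.ba)

theorem V₁T : V₁ ≤ T := h.h₁.le_syl h.s₁
theorem V₂T : V₂ ≤ T := h.h₂.le_syl h.s₂
theorem cT : c₁ ∈ T := h.h₁.mem_syl h.s₁
theorem Tc : T ≤ 𝐂[c₁] := h.s₁.le.trans h.h₁.cent

theorem memV {x : G} (hx : x ∈ V₁) : x = 1 ∨ x = z ∨ x = a ∨ x = z * a :=
  Invol.klein_eq_mul h.h₁.klein h.z₁ h.ha hx h.z1 (fun e => h.nc (by simp [e])) fun e => h.nc (e ▸ h.bz)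

theorem of_comm {y : G} (hy : y ∈ V₁) (hc : b * y = y * b) : y = 1 ∨ y = z := by
  rcases h.memV hy with e | e | e | e
  · exact Or.inl e
  · exact Or.inr e
  · exact absurd (e ▸ hc) h.nc
  · rw [e, ← mul_assoc, h.bz, mul_assoc, mul_assoc, mul_right_inj] at hc
    exact absurd hc h.nc

theorem inter {y : G} (h1 : y ∈ V₁) (h2 : y ∈ V₂) : y = 1 ∨ y = z :=
  h.of_comm h1 (Invol.klein_commute h.h₂.klein h.hb h2)

theorem Tz : T ≤ 𝐂[z] := fun t ht =>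
  ZC.cmem.2 (mul_inv_eq_iff_eq_mul.1 ((h.inter ((mem_normalizer_iff.1 (h.h₁.norm (h.s₁.le ht)) z).1 h.z₁)
    ((mem_normalizer_iff.1 (h.h₂.norm (h.s₂.le ht)) z).1 h.z₂)).resolve_left (by simpa using h.z1)))

theorem mem_cent {t : G} (h1 : t ∈ 𝐂[z]) (h2 : t ∈ 𝐂[a]) : t ∈ 𝐂(V₁) := fun x hx => by
  have : x ∈ 𝐂[t] := by
    rcases h.memV hx with e | e | e | e <;> rw [e]
    · exact one_mem _
    · exact mem_cent1_symm h1
    · exact mem_cent1_symm h2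
    · exact mul_mem (mem_cent1_symm h1) (mem_cent1_symm h2)
  exact ZC.cmem.1 this

theorem act {t : G} (ht : t ∈ T) (hn : t ∉ 𝐂(V₁)) : t * a * t⁻¹ = z * a := by
  rcases h.memV ((mem_normalizer_iff.1 (h.h₁.norm (h.s₁.le ht)) a).1 h.ha) with e | e | e | e
  · exact absurd (by simp [show a = 1 by simpa using e]) h.nc
  · rw [← mul_inv_eq_iff_eq_mul.2 (ZC.cmem.1 (h.Tz ht))] at e
    exact absurd ((show a = z by simpa using e) ▸ h.bz) h.nc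
  · exact absurd (h.mem_cent (h.Tz ht) (ZC.cmem.2 (mul_inv_eq_iff_eq_mul.1 e))) hn
  · exact e

theorem memT {t : G} (ht : t ∈ T) : t ∈ V₁ ⊔ V₂ ∨ t * c₁ ∈ V₁ ⊔ V₂ := by
  by_cases hc : t ∈ 𝐂(V₁)
  · exact (h.h₁.cV t (h.s₁.le ht) hc).imp mem_sup_left mem_sup_left
  have h1 := T.mul_mem (h.V₂T h.hb) ht
  have h2 : b * t ∈ 𝐂(V₁) := h.mem_cent (h.Tz h1) (ZC.cmem.2 (mul_inv_eq_iff_eq_mul.1 (by
    calc b * t * a * (b * t)⁻¹ = b * (t * a * t⁻¹) * b⁻¹ := by group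
      _ = z * (b * a) * b⁻¹ := by rw [h.act ht hc, ← mul_assoc, h.bz, mul_assoc z]
      _ = a := by rw [h.ba, h.zz', mul_inv_cancel_right])))
  refine (h.h₁.cV _ (h.s₁.le h1) h2).imp (fun h3 => ?_) fun h3 => ?_
  · exact (mul_mem_cancel_left (mem_sup_right h.hb)).1 (mem_sup_left h3)
  · exact (mul_mem_cancel_left (mem_sup_right h.hb)).1 (mem_sup_left (mul_assoc b t c₁ ▸ h3))

theorem memD {x : G} (hx : x ∈ V₁ ⊔ V₂) : x ∈ V₁ ∨ x ∈ V₂ ∨ x = a * b ∨ x = z * (a * b) := by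
  have h1 : V₁ ⊔ V₂ ≤ V₁ ⊔ zpowers b := sup_le le_sup_left fun y hy => by
    rcases h.symm.memV hy with e | e | e | e <;> rw [e]
    · exact one_mem _
    · exact mem_sup_left h.z₁
    · exact mem_sup_right (mem_zpowers b)
    · exact mul_mem (mem_sup_left h.z₁) (mem_sup_right (mem_zpowers b))
  rcases (mem_sup_two (h.h₁.norm (h.s₁.le (h.V₂T h.hb))) (h.bb ▸ one_mem _)).1 (h1 hx) with h2 | h2
  · exact Or.inl h2
  rcases h.memV h2 with e | e | e | e <;> rw [inv_mul_eq_iff_eq_mul.1 e]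
  · exact Or.inr (Or.inl (mul_mem h.hb (one_mem _)))
  · exact Or.inr (Or.inl (mul_mem h.hb h.z₂))
  · exact Or.inr (Or.inr (Or.inr h.ba))
  · exact Or.inr (Or.inr (Or.inl (by rw [← mul_assoc, h.bz, mul_assoc, h.ba, h.zz'])))

theorem DT : V₁ ⊔ V₂ ≤ T := sup_le h.V₁T h.V₂T

theorem dvd : 8 ∣ Nat.card ↥(V₁ ⊔ V₂) := by
  obtain ⟨n, hn⟩ := IsPGroup.iff_card.1 (h.s₁.isPGroup.to_le h.DT)
  have := card_lt_of_lt' (lt_of_le_of_ne (le_sup_left : V₁ ≤ V₁ ⊔ V₂) fun e =>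
    h.nc (Invol.klein_commute h.h₁.klein (e ▸ mem_sup_right h.hb) h.ha))
  rw [h.h₁.klein.card_four, hn, show 4 = 2 ^ 2 from rfl, Nat.pow_lt_pow_iff_right one_lt_two] at this
  rw [hn]
  exact pow_dvd_pow 2 (show 3 ≤ n from this)

theorem iso (hi : Cpl P₁ c₁) (hc : c₁ ∈ pResidual 2 G → c₁ = 1) :
    Nonempty (P₁.subgroupOf (pResidual 2 G) ≃* S₄) := by
  have hD : V₁ ⊔ V₂ ≤ pResidual 2 G := sup_le h.h₁.le_res h.h₂.le_res
  obtain ⟨e⟩ := hi (P₁ ⊓ pResidual 2 G) inf_le_left (fun h1 => hc h1.2) fun x hx => by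
    obtain ⟨r, hr, t, ht, rfl⟩ := h.s₁.mem_res_mul hx
    have h1 : r ∈ pResidual 2 G := res_top.le (res_mono le_top hr)
    exact (h.memT ht).imp (fun h2 => ⟨hx, mul_mem h1 (hD h2)⟩)
      fun h2 => ⟨mul_mem hx h.h₁.cmem, mul_assoc r t c₁ ▸ mul_mem h1 (hD h2)⟩
  rw [← inf_subgroupOf_right]
  exact ⟨(subgroupOfEquivOfLe inf_le_right).trans e⟩

theorem fin (i₁ : Cpl P₁ c₁) (i₂ : Cpl P₂ c₂) (hc₁ : c₁ ∈ pResidual 2 G → c₁ = 1)
    (hc₂ : c₂ ∈ pResidual 2 G → c₂ = 1) : ∃ M₁ M₂ : Subgroup (pResidual 2 G), M₁ ≠ M₂ ∧ IsMaximalTwoLocal M₁ ∧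
      IsMaximalTwoLocal M₂ ∧ Nonempty (M₁ ≃* S₄) ∧ Nonempty (M₂ ≃* S₄) ∧ Nat.card ↥(M₁ ⊓ M₂) = 8 := by
  obtain ⟨e₁⟩ := h.iso i₁ hc₁
  obtain ⟨e₂⟩ := h.symm.iso i₂ hc₂
  have hD : V₁ ⊔ V₂ ≤ pResidual 2 G := sup_le h.h₁.le_res h.h₂.le_res
  have hne : P₁.subgroupOf (pResidual 2 G) ≠ P₂.subgroupOf (pResidual 2 G) := fun e => by
    have := h.h₁.eq_of_norm h.m₁ hc₁ h.h₂.pg h.h₂.ne_bot h.h₂.le_res fun x hx =>
      h.h₂.norm (e.le (x := ⟨x, hx.2⟩) hx.1)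
    exact h.nc (Invol.klein_commute h.h₁.klein (this ▸ h.hb) h.ha)
  refine ⟨_, _, hne, h.h₁.maxLocal h.m₁ hc₁, h.h₂.maxLocal h.m₂ hc₂, ⟨e₁⟩, ⟨e₂⟩, ?_⟩
  have c₁ : Nat.card (P₁.subgroupOf (pResidual 2 G)) = 24 := by
    rw [Nat.card_congr e₁.toEquiv, Nat.card_perm, Nat.card_fin]; rfl
  have c₂ : Nat.card (P₂.subgroupOf (pResidual 2 G)) = 24 := by
    rw [Nat.card_congr e₂.toEquiv, Nat.card_perm, Nat.card_fin]; rfl
  have h1 : (V₁ ⊔ V₂).subgroupOf (pResidual 2 G) ≤ P₁.subgroupOf (pResidual 2 G) ⊓ P₂.subgroupOf (pResidual 2 G) :=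
    le_inf (comap_mono (h.DT.trans h.s₁.le)) (comap_mono (h.DT.trans h.s₂.le))
  have h2 := card_dvd_of_le h1
  rw [Nat.card_congr (subgroupOfEquivOfLe hD).toEquiv] at h2
  obtain ⟨k, hk⟩ := h.dvd.trans h2
  have h3 := card_dvd_of_le (inf_le_left : P₁.subgroupOf (pResidual 2 G) ⊓ P₂.subgroupOf (pResidual 2 G) ≤ _)
  have h4 := card_lt_of_lt' (lt_of_le_of_ne (inf_le_left : P₁.subgroupOf (pResidual 2 G) ⊓ _ ≤ _)
    fun e => hne (eq_of_le_of_card_le' (inf_eq_left.1 e) (c₂.trans c₁.symm).le))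
  rw [c₁, hk] at h3 h4
  rw [hk]
  have : k < 3 := by omega
  interval_cases k <;> simp_all

end El

/-- the configuration for `S₄ × C₂` inside the Sylow subgroup `S` -/
structure E2 (P₁ P₂ V₁ V₂ T : Subgroup G) (c₁ c₂ a b z : G) (S : Subgroup G) : Prop
    extends El P₁ P₂ V₁ V₂ T c₁ c₂ a b z where
  n₁ : c₁ ≠ 1
  n₂ : c₂ ≠ 1
  syl : Syl 2 S ⊤
  TS : T ≤ S

namespace E2
variable (h : E2 P₁ P₂ V₁ V₂ T c₁ c₂ a b z S)
include h

theorem symm : E2 P₂ P₁ V₂ V₁ T c₂ c₁ b a z S := ⟨h.toEl.symm, h.n₂, h.n₁, h.syl, h.TS⟩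

theorem two : orderOf c₁ = 2 := Invol.two_of_mul_self h.h₁.csq h.n₁

theorem cent : 𝐂[c₁] = P₁ := h.m₁.cent h.two h.h₁.cent

theorem nconj (g : G) : g * c₁ * g⁻¹ ≠ z := fun e => by
  have h1 : T ≤ cj g P₁ := by rw [← h.cent, cj_centralizer_singleton, e]; exact h.Tz
  refine h.z1 (e ▸ (h.h₁.conj g).ncomm b (h1 (h.V₂T h.hb)) a (h1 (h.V₁T h.ha)) ?_)
  rw [e, h.ba]
  group

theorem nD (g : G) : g * c₁ * g⁻¹ ∉ V₁ ⊔ V₂ := fun hD => by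
  have h1 : g * c₁ * g⁻¹ ≠ 1 := by simpa using h.n₁
  have h2 := (h.h₁.conj g).csq
  have h3 : a * b * (a * b) = z := by
    rw [mul_assoc, ← mul_assoc b, h.ba, mul_assoc, mul_assoc, h.bb, mul_one, ← mul_assoc, h.az, mul_assoc, h.aa,
      mul_one]
  rcases h.memD hD with h4 | h4 | h4 | h4
  · obtain ⟨x, -, -, e⟩ := h.h₁.fuse _ h4 z h.z₁ h1 h.z1
    exact h.nconj (x * g) (by rw [← e]; group)
  · obtain ⟨x, -, -, e⟩ := h.h₂.fuse _ h4 z h.z₂ h1 h.z1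
    exact h.nconj (x * g) (by rw [← e]; group)
  · exact h.z1 (by rw [← h2, h4, h3])
  · refine h.z1 ?_
    rw [← h2, h4, mul_assoc, ← mul_assoc (a * b), ZC.cmem.1 (h.Tz (mul_mem (h.V₁T h.ha) (h.V₂T h.hb))), mul_assoc,
      h.zz', h3]

theorem ZT {y : G} (hy : y ∈ T) (h1 : y ∈ 𝐂(V₁)) (h2 : y ∈ 𝐂(V₂)) : y = 1 ∨ y = z ∨ y = c₁ ∨ y = z * c₁ := by
  rcases h.h₁.cV y (h.s₁.le hy) h1 with h3 | h3
  · rcases h.of_comm h3 (h2 b h.hb) with e | e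
    · exact Or.inl e
    · exact Or.inr (Or.inl e)
  · rcases h.of_comm h3 (ZC.cmem.1 (mem_cent1_symm (mul_mem (ZC.cmem.2 (h2 b h.hb).symm)
      (mem_cent1_symm (h.Tc (h.V₂T h.hb)))))) with e | e
    · exact Or.inr (Or.inr (Or.inl (by rw [← mul_left_inj c₁, e, h.h₁.csq])))
    · exact Or.inr (Or.inr (Or.inr (by rw [← e, mul_assoc, h.h₁.csq, mul_one])))

theorem ZT' {y : G} (hy : y ∈ T) (h1 : T ≤ 𝐂[y]) : y = 1 ∨ y = z ∨ y = c₁ ∨ y = z * c₁ :=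
  h.ZT hy (fun _ hx => ZC.cmem.1 (h1 (h.V₁T hx))) fun _ hx => ZC.cmem.1 (h1 (h.V₂T hx))

theorem c_eq : c₂ = z * c₁ := by
  rcases h.ZT' h.symm.cT h.symm.Tc with e | e | e | e
  · exact absurd e h.n₂
  · exact absurd (by simpa using e) (h.symm.nconj 1)
  · exact absurd (by rw [← h.cent, ← e, h.symm.cent]) h.ne
  · exact e

theorem sqT {y : G} (hy : y ∈ T) (h2 : y * y = 1) : y ∈ 𝐂(V₁) ∨ y ∈ 𝐂(V₂) := by
  have h3 : a * b * (a * b) = z := by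
    rw [mul_assoc, ← mul_assoc b, h.ba, mul_assoc, mul_assoc, h.bb, mul_one, ← mul_assoc, h.az, mul_assoc, h.aa,
      mul_one]
  have key : ∀ x ∈ V₁ ⊔ V₂, x * x = 1 → x ∈ 𝐂(V₁) ∨ x ∈ 𝐂(V₂) := fun x hx h2 => by
    rcases h.memD hx with h4 | h4 | h4 | h4
    · exact Or.inl (h.h₁.le_cent h4)
    · exact Or.inr (h.h₂.le_cent h4)
    · exact absurd (by rw [← h2, h4, h3]) h.z1
    · refine absurd ?_ h.z1
      rw [← h2, h4, mul_assoc, ← mul_assoc (a * b), ZC.cmem.1 (h.Tz (mul_mem (h.V₁T h.ha) (h.V₂T h.hb))),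
        mul_assoc, h.zz', h3]
  have hc : ∀ V, V ≤ T → c₁ ∈ 𝐂(V) := fun V hV x hx => ZC.cmem.1 (h.Tc (hV hx))
  refine (h.memT hy).elim (fun h4 => key y h4 h2) fun h4 => (key _ h4 ?_).imp
    (mul_mem_cancel_right (hc _ h.V₁T)).1 (mul_mem_cancel_right (hc _ h.V₂T)).1
  rw [mul_assoc, ← mul_assoc c₁, ← ZC.cmem.1 (h.Tc hy), mul_assoc, h.h₁.csq, mul_one, h2]

theorem mem_T (hs : s ∈ S) (hc : s ∈ 𝐂[c₁]) : s ∈ T :=
  h.s₁.le_of_le (le_inf h.TS h.s₁.le) inf_le_right (h.syl.isPGroup.to_le inf_le_left) ⟨hs, h.cent ▸ hc⟩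

theorem Z_conj (hn : s ∈ 𝐍(T)) {y : G} (hy : y ∈ T) (h1 : T ≤ 𝐂[y]) :
    s * y * s⁻¹ = 1 ∨ s * y * s⁻¹ = z ∨ s * y * s⁻¹ = c₁ ∨ s * y * s⁻¹ = z * c₁ :=
  h.ZT' ((mem_normalizer_iff.1 hn y).1 hy)
    (by rw [← cj_centralizer_singleton, ← cj_of_mem_normalizer hn]; exact cj_mono s h1)

theorem sz (hn : s ∈ 𝐍(T)) : s * z * s⁻¹ = z := by
  rcases h.Z_conj hn (h.V₁T h.z₁) h.Tz with e | e | e | e
  · exact absurd (by simpa using e) h.z1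
  · exact e
  · exact absurd (by rw [← e]; group) (h.nconj s⁻¹)
  · exact absurd (by rw [h.c_eq, ← e]; group) (h.symm.nconj s⁻¹)

theorem sc (hs : s ∈ S) (hn : s ∈ 𝐍(T)) (hT : s ∉ T) : s * c₁ * s⁻¹ = c₂ := by
  rcases h.Z_conj hn h.cT h.Tc with e | e | e | e
  · exact absurd (by simpa using e) h.n₁
  · exact absurd e (h.nconj s)
  · exact absurd (h.mem_T hs (ZC.cmem.2 (mul_inv_eq_iff_eq_mul.1 e))) hT
  · rw [e, h.c_eq]

theorem sV (hs : s ∈ S) (hn : s ∈ 𝐍(T)) (hT : s ∉ T) {x : G} (hx : x ∈ V₁) : s * x * s⁻¹ ∈ V₂ := by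
  have := h.h₁.conj s
  rw [← h.cent, cj_centralizer_singleton, h.sc hs hn hT, h.symm.cent] at this
  exact h.h₂.unique this ▸ conj_mem_cj s hx

theorem mul (hs : s ∈ S) (hn : s ∈ 𝐍(T)) (hT : s ∉ T) {t : G} (hs' : t ∈ S) (hn' : t ∈ 𝐍(T)) (hT' : t ∉ T) :
    s * t ∈ T := by
  refine h.mem_T (mul_mem hs hs') (ZC.cmem.2 (mul_inv_eq_iff_eq_mul.1 ?_))
  calc _ = s * (t * c₁ * t⁻¹) * s⁻¹ := by group
    _ = _ := by rw [h.sc hs' hn' hT', h.symm.sc hs hn hT]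

theorem cent_swap (hs : s ∈ S) (hn : s ∈ 𝐍(T)) (hT : s ∉ T) {y : G} (hc : s ∈ 𝐂[y]) (h1 : y ∈ 𝐂(V₂)) :
    y ∈ 𝐂(V₁) := fun x hx => by
  have := h1 _ (h.sV hs hn hT hx)
  rw [← mul_inv_eq_iff_eq_mul.2 (ZC.cmem.1 hc), conj_mul, conj_mul] at this
  exact (MulAut.conj s).injective this

theorem fix (hs : s ∈ S) (hn : s ∈ 𝐍(T)) (hT : s ∉ T) {y : G} (hy : y ∈ T) (h2 : y * y = 1) (hc : s ∈ 𝐂[y]) :
    y = 1 ∨ y = z := by
  have h3 : y ∈ 𝐂(V₁) ∧ y ∈ 𝐂(V₂) := (h.sqT hy h2).elim (fun h1 => ⟨h1, h.symm.cent_swap hs hn hT hc h1⟩)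
    fun h1 => ⟨h.cent_swap hs hn hT hc h1, h1⟩
  rcases h.ZT hy h3.1 h3.2 with e | e | e | e
  · exact Or.inl e
  · exact Or.inr e
  · exact absurd (h.mem_T hs (e ▸ hc)) hT
  · exact absurd (h.symm.mem_T hs (h.c_eq ▸ e ▸ hc)) hT

theorem le_norm : S ≤ 𝐍(T) := by
  by_contra hn
  obtain ⟨x, hx, hxn⟩ := SetLike.exists_of_lt (lt_inf_normalizer_of_lt h.syl.isPGroup
    (lt_of_le_of_ne (inf_le_left : S ⊓ 𝐍(T) ≤ S) fun e => hn (inf_eq_left.1 e)))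
  have h0 : ∀ y ∈ T, x * y * x⁻¹ ∈ S ⊓ 𝐍(T) := fun y hy =>
    (mem_normalizer_iff.1 hx.2 y).1 ⟨h.TS hy, le_normalizer hy⟩
  have hz : x * z * x⁻¹ = z := by
    have h1 : S ⊓ 𝐍(T) ≤ 𝐂[x * z * x⁻¹] := by
      rw [← cj_centralizer_singleton, ← cj_of_mem_normalizer hx.2]
      exact cj_mono x fun t ht => ZC.cmem.2 (mul_inv_eq_iff_eq_mul.1 (h.sz ht.2))
    have h2 : T ≤ S ⊓ 𝐍(T) := le_inf h.TS le_normalizer
    have h3 := h.mem_T (h0 z (h.V₁T h.z₁)).1 (mem_cent1_symm (h1 (h2 h.cT)))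
    rcases h.ZT' h3 (h2.trans h1) with e | e | e | e
    · exact absurd (by simpa using e) h.z1
    · exact e
    · exact absurd (by rw [← e]; group) (h.nconj x⁻¹)
    · exact absurd (by rw [h.c_eq, ← e]; group) (h.symm.nconj x⁻¹)
  have key : ∀ y ∈ T, ∀ w ∈ T, y * y = 1 → w ∈ 𝐂[y] → x * y * x⁻¹ ∈ T → x * w * x⁻¹ ∉ T → y ∈ V₁ ⊓ V₂ :=
    fun y hy w hw h2 hc h3 h4 => by
      rcases h.fix (h0 w hw).1 (h0 w hw).2 h4 h3 (by rw [conj_mul, h2]; group)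
        (by rw [← cj_centralizer_singleton]; exact conj_mem_cj x hc) with e | e
      · rw [show y = 1 by simpa using e]; exact one_mem _
      · rw [(MulAut.conj x).injective (e.trans hz.symm)]; exact ⟨h.z₁, h.z₂⟩
  have hcD : c₁ ∉ V₁ ⊔ V₂ := by simpa using h.nD 1
  have ha := h.V₁T h.ha
  have hc : x * c₁ * x⁻¹ ∈ T := by
    by_contra hc
    by_cases h1 : x * a * x⁻¹ ∈ T
    · exact h.nc (Invol.klein_commute h.h₂.klein h.hb (key a ha c₁ h.cT h.aa (mem_cent1_symm (h.Tc ha)) h1 hc).2)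
    · have h2 := h.mul (h0 a ha).1 (h0 a ha).2 h1 (h0 _ h.cT).1 (h0 _ h.cT).2 hc
      rw [conj_mul] at h2
      refine hcD (mem_sup_left ((mul_mem_cancel_left h.ha).1 (key _ (mul_mem ha h.cT) c₁ h.cT ?_
        (mem_cent1_symm (h.Tc (mul_mem ha h.cT))) h2 hc).1))
      rw [mul_assoc, ← mul_assoc c₁, ← ZC.cmem.1 (h.Tc ha), mul_assoc, h.h₁.csq, mul_one, h.aa]
  refine hxn ⟨hx.1, PGrp.mem_normalizer_of_conj_mem fun w hw => ?_⟩
  by_contra h1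
  exact hcD (mem_sup_left (key c₁ h.cT w hw h.h₁.csq (h.Tc hw) hc h1).1)

theorem sa (hs : s ∈ S) (hT : s ∉ T) : s * a * s⁻¹ = b ∨ s * a * s⁻¹ = z * b := by
  rcases h.symm.memV (h.sV hs (h.le_norm hs) hT h.ha) with e | e | e | e
  · exact absurd (by simp [show a = 1 by simpa using e]) h.nc
  · exact absurd (((MulAut.conj s).injective (e.trans (h.sz (h.le_norm hs)).symm)) ▸ h.bz) h.nc
  · exact Or.inl e
  · exact Or.inr e

theorem key (hs : s ∈ S) (hT : s ∉ T) :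
    (s * s * a * (s * s)⁻¹ = a ∧ s * (a * b) * s⁻¹ = z * (a * b)) ∨
      (s * s * a * (s * s)⁻¹ = z * a ∧ s * (a * b) * s⁻¹ = a * b) := by
  have hz := h.sz (h.le_norm hs)
  have e1 : s * s * a * (s * s)⁻¹ = s * (s * a * s⁻¹) * s⁻¹ := by group
  have h1 : b * (z * a) = a * b := by rw [← mul_assoc, h.bz, mul_assoc, h.ba, h.zz']
  rw [e1, show s * (a * b) * s⁻¹ = s * a * s⁻¹ * (s * b * s⁻¹) from conj_mul.symm]
  rcases h.sa hs hT with e | e <;> rcases h.symm.sa hs hT with e' | e' <;> rw [e]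
  · exact Or.inl ⟨e', by rw [e', h.ba]⟩
  · exact Or.inr ⟨e', by rw [e', h1]⟩
  · exact Or.inr ⟨by rw [← conj_mul, hz, e'], by rw [e', mul_assoc, h.ba, h.zz']⟩
  · exact Or.inl ⟨by rw [← conj_mul, hz, e', h.zz'], by rw [e', mul_assoc, h1]⟩

/-- the elements `d` of `D` with `d ^ s = z d` have order four -/
theorem four (hs : s ∈ S) (hT : s ∉ T) {d : G} (hd : d ∈ V₁) : s * d * s⁻¹ ≠ z * d := fun e => by
  have hz := h.sz (h.le_norm hs)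
  rcases h.inter hd ((mul_mem_cancel_left h.z₂).1 (e ▸ h.sV hs (h.le_norm hs) hT hd)) with e' | e'
  · exact h.z1 (by simpa [e'] using e.symm)
  · exact h.z1 (by rwa [e', hz, h.zz] at e)

theorem sq_mem (hs : s ∈ S) (hT : s ∉ T) : s * s ∈ V₁ ⊔ V₂ := by
  have hn := h.le_norm hs
  have hz := h.sz hn
  have h1 := h.mul hs hn hT hs hn hT
  refine (h.memT h1).resolve_right fun hd => ?_
  have h2 : s * (s * s * c₁) * s⁻¹ = z * (s * s * c₁) := by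
    calc _ = s * s * (s * c₁ * s⁻¹) := by group
      _ = _ := by rw [h.sc hs hn hT, h.c_eq, ← mul_assoc, ZC.cmem.1 (h.Tz h1), mul_assoc]
  have h3 : s * s * a * (s * s)⁻¹ = a → s * s * c₁ ∈ 𝐂[a] := fun e =>
    mul_mem (ZC.cmem.2 (mul_inv_eq_iff_eq_mul.1 e)) (mem_cent1_symm (h.Tc (h.V₁T h.ha)))
  rcases h.memD hd with h5 | h5 | h5 | h5
  · exact h.four hs hT h5 h2
  · exact h.symm.four hs hT h5 h2
  · rw [h5] at h2 h3
    rcases h.key hs hT with h6 | h6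
    · exact h.nc (ZC.cmem.1 ((mul_mem_cancel_left (self_mem a)).1 (h3 h6.1)))
    · exact h.z1 (by simpa [h6.2] using h2.symm)
  · rw [h5] at h2 h3
    rcases h.key hs hT with h6 | h6
    · exact h.nc (ZC.cmem.1 ((mul_mem_cancel_left (self_mem a)).1
        ((mul_mem_cancel_left (ZC.cmem.2 h.az.symm)).1 (h3 h6.1))))
    · rw [← conj_mul, hz, h6.2, h.zz'] at h2
      exact h.z1 (by simpa using h2)

theorem not_invol (hs : s ∈ S) (hT : s ∉ T) (h2 : s * s = 1) {d : G} (hd : d ∈ V₁ ⊔ V₂) :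
    s * c₁ * d * (s * c₁ * d) ≠ 1 := fun e => by
  have hn := h.le_norm hs
  have hz := h.sz hn
  have h1 : s * d * s⁻¹ * d = z := by
    have h3 : s * c₁ * d * (s * c₁ * d) = s * c₁ * s⁻¹ * (s * d * s⁻¹) * (s * s) * c₁ * d := by group
    have h4 := ZC.cmem.1 (h.Tc ((mem_normalizer_iff.1 hn d).1 (h.DT hd)))
    rw [h3, h2, mul_one, h.sc hs hn hT, h.c_eq, mul_assoc z, ← h4, mul_assoc z, mul_assoc _ c₁, h.h₁.csq, mul_one,
      mul_assoc z] at e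
    rw [← mul_right_inj z, e, h.zz]
  have h5 : a * b * (a * b) = z := by
    rw [mul_assoc, ← mul_assoc b, h.ba, mul_assoc, mul_assoc, h.bb, mul_one, ← mul_assoc, h.az, mul_assoc, h.aa,
      mul_one]
  have h6 : s * (a * b) * s⁻¹ = z * (a * b) := ((h.key hs hT).resolve_right fun h7 => h.z1 (by
    simpa [h2] using h7.1)).2
  rcases h.memD hd with h7 | h7 | h7 | h7
  · exact h.four hs hT h7 (by rw [← h1, mul_assoc _ d d, h.h₁.sq h7, mul_one])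
  · exact h.symm.four hs hT h7 (by rw [← h1, mul_assoc _ d d, h.h₂.sq h7, mul_one])
  · rw [h7, h6, mul_assoc, h5, h.zz] at h1
    exact h.z1 h1.symm
  · rw [h7, ← conj_mul, hz, h6, h.zz', ← mul_assoc, ZC.cmem.1 (h.Tz (mul_mem (h.V₁T h.ha) (h.V₂T h.hb))),
      mul_assoc, h5, h.zz] at h1
    exact h.z1 h1.symm

theorem transfer (h1 : ∀ x ∈ S, x ∈ N ∨ x * c₁ ∈ N) (h2 : ∀ y ∈ N, y * y = 1 → y ∈ V₁ ⊔ V₂) :
    c₁ ∉ pResidual 2 G := fun hc => by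
  have h3 : ∀ g, g * c₁ * g⁻¹ ∉ N := fun g hg => h.nD g (h2 _ hg (h.h₁.conj g).csq)
  obtain ⟨K, hK, hcK⟩ := Invol.thompson_transfer (H := S) (M := N)
    (Nat.not_even_iff_odd.1 fun he => h.syl.not_dvd_index (even_iff_two_dvd.1 he))
    (relIndex_eq_two_iff.2 ⟨c₁, h.TS h.cT, fun x hx => by
      by_cases h4 : x ∈ N
      · exact Or.inr ⟨h4, fun h5 => h3 1 (by simpa using (mul_mem_cancel_left h4).1 h5)⟩
      · exact Or.inl ⟨(h1 x hx).resolve_left h4, h4⟩⟩) h.two h3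
  exact hcK ((closure_le K).2 (fun x hx => Invol.mem_of_odd_of_index_two hK (Nat.coprime_two_right.1 hx)) hc)

theorem transfer' (hs : s ∈ S) (hT : s ∉ T) (h2 : ∀ d ∈ V₁ ⊔ V₂, s * d * (s * d) ≠ 1) : c₁ ∉ pResidual 2 G := by
  have hn := h.le_norm hs
  have hD : s ∈ 𝐍(V₁ ⊔ V₂) := mem_normalizer_of_cj_le (by
    rw [cj_sup]
    exact sup_le (cj_le_iff'.2 fun x hx => mem_sup_right (h.sV hs hn hT hx))
      (cj_le_iff'.2 fun x hx => mem_sup_left (h.symm.sV hs hn hT hx)))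
  have hm := fun x => mem_sup_two (x := x) hD (h.sq_mem hs hT)
  refine h.transfer (N := (V₁ ⊔ V₂) ⊔ zpowers s) (fun x hx => ?_) fun y hy h3 => ((hm y).1 hy).resolve_right
    fun h4 => h2 _ h4 (by rwa [mul_inv_cancel_left])
  by_cases h1 : x ∈ T
  · exact (h.memT h1).imp mem_sup_left mem_sup_left
  · refine (h.memT (h.mul (inv_mem hs) (inv_mem hn) (by simpa using hT) hx (h.le_norm hx) h1)).imp
      (fun h3 => (hm _).2 (Or.inr h3)) fun h3 => (hm _).2 (Or.inr (mul_assoc s⁻¹ x c₁ ▸ h3))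

theorem not_mem_res : c₁ ∉ pResidual 2 G := by
  by_cases h1 : ∃ s ∈ S, s ∉ T ∧ s * s = 1
  · obtain ⟨s, hs, hT, h2⟩ := h1
    exact h.transfer' (mul_mem hs (h.TS h.cT)) (fun h3 => hT ((mul_mem_cancel_right h.cT).1 h3))
      fun d hd => h.not_invol hs hT h2 hd
  by_cases h2 : S ≤ T
  · exact h.transfer (fun x hx => h.memT (h2 hx)) fun _ hy _ => hy
  obtain ⟨s, hs, hT⟩ := SetLike.not_le_iff_exists.1 h2
  exact h.transfer' hs hT fun d hd e =>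
    h1 ⟨_, mul_mem hs (h.TS (h.DT hd)), fun h3 => hT ((mul_mem_cancel_right (h.DT hd)).1 h3), e⟩

end E2

theorem mx_of (h : IsMaximalTwoLocal P) : MX P := fun R hR hne hle => h.2 _ ⟨R, hR, hne, rfl⟩ hle

theorem main (m₁ : IsMaximalTwoLocal P₁) (m₂ : IsMaximalTwoLocal P₂) (s₁ : Syl 2 T P₁) (s₂ : Syl 2 T P₂)
    (hne : P₁ ≠ P₂) (h : (Nonempty (P₁ ≃* S₄) ∧ Nonempty (P₂ ≃* S₄)) ∨
      (Nonempty (P₁ ≃* S₄ × Multiplicative (ZMod 2)) ∧ Nonempty (P₂ ≃* S₄ × Multiplicative (ZMod 2)))) :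
    ∃ M₁ M₂ : Subgroup (pResidual 2 G), M₁ ≠ M₂ ∧ IsMaximalTwoLocal M₁ ∧
      IsMaximalTwoLocal M₂ ∧ Nonempty (M₁ ≃* S₄) ∧ Nonempty (M₂ ≃* S₄) ∧ Nat.card ↥(M₁ ⊓ M₂) = 8 := by
  rcases h with ⟨⟨e₁⟩, ⟨e₂⟩⟩ | ⟨⟨e₁⟩, ⟨e₂⟩⟩
  · obtain ⟨V₁, c₁, h₁, i₁, n₁⟩ := exists_A4 (1 : Unit) rfl (fun _ => Or.inl rfl) (e₁.trans MulEquiv.prodUnique.symm)
    obtain ⟨V₂, c₂, h₂, i₂, n₂⟩ := exists_A4 (1 : Unit) rfl (fun _ => Or.inl rfl) (e₂.trans MulEquiv.prodUnique.symm)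
    obtain ⟨a, b, z, h⟩ := Cf.exists_el ⟨h₁, h₂, mx_of m₁, mx_of m₂, s₁, s₂, hne⟩
    exact h.fin i₁ i₂ (fun _ => n₁.2 rfl) fun _ => n₂.2 rfl
  · obtain ⟨V₁, c₁, h₁, i₁, n₁⟩ := exists_A4 (Multiplicative.ofAdd (1 : ZMod 2)) (by decide) (by decide) e₁
    obtain ⟨V₂, c₂, h₂, i₂, n₂⟩ := exists_A4 (Multiplicative.ofAdd (1 : ZMod 2)) (by decide) (by decide) e₂
    obtain ⟨a, b, z, h⟩ := Cf.exists_el ⟨h₁, h₂, mx_of m₁, mx_of m₂, s₁, s₂, hne⟩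
    obtain ⟨S, hS, hTS⟩ := exists_syl_ge s₁.isPGroup le_top
    have h' : E2 P₁ P₂ V₁ V₂ T c₁ c₂ a b z S :=
      ⟨h, fun e => absurd (n₁.1 e) (by decide), fun e => absurd (n₂.1 e) (by decide), hS, hTS⟩
    exact h.fin i₁ i₂ (fun e => absurd e h'.not_mem_res) fun e => absurd e h'.symm.not_mem_res

end Cfsg.Lib.Push.ZN
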